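import Mathlib

/-!
# Adic completeness of finite projective modules and lifting of idempotent endomorphisms

helper60.
-/

set_option autoImplicit false
set_option maxHeartbeats 400000

namespace Groth.Agent.Lib.Helper60.AdicProj

variable {W : Type*} [CommRing W] (I : Ideal W)

section basics

variable {P Q : Type*} [AddCommGroup P] [Module W P] [AddCommGroup Q] [Module W Q]

theorem map_mem_smul_top (J : Ideal W) (f : P →ₗ[W] Q) (x : P)
    (hx : x ∈ J • (⊤ : Submodule W P)) : f x ∈ J • (⊤ : Submodule W Q) := by
  have : (J • (⊤ : Submodule W P)).map f ≤ J • (⊤ : Submodule W Q) := by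
    rw [Submodule.map_smul'']
    exact Submodule.smul_mono le_rfl le_top
  exact this ⟨x, hx, rfl⟩

theorem map_mem_smul_smul (J J' : Ideal W) (f : P →ₗ[W] Q)
    (hf : ∀ x, f x ∈ J' • (⊤ : Submodule W Q)) (x : P)
    (hx : x ∈ J • (⊤ : Submodule W P)) : f x ∈ (J * J') • (⊤ : Submodule W Q) := by
  have : (J • (⊤ : Submodule W P)).map f ≤ (J * J') • (⊤ : Submodule W Q) := by
    rw [Submodule.map_smul'', mul_smul]
    apply Submodule.smul_mono le_rfl
    rintro _ ⟨y, _, rfl⟩
    exact hf y
  exact this ⟨x, hx, rfl⟩

/-- a retract of a Hausdorff module is Hausdorff -/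
theorem isHausdorff_of_retract (i : P →ₗ[W] Q) (r : Q →ₗ[W] P) (h : ∀ x, r (i x) = x)
    [IsHausdorff I Q] : IsHausdorff I P := by
  constructor
  intro x hx
  have : i x = 0 := by
    apply IsHausdorff.haus (I := I) inferInstance
    intro n
    rw [SModEq.zero]
    exact map_mem_smul_top _ i x (SModEq.zero.mp (hx n))
  rw [← h x, this, map_zero]

/-- a retract of a precomplete module is precomplete -/
theorem isPrecomplete_of_retract (i : P →ₗ[W] Q) (r : Q →ₗ[W] P) (h : ∀ x, r (i x) = x)
    [IsPrecomplete I Q] : IsPrecomplete I P := by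
  constructor
  intro f hf
  obtain ⟨L, hL⟩ := IsPrecomplete.prec (I := I) (M := Q) inferInstance (f := fun n => i (f n)) (by
    intro m n hmn
    rw [SModEq.sub_mem, ← map_sub]
    exact map_mem_smul_top _ i _ (SModEq.sub_mem.mp (hf hmn)))
  refine ⟨r L, fun n => ?_⟩
  rw [SModEq.sub_mem]
  have := map_mem_smul_top _ r _ (SModEq.sub_mem.mp (hL n))
  rwa [map_sub, h] at this

theorem isAdicComplete_of_retract (i : P →ₗ[W] Q) (r : Q →ₗ[W] P) (h : ∀ x, r (i x) = x)
    [IsAdicComplete I Q] : IsAdicComplete I P := by
  haveI := isHausdorff_of_retract I i r h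
  haveI := isPrecomplete_of_retract I i r h
  exact {}

/-- finite products of the ring -/
theorem isAdicComplete_pi (ι : Type*) [Fintype ι] [DecidableEq ι] [IsAdicComplete I W] :
    IsAdicComplete I (ι → W) := by
  have hmem : ∀ (n : ℕ) (y : ι → W), (∀ j, y j ∈ I ^ n) →
      y ∈ I ^ n • (⊤ : Submodule W (ι → W)) := by
    intro n y hy
    rw [pi_eq_sum_univ y]
    apply Submodule.sum_mem
    intro j _
    exact Submodule.smul_mem_smul (hy j) Submodule.mem_top
  have hcoord : ∀ (n : ℕ) (y : ι → W), y ∈ I ^ n • (⊤ : Submodule W (ι → W)) →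
      ∀ j, y j ∈ I ^ n := by
    intro n y hy j
    have := map_mem_smul_top (I ^ n) (LinearMap.proj j : (ι → W) →ₗ[W] W) y hy
    rwa [smul_eq_mul, Ideal.mul_top] at this
  haveI : IsHausdorff I (ι → W) := by
    constructor
    intro x hx
    funext j
    apply IsHausdorff.haus (I := I) (M := W) inferInstance
    intro n
    rw [SModEq.zero, smul_eq_mul, Ideal.mul_top]
    exact hcoord n x (SModEq.zero.mp (hx n)) j
  haveI : IsPrecomplete I (ι → W) := by
    constructor
    intro f hf
    have : ∀ j, ∃ L : W, ∀ n, f n j ≡ L [SMOD (I ^ n • ⊤ : Submodule W W)] := by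
      intro j
      apply IsPrecomplete.prec (I := I) (M := W) inferInstance
      intro m n hmn
      rw [SModEq.sub_mem, smul_eq_mul, Ideal.mul_top]
      exact hcoord m _ (SModEq.sub_mem.mp (hf hmn)) j
    choose L hL using this
    refine ⟨L, fun n => ?_⟩
    rw [SModEq.sub_mem]
    apply hmem
    intro j
    have := hL j n
    rw [SModEq.sub_mem, smul_eq_mul, Ideal.mul_top] at this
    exact this
  exact {}

/-- finite projective modules over an adically complete ring are adically complete -/
theorem isAdicComplete_of_finite_projective [IsAdicComplete I W] [Module.Finite W P]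
    [Module.Projective W P] : IsAdicComplete I P := by
  classical
  obtain ⟨n, f, hf⟩ := Module.Finite.exists_fin' W P
  obtain ⟨g, hg⟩ := Module.projective_lifting_property f LinearMap.id hf
  haveI := isAdicComplete_pi I (Fin n)
  exact isAdicComplete_of_retract I g f (fun x => LinearMap.congr_fun hg x)

end basics

section newton

variable {P : Type*} [AddCommGroup P] [Module W P]

/-- Newton step for idempotents -/
def step (e : Module.End W P) : Module.End W P := 3 * e ^ 2 - 2 * e ^ 3

theorem step_sub (e : Module.End W P) : step e - e = (e ^ 2 - e) * (1 - 2 * e) := by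
  unfold step
  noncomm_ring

theorem step_sq_sub (e : Module.End W P) :
    step e ^ 2 - step e = (e ^ 2 - e) * ((e ^ 2 - e) * (4 * e ^ 2 - 4 * e - 3)) := by
  unfold step
  noncomm_ring

/-- the Newton sequence -/
def seq (ε : Module.End W P) : ℕ → Module.End W P
  | 0 => ε
  | (j + 1) => step (seq ε j)

variable (ε : Module.End W P) (h0 : ∀ x, ε (ε x) - ε x ∈ I • (⊤ : Submodule W P))

include h0 in
theorem seq_sq_sub (j : ℕ) :
    ∀ x, (seq ε j ^ 2 - seq ε j) x ∈ I ^ (j + 1) • (⊤ : Submodule W P) := by
  induction j with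
  | zero =>
    intro x
    rw [zero_add, pow_one]
    exact h0 x
  | succ j ih =>
    intro x
    show (step (seq ε j) ^ 2 - step (seq ε j)) x ∈ _
    rw [step_sq_sub, Module.End.mul_apply, Module.End.mul_apply]
    set c : Module.End W P := 4 * seq ε j ^ 2 - 4 * seq ε j - 3 with hc
    have h1 := map_mem_smul_smul (I ^ (j + 1)) (I ^ (j + 1)) (seq ε j ^ 2 - seq ε j) ih _
      (ih (c x))
    refine Submodule.smul_mono ?_ le_rfl h1
    rw [← pow_add]
    exact Ideal.pow_le_pow_right (by omega)

include h0 in
theorem seq_succ_sub (j : ℕ) (x : P) :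
    seq ε (j + 1) x - seq ε j x ∈ I ^ (j + 1) • (⊤ : Submodule W P) := by
  have : seq ε (j + 1) x - seq ε j x = (step (seq ε j) - seq ε j) x := rfl
  rw [this, step_sub, Module.End.mul_apply]
  exact seq_sq_sub I ε h0 j _

include h0 in
theorem seq_cauchy (x : P) {m n : ℕ} (hmn : m ≤ n) :
    seq ε m x ≡ seq ε n x [SMOD (I ^ m • ⊤ : Submodule W P)] := by
  induction n, hmn using Nat.le_induction with
  | base => exact SModEq.refl _
  | succ n hmn ih =>
    refine ih.trans ?_
    rw [SModEq.sub_mem, ← neg_sub, neg_mem_iff]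
    exact Submodule.smul_mono (Ideal.pow_le_pow_right (by omega)) le_rfl (seq_succ_sub I ε h0 n x)

variable [IsAdicComplete I P]

include h0 in
/-- lifting an idempotent modulo `I` to an idempotent endomorphism -/
theorem exists_idempotent_lift :
    ∃ e : Module.End W P, (∀ x, e (e x) = e x) ∧ ∀ x, e x - ε x ∈ I • (⊤ : Submodule W P) := by
  have hlim : ∀ x : P, ∃ L : P, ∀ n, seq ε n x ≡ L [SMOD (I ^ n • ⊤ : Submodule W P)] := fun x =>
    IsPrecomplete.prec (I := I) (M := P) inferInstance (fun hmn => seq_cauchy I ε h0 x hmn)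
  choose L hL using hlim
  have hL' : ∀ x n, L x - seq ε n x ∈ I ^ n • (⊤ : Submodule W P) := by
    intro x n
    have := hL x n
    rw [SModEq.sub_mem, ← neg_sub, neg_mem_iff] at this
    exact this
  have heq : ∀ a b : P, (∀ n, a - b ∈ I ^ n • (⊤ : Submodule W P)) → a = b := by
    intro a b h
    rw [← sub_eq_zero]
    apply IsHausdorff.haus (I := I) (M := P) inferInstance
    intro n
    rw [SModEq.zero]
    exact h n
  have hadd : ∀ x y, L (x + y) = L x + L y := by
    intro x y
    apply heq
    intro n
    have : L (x + y) - (L x + L y) =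
        (L (x + y) - seq ε n (x + y)) - (L x - seq ε n x) - (L y - seq ε n y) := by
      rw [map_add]
      abel
    rw [this]
    exact sub_mem (sub_mem (hL' _ n) (hL' _ n)) (hL' _ n)
  have hsmul : ∀ (w : W) (x : P), L (w • x) = w • L x := by
    intro w x
    apply heq
    intro n
    have : L (w • x) - w • L x = (L (w • x) - seq ε n (w • x)) - w • (L x - seq ε n x) := by
      rw [map_smul, smul_sub]
      abel
    rw [this]
    exact sub_mem (hL' _ n) (Submodule.smul_mem _ _ (hL' _ n))
  let e : Module.End W P :=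
    { toFun := L
      map_add' := hadd
      map_smul' := hsmul }
  have he : ∀ x, e x = L x := fun x => rfl
  refine ⟨e, ?_, ?_⟩
  · intro x
    rw [he, he]
    apply heq
    intro n
    have h1 : seq ε n (L x) - seq ε n (seq ε n x) ∈ I ^ n • (⊤ : Submodule W P) := by
      rw [← map_sub]
      exact map_mem_smul_top _ _ _ (hL' x n)
    have h2 : seq ε n (seq ε n x) - seq ε n x ∈ I ^ n • (⊤ : Submodule W P) := by
      have := seq_sq_sub I ε h0 n x
      rw [LinearMap.sub_apply, pow_two, Module.End.mul_apply] at this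
      exact Submodule.smul_mono (Ideal.pow_le_pow_right (by omega)) le_rfl this
    have : L (L x) - L x = (L (L x) - seq ε n (L x)) + (seq ε n (L x) - seq ε n (seq ε n x)) +
        (seq ε n (seq ε n x) - seq ε n x) - (L x - seq ε n x) := by abel
    rw [this]
    exact sub_mem (add_mem (add_mem (hL' _ n) h1) h2) (hL' _ n)
  · intro x
    rw [he]
    have h1 := hL' x 1
    have h2 := seq_succ_sub I ε h0 0 x
    rw [zero_add] at h2
    rw [pow_one] at h1 h2
    have : L x - ε x = (L x - seq ε 1 x) + (seq ε 1 x - seq ε 0 x) := by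
      show L x - ε x = (L x - seq ε 1 x) + (seq ε 1 x - ε x)
      abel
    rw [this]
    exact add_mem h1 h2

end newton

section newton2

variable {P : Type*} [AddCommGroup P] [Module W P]

theorem step_apply (e : Module.End W P) (x : P) :
    step e x = (3 : ℕ) • e (e x) - (2 : ℕ) • e (e (e x)) := by
  unfold step
  simp only [LinearMap.sub_apply, Module.End.mul_apply, pow_succ, pow_zero, one_mul]
  have h3 : (3 : Module.End W P) = ((3 : ℕ) : Module.End W P) := by norm_cast
  have h2 : (2 : Module.End W P) = ((2 : ℕ) : Module.End W P) := by norm_cast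
  rw [h3, h2, Module.End.natCast_apply, Module.End.natCast_apply]

/-- doubling version: no completeness needed -/
theorem seq_sq_sub_pow (𝔟 : Ideal W) (ε : Module.End W P)
    (h0 : ∀ x, ε (ε x) - ε x ∈ 𝔟 • (⊤ : Submodule W P)) (j : ℕ) :
    ∀ x, (seq ε j ^ 2 - seq ε j) x ∈ 𝔟 ^ (2 ^ j) • (⊤ : Submodule W P) := by
  induction j with
  | zero =>
    intro x
    rw [pow_zero, pow_one]
    exact h0 x
  | succ j ih =>
    intro x
    show (step (seq ε j) ^ 2 - step (seq ε j)) x ∈ _
    rw [step_sq_sub, Module.End.mul_apply, Module.End.mul_apply]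
    set c : Module.End W P := 4 * seq ε j ^ 2 - 4 * seq ε j - 3 with hc
    have h1 := map_mem_smul_smul (𝔟 ^ (2 ^ j)) (𝔟 ^ (2 ^ j)) (seq ε j ^ 2 - seq ε j) ih _
      (ih (c x))
    rw [← pow_add] at h1
    rw [pow_succ, mul_two]
    exact h1

/-- strengthened version of `exists_idempotent_lift`: the idempotent is the limit of the
Newton sequence -/
theorem exists_idempotent_lift' [IsAdicComplete I P] (ε : Module.End W P)
    (h0 : ∀ x, ε (ε x) - ε x ∈ I • (⊤ : Submodule W P)) :
    ∃ e : Module.End W P, (∀ x, e (e x) = e x) ∧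
      ∀ x n, e x - seq ε n x ∈ I ^ n • (⊤ : Submodule W P) := by
  have hlim : ∀ x : P, ∃ L : P, ∀ n, seq ε n x ≡ L [SMOD (I ^ n • ⊤ : Submodule W P)] := fun x =>
    IsPrecomplete.prec (I := I) (M := P) inferInstance (fun hmn => seq_cauchy I ε h0 x hmn)
  choose L hL using hlim
  have hL' : ∀ x n, L x - seq ε n x ∈ I ^ n • (⊤ : Submodule W P) := by
    intro x n
    have := hL x n
    rw [SModEq.sub_mem, ← neg_sub, neg_mem_iff] at this
    exact this
  have heq : ∀ a b : P, (∀ n, a - b ∈ I ^ n • (⊤ : Submodule W P)) → a = b := by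
    intro a b h
    rw [← sub_eq_zero]
    apply IsHausdorff.haus (I := I) (M := P) inferInstance
    intro n
    rw [SModEq.zero]
    exact h n
  have hadd : ∀ x y, L (x + y) = L x + L y := by
    intro x y
    apply heq
    intro n
    have : L (x + y) - (L x + L y) =
        (L (x + y) - seq ε n (x + y)) - (L x - seq ε n x) - (L y - seq ε n y) := by
      rw [map_add]
      abel
    rw [this]
    exact sub_mem (sub_mem (hL' _ n) (hL' _ n)) (hL' _ n)
  have hsmul : ∀ (w : W) (x : P), L (w • x) = w • L x := by
    intro w x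
    apply heq
    intro n
    have : L (w • x) - w • L x = (L (w • x) - seq ε n (w • x)) - w • (L x - seq ε n x) := by
      rw [map_smul, smul_sub]
      abel
    rw [this]
    exact sub_mem (hL' _ n) (Submodule.smul_mem _ _ (hL' _ n))
  let e : Module.End W P :=
    { toFun := L
      map_add' := hadd
      map_smul' := hsmul }
  have he : ∀ x, e x = L x := fun x => rfl
  refine ⟨e, ?_, fun x n => hL' x n⟩
  intro x
  rw [he, he]
  apply heq
  intro n
  have h1 : seq ε n (L x) - seq ε n (seq ε n x) ∈ I ^ n • (⊤ : Submodule W P) := by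
    rw [← map_sub]
    exact map_mem_smul_top _ _ _ (hL' x n)
  have h2 : seq ε n (seq ε n x) - seq ε n x ∈ I ^ n • (⊤ : Submodule W P) := by
    have := seq_sq_sub I ε h0 n x
    rw [LinearMap.sub_apply, pow_two, Module.End.mul_apply] at this
    exact Submodule.smul_mono (Ideal.pow_le_pow_right (by omega)) le_rfl this
  have : L (L x) - L x = (L (L x) - seq ε n (L x)) + (seq ε n (L x) - seq ε n (seq ε n x)) +
      (seq ε n (seq ε n x) - seq ε n x) - (L x - seq ε n x) := by abel
  rw [this]
  exact sub_mem (add_mem (add_mem (hL' _ n) h1) h2) (hL' _ n)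

/-- the Newton sequence composes -/
theorem seq_add (ε : Module.End W P) (a b : ℕ) : seq (seq ε a) b = seq ε (a + b) := by
  induction b with
  | zero => rfl
  | succ b ih =>
    show step (seq (seq ε a) b) = step (seq ε (a + b))
    rw [ih]

end newton2

section nilp

/-- modules are adically complete for nilpotent ideals -/
theorem isAdicComplete_of_nilpotent {P : Type*} [AddCommGroup P] [Module W P]
    (N : ℕ) (hN : I ^ N = ⊥) : IsAdicComplete I P := by
  haveI : IsHausdorff I P := by
    constructor
    intro x hx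
    have := hx N
    rw [hN, Submodule.bot_smul, SModEq.zero, Submodule.mem_bot] at this
    exact this
  haveI : IsPrecomplete I P := by
    constructor
    intro f hf
    refine ⟨f N, fun n => ?_⟩
    rcases le_total n N with h | h
    · exact hf h
    · have := hf h
      rw [hN, Submodule.bot_smul, SModEq.sub_mem, Submodule.mem_bot, sub_eq_zero] at this
      rw [this]
  exact {}

end nilp

section misc

theorem pi_mem_smul_top_iff {ι : Type*} [Fintype ι] [DecidableEq ι] (𝔟 : Ideal W) (y : ι → W) :
    y ∈ 𝔟 • (⊤ : Submodule W (ι → W)) ↔ ∀ j, y j ∈ 𝔟 := by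
  constructor
  · intro hy j
    have := map_mem_smul_top 𝔟 (LinearMap.proj j : (ι → W) →ₗ[W] W) y hy
    rwa [smul_eq_mul, Ideal.mul_top] at this
  · intro hy
    rw [pi_eq_sum_univ y]
    apply Submodule.sum_mem
    intro j _
    exact Submodule.smul_mem_smul (hy j) Submodule.mem_top

/-- lifting semilinear maps from projective modules through semilinear surjections -/
theorem exists_lift_semilinear {A B : Type*} [CommRing A] [CommRing B] (Φ : A →+* B)
    {M X Y : Type*} [AddCommGroup M] [Module A M] [Module.Projective A M]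
    [AddCommGroup X] [Module A X] [AddCommGroup Y] [Module B Y]
    (π : X →ₛₗ[Φ] Y) (hπ : Function.Surjective π) (f : M →ₛₗ[Φ] Y) :
    ∃ h : M →ₗ[A] X, ∀ m, π (h m) = f m := by
  letI : Module A Y := Module.compHom Y Φ
  let π' : X →ₗ[A] Y :=
    { toFun := π
      map_add' := map_add π
      map_smul' := fun a x => map_smulₛₗ π a x }
  let f' : M →ₗ[A] Y :=
    { toFun := f
      map_add' := map_add f
      map_smul' := fun a x => map_smulₛₗ f a x }
  obtain ⟨h, hh⟩ := Module.projective_lifting_property π' f' hπ
  exact ⟨h, fun m => LinearMap.congr_fun hh m⟩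

end misc

end Groth.Agent.Lib.Helper60.AdicProj
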