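import Mathlib
import Groth.Agent.Lib.Helper48.FibBaseChange

/-!
# The rigidity lemma (helper60)

Scheme-level version: `X` proper geometrically integral over a field `K` with a rational point,
`Y` separated locally of finite type geometrically integral, `Z` separated.  A `K`-morphism
`φ : X ×_K Y ⟶ Z` which is constant on `X × {y₀}` and on `{x₀} × Y` is constant.
-/

universe u

open CategoryTheory CategoryTheory.Limits AlgebraicGeometry TopologicalSpace Opposite

namespace Groth.Agent.Lib.Helper60.Rigidity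

section field

variable {K : Type u} [Field K]

instance subsingleton_SpecField : Subsingleton (Spec (CommRingCat.of K)) :=
  inferInstanceAs (Subsingleton (PrimeSpectrum K))

lemma opens_SpecField (T : (Spec (CommRingCat.of K)).Opens) : T = ⊥ ∨ T = ⊤ := by
  by_cases h : (T : Set (Spec (CommRingCat.of K))).Nonempty
  · right
    obtain ⟨x, hx⟩ := h
    ext y
    simp only [Opens.coe_top, Set.mem_univ, iff_true]
    rw [Subsingleton.elim y x]; exact hx
  · left
    ext y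
    simp only [Opens.coe_bot, Set.mem_empty_iff_false, iff_false]
    intro hy; exact h ⟨y, hy⟩

/-- Global functions on a proper integral `K`-scheme with a rational point are `K`. -/
lemma isIso_appTop_of_section {X : Scheme.{u}} (a : X ⟶ Spec (CommRingCat.of K))
    [IsIntegral X] [UniversallyClosed a] (x₀ : Spec (CommRingCat.of K) ⟶ X)
    (hx₀ : x₀ ≫ a = 𝟙 _) : IsIso a.appTop := by
  have hF : IsField Γ(X, ⊤) := isField_of_universallyClosed K a
  have h1 : a.appTop ≫ x₀.appTop = 𝟙 _ := by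
    rw [← Scheme.Hom.comp_appTop, hx₀]; rfl
  letI := hF.toField
  have hinj : Function.Injective x₀.appTop.hom := RingHom.injective _
  have hsurj : Function.Surjective x₀.appTop.hom := by
    intro t
    refine ⟨a.appTop.hom t, ?_⟩
    have := congrArg (fun φ => φ.hom t) h1
    simpa using this
  haveI : IsIso x₀.appTop :=
    (ConcreteCategory.isIso_iff_bijective _).mpr ⟨hinj, hsurj⟩
  have : a.appTop = inv x₀.appTop := IsIso.eq_inv_of_inv_hom_id h1
  rw [this]; infer_instance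

lemma isIso_app_of_section {X : Scheme.{u}} (a : X ⟶ Spec (CommRingCat.of K))
    [IsIntegral X] [UniversallyClosed a] (x₀ : Spec (CommRingCat.of K) ⟶ X)
    (hx₀ : x₀ ≫ a = 𝟙 _) (T : (Spec (CommRingCat.of K)).Opens) : IsIso (a.app T) := by
  rcases opens_SpecField T with rfl | rfl
  · refine (ConcreteCategory.isIso_iff_bijective _).mpr ⟨?_, ?_⟩
    · intro s t _
      haveI : Subsingleton Γ(Spec (CommRingCat.of K), ⊥) := inferInstance
      exact Subsingleton.elim _ _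
    · intro s
      haveI : Subsingleton Γ(X, a ⁻¹ᵁ ⊥) := by
        have : a ⁻¹ᵁ (⊥ : (Spec (CommRingCat.of K)).Opens) = ⊥ := rfl
        rw [this]; infer_instance
      exact ⟨0, Subsingleton.elim _ _⟩
  · exact isIso_appTop_of_section a x₀ hx₀

/-- **Rigidity lemma**, scheme-level version. -/
theorem rigidity_scheme {X Y Z : Scheme.{u}}
    (a : X ⟶ Spec (CommRingCat.of K)) (b : Y ⟶ Spec (CommRingCat.of K))
    (c : Z ⟶ Spec (CommRingCat.of K))
    [IsProper a] [GeometricallyIntegral a]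
    [LocallyOfFiniteType b] [GeometricallyIntegral b]
    [IsSeparated c]
    (x₀ : Spec (CommRingCat.of K) ⟶ X) (y₀ : Spec (CommRingCat.of K) ⟶ Y)
    (z₀ : Spec (CommRingCat.of K) ⟶ Z)
    (hx₀ : x₀ ≫ a = 𝟙 _) (hy₀ : y₀ ≫ b = 𝟙 _) (hz₀ : z₀ ≫ c = 𝟙 _)
    (φ : pullback a b ⟶ Z) (hφ : φ ≫ c = pullback.fst a b ≫ a)
    (j₁ : X ⟶ pullback a b) (hj₁f : j₁ ≫ pullback.fst a b = 𝟙 X)
    (hj₁s : j₁ ≫ pullback.snd a b = a ≫ y₀)
    (j₂ : Y ⟶ pullback a b) (hj₂f : j₂ ≫ pullback.fst a b = b ≫ x₀)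
    (hj₂s : j₂ ≫ pullback.snd a b = 𝟙 Y)
    (h1 : j₁ ≫ φ = a ≫ z₀) (h2 : j₂ ≫ φ = b ≫ z₀) :
    φ = pullback.fst a b ≫ a ≫ z₀ := by
  have H : IsPullback (pullback.fst a b) (pullback.snd a b) a b := IsPullback.of_hasPullback a b
  haveI : IsIntegral X := GeometricallyIntegral.isIntegral_of_subsingleton a
  haveI : IsIntegral Y := GeometricallyIntegral.isIntegral_of_subsingleton b
  haveI : IsLocallyNoetherian Y := LocallyOfFiniteType.isLocallyNoetherian b
  haveI : IsIntegral (pullback a b) := inferInstance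
  -- Step B : `pr₂` is a fibration
  have hfib : ∀ T, IsIso (a.app T) := isIso_app_of_section a x₀ hx₀
  have hB : ∀ V' : Y.Opens, IsIso ((pullback.snd a b).app V') :=
    Groth.Agent.Lib.Helper48.FibBaseChange.isIso_app_of_isPullback H hfib
  -- the point
  obtain ⟨s⟩ : Nonempty (Spec (CommRingCat.of K)) := inferInstanceAs (Nonempty (PrimeSpectrum K))
  obtain ⟨U₀, hU₀, hzU₀⟩ : ∃ U₀ : Z.Opens, IsAffineOpen U₀ ∧ z₀ s ∈ U₀ := by
    obtain ⟨_, ⟨U₀, hU₀, rfl⟩, hzU₀, -⟩ :=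
      Z.isBasis_affineOpens.exists_subset_of_mem_open (Set.mem_univ (z₀ s)) isOpen_univ
    exact ⟨U₀, hU₀, hzU₀⟩
  -- the bad closed set
  have hC : IsClosed ((pullback.snd a b) '' (φ ⁻¹' ((U₀ : Set Z)ᶜ))) :=
    (pullback.snd a b).isClosedMap _ (U₀.isOpen.isClosed_compl.preimage φ.continuous)
  have HJ : IsPullback j₁ a (pullback.snd a b) y₀ := by
    refine IsPullback.of_right ?_ hj₁s H
    rw [hj₁f, hy₀]; exact IsPullback.id_horiz a
  have hy : y₀ s ∈ ((pullback.snd a b) '' (φ ⁻¹' ((U₀ : Set Z)ᶜ)))ᶜ := by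
    rintro ⟨p, hp, hpy⟩
    obtain ⟨z, hz1, -⟩ := Scheme.Pullback.exists_preimage_pullback (f := pullback.snd a b)
      (g := y₀) p s hpy
    have hp' : p = j₁ (HJ.isoPullback.inv z) := by
      rw [← hz1, ← Scheme.Hom.comp_apply, HJ.isoPullback_inv_fst]
    apply hp
    show φ p ∈ U₀
    rw [hp', ← Scheme.Hom.comp_apply, h1, Scheme.Hom.comp_apply, Subsingleton.elim (a _) s]
    exact hzU₀
  obtain ⟨W₁, hW₁, hyW₁, hW₁C⟩ : ∃ W₁ : Y.Opens, IsAffineOpen W₁ ∧ y₀ s ∈ W₁ ∧
      (W₁ : Set Y) ⊆ ((pullback.snd a b) '' (φ ⁻¹' ((U₀ : Set Z)ᶜ)))ᶜ := by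
    obtain ⟨_, ⟨W₁, hW₁, rfl⟩, hyW₁, hW₁C⟩ :=
      Y.isBasis_affineOpens.exists_subset_of_mem_open hy hC.isOpen_compl
    exact ⟨W₁, hW₁, hyW₁, hW₁C⟩
  -- P₁
  have hP₁ : (pullback.snd a b) ⁻¹ᵁ W₁ ≤ φ ⁻¹ᵁ U₀ := by
    intro p hp
    by_contra hcon
    exact hW₁C hp ⟨p, hcon, rfl⟩
  set P₁ := (pullback.snd a b) ⁻¹ᵁ W₁ with hP₁def
  set κ := pullback.fst a b ≫ a ≫ z₀ with hκ
  have hκpt : ∀ p, κ p = z₀ s := by
    intro p
    rw [hκ, Scheme.Hom.comp_apply, Scheme.Hom.comp_apply, Subsingleton.elim (a _) s]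
  have hr₁ : Set.range (P₁.ι ≫ φ) ⊆ Set.range U₀.ι := by
    rintro _ ⟨q, rfl⟩
    rw [Scheme.Opens.range_ι, Scheme.Hom.comp_apply]
    exact hP₁ q.2
  have hr₂ : Set.range (P₁.ι ≫ κ) ⊆ Set.range U₀.ι := by
    rintro _ ⟨q, rfl⟩
    rw [Scheme.Opens.range_ι, Scheme.Hom.comp_apply, hκpt]
    exact hzU₀
  have hrσ : Set.range (W₁.ι ≫ j₂) ⊆ Set.range P₁.ι := by
    rintro _ ⟨w, rfl⟩
    rw [Scheme.Opens.range_ι, Scheme.Hom.comp_apply]
    show (pullback.snd a b) (j₂ (W₁.ι w)) ∈ W₁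
    rw [← Scheme.Hom.comp_apply, hj₂s]
    exact w.2
  let l₁ := IsOpenImmersion.lift U₀.ι (P₁.ι ≫ φ) hr₁
  let l₂ := IsOpenImmersion.lift U₀.ι (P₁.ι ≫ κ) hr₂
  let σ := IsOpenImmersion.lift P₁.ι (W₁.ι ≫ j₂) hrσ
  have hσρ : σ ≫ (pullback.snd a b ∣_ W₁) = 𝟙 _ := by
    rw [← cancel_mono W₁.ι, Category.assoc, morphismRestrict_ι, IsOpenImmersion.lift_fac_assoc,
      Category.assoc, hj₂s, Category.comp_id, Category.id_comp]
  haveI : IsIso (pullback.snd a b ∣_ W₁).appTop := by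
    rw [morphismRestrict_appTop]
    haveI h2 : IsIso ((pullback a b).presheaf.map
        (eqToHom (image_morphismRestrict_preimage (pullback.snd a b) W₁ ⊤)).op) := inferInstance
    exact @IsIso.comp_isIso _ _ _ _ _ _ _ (hB _) h2
  have hσiso : IsIso σ.appTop := by
    have h : (pullback.snd a b ∣_ W₁).appTop ≫ σ.appTop = 𝟙 _ := by
      rw [← Scheme.Hom.comp_appTop, hσρ]; rfl
    have : σ.appTop = inv (pullback.snd a b ∣_ W₁).appTop := IsIso.eq_inv_of_hom_inv_id h
    rw [this]; infer_instance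
  have hσl : σ ≫ l₁ = σ ≫ l₂ := by
    rw [← cancel_mono U₀.ι, Category.assoc, Category.assoc, IsOpenImmersion.lift_fac,
      IsOpenImmersion.lift_fac, IsOpenImmersion.lift_fac_assoc, IsOpenImmersion.lift_fac_assoc,
      Category.assoc, Category.assoc, h2, hκ, reassoc_of% hj₂f, reassoc_of% hx₀]
  haveI : IsAffine U₀.toScheme := hU₀
  have hl : l₁ = l₂ := by
    apply ext_of_isAffine
    rw [← cancel_mono σ.appTop, ← Scheme.Hom.comp_appTop, ← Scheme.Hom.comp_appTop, hσl]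
  have hU : P₁.ι ≫ φ = P₁.ι ≫ κ := by
    rw [← IsOpenImmersion.lift_fac U₀.ι (P₁.ι ≫ φ) hr₁,
      ← IsOpenImmersion.lift_fac U₀.ι (P₁.ι ≫ κ) hr₂]
    show l₁ ≫ _ = l₂ ≫ _
    rw [hl]
  -- Step F
  haveI : IsDominant P₁.ι := by
    apply Opens.isDominant_ι
    refine P₁.isOpen.dense ⟨j₂ (y₀ s), ?_⟩
    show (pullback.snd a b) (j₂ (y₀ s)) ∈ W₁
    rw [← Scheme.Hom.comp_apply, hj₂s]
    exact hyW₁
  have hc : φ ≫ c = κ ≫ c := by
    rw [hφ, hκ, Category.assoc, Category.assoc, hz₀, Category.comp_id]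
  exact ext_of_isDominant_of_isSeparated c hc P₁.ι hU

end field

section antiaffine

variable {K : Type u} [Field K]

/-- A `K`-scheme with `O(X) = K` is a "fibration" over `Spec K`. -/
lemma isIso_app_of_bijective {X : Scheme.{u}} (a : X ⟶ Spec (CommRingCat.of K))
    (h : Function.Bijective ((Scheme.ΓSpecIso (CommRingCat.of K)).inv ≫ a.appTop).hom)
    (T : (Spec (CommRingCat.of K)).Opens) : IsIso (a.app T) := by
  rcases opens_SpecField T with rfl | rfl
  · refine (ConcreteCategory.isIso_iff_bijective _).mpr ⟨?_, ?_⟩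
    · intro s t _
      haveI : Subsingleton Γ(Spec (CommRingCat.of K), ⊥) := inferInstance
      exact Subsingleton.elim _ _
    · intro s
      haveI : Subsingleton Γ(X, a ⁻¹ᵁ ⊥) := by
        have : a ⁻¹ᵁ (⊥ : (Spec (CommRingCat.of K)).Opens) = ⊥ := rfl
        rw [this]; infer_instance
      exact ⟨0, Subsingleton.elim _ _⟩
  · haveI : IsIso ((Scheme.ΓSpecIso (CommRingCat.of K)).inv ≫ a.appTop) :=
      (ConcreteCategory.isIso_iff_bijective _).mpr h
    have : a.appTop = (Scheme.ΓSpecIso (CommRingCat.of K)).hom ≫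
        ((Scheme.ΓSpecIso (CommRingCat.of K)).inv ≫ a.appTop) := by
      rw [Iso.hom_inv_id_assoc]
    show IsIso a.appTop
    rw [this]; infer_instance

/-- If `O(X) = K` and `O(Y) = K` with `X` qcqs then `O(X ×_K Y) = K`. -/
lemma bijective_prod {X Y : Scheme.{u}} (a : X ⟶ Spec (CommRingCat.of K))
    (b : Y ⟶ Spec (CommRingCat.of K)) [QuasiCompact a] [QuasiSeparated a]
    (ha : Function.Bijective ((Scheme.ΓSpecIso (CommRingCat.of K)).inv ≫ a.appTop).hom)
    (hb : Function.Bijective ((Scheme.ΓSpecIso (CommRingCat.of K)).inv ≫ b.appTop).hom) :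
    Function.Bijective ((Scheme.ΓSpecIso (CommRingCat.of K)).inv ≫
      (pullback.fst a b ≫ a).appTop).hom := by
  have H : IsPullback (pullback.fst a b) (pullback.snd a b) a b := IsPullback.of_hasPullback a b
  have hB : ∀ V' : Y.Opens, IsIso ((pullback.snd a b).app V') :=
    Groth.Agent.Lib.Helper48.FibBaseChange.isIso_app_of_isPullback H (isIso_app_of_bijective a ha)
  haveI : IsIso (pullback.snd a b).appTop := hB ⊤
  have h1 : (Scheme.ΓSpecIso (CommRingCat.of K)).inv ≫ (pullback.fst a b ≫ a).appTop =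
      ((Scheme.ΓSpecIso (CommRingCat.of K)).inv ≫ b.appTop) ≫ (pullback.snd a b).appTop := by
    rw [pullback.condition, Scheme.Hom.comp_appTop, Category.assoc]
  rw [h1, CommRingCat.hom_comp, RingHom.coe_comp]
  exact (ConcreteCategory.bijective_of_isIso (pullback.snd a b).appTop).comp hb

/-- If `f` has a section and `O` of the source is `K` then `O` of the target is `K`. -/
lemma bijective_of_section {X Y : Scheme.{u}} (a : X ⟶ Spec (CommRingCat.of K))
    (b : Y ⟶ Spec (CommRingCat.of K)) (f : X ⟶ Y) (s : Y ⟶ X) (hs : s ≫ f = 𝟙 Y)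
    (hf : f ≫ b = a)
    (ha : Function.Bijective ((Scheme.ΓSpecIso (CommRingCat.of K)).inv ≫ a.appTop).hom) :
    Function.Bijective ((Scheme.ΓSpecIso (CommRingCat.of K)).inv ≫ b.appTop).hom := by
  have hinj : Function.Injective f.appTop.hom := by
    have h1 : f.appTop ≫ s.appTop = 𝟙 _ := by
      rw [← Scheme.Hom.comp_appTop, hs]; rfl
    intro x y hxy
    have := congrArg s.appTop.hom hxy
    have e : ∀ z, s.appTop.hom (f.appTop.hom z) = z := fun z => by
      have := congrArg (fun φ => φ.hom z) h1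
      simpa using this
    rwa [e, e] at this
  have h1 : (Scheme.ΓSpecIso (CommRingCat.of K)).inv ≫ a.appTop =
      ((Scheme.ΓSpecIso (CommRingCat.of K)).inv ≫ b.appTop) ≫ f.appTop := by
    rw [← hf, Scheme.Hom.comp_appTop, Category.assoc]
  rw [h1, CommRingCat.hom_comp, RingHom.coe_comp] at ha
  refine ⟨fun x y hxy => ha.1 (by simp only [Function.comp_apply]; rw [hxy]), fun t => ?_⟩
  obtain ⟨x, hx⟩ := ha.2 (f.appTop.hom t)
  exact ⟨x, hinj hx⟩

end antiaffine

end Groth.Agent.Lib.Helper60.Rigidity
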