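import Mathlib
import Groth.Agent.Lib.Helper60.Rigidity

/-!
# Consequences of the rigidity lemma for group schemes over a field (helper60)

* `rigidity_over`: rigidity lemma in `Over (Spec K)` (target merely separated).
* `prod_decomp`: a pointed map `V ⊗ W ⟶ A` into a separated group scheme splits as a product.
* `isMonHom_of_pointed`: a pointed map from an abelian variety to a separated group scheme is a hom.
* `geometricallyIntegral_comp`, `geometricallyIntegral_tensor`.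
-/

universe u

open CategoryTheory CategoryTheory.Limits MonoidalCategory CartesianMonoidalCategory MonObj GrpObj
  AlgebraicGeometry

namespace Groth.Agent.Lib.Helper60.RigidityGrp

variable (K : Type u) [Field K]

theorem rigidity_over (V W U : Over (Spec (CommRingCat.of K)))
    [IsProper V.hom] [GeometricallyIntegral V.hom]
    [LocallyOfFiniteType W.hom] [GeometricallyIntegral W.hom]
    [IsSeparated U.hom]
    (f : V ⊗ W ⟶ U) (v₀ : 𝟙_ (Over (Spec (CommRingCat.of K))) ⟶ V)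
    (w₀ : 𝟙_ (Over (Spec (CommRingCat.of K))) ⟶ W)
    (u₀ : 𝟙_ (Over (Spec (CommRingCat.of K))) ⟶ U)
    (hV : lift (𝟙 V) (toUnit V ≫ w₀) ≫ f = toUnit V ≫ u₀)
    (hW : lift (toUnit W ≫ v₀) (𝟙 W) ≫ f = toUnit W ≫ u₀) :
    f = toUnit (V ⊗ W) ≫ u₀ := by
  have hx₀ : v₀.left ≫ V.hom = 𝟙 _ := Over.w v₀
  have hy₀ : w₀.left ≫ W.hom = 𝟙 _ := Over.w w₀
  have hz₀ : u₀.left ≫ U.hom = 𝟙 _ := Over.w u₀
  have hφ : f.left ≫ U.hom = Limits.pullback.fst V.hom W.hom ≫ V.hom := Over.w f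
  have hj₁f : (lift (𝟙 V) (toUnit V ≫ w₀)).left ≫ Limits.pullback.fst V.hom W.hom = 𝟙 V.left :=
    congrArg (fun g => g.left) (lift_fst (𝟙 V) (toUnit V ≫ w₀))
  have hj₁s : (lift (𝟙 V) (toUnit V ≫ w₀)).left ≫ Limits.pullback.snd V.hom W.hom
      = V.hom ≫ w₀.left :=
    congrArg (fun g => g.left) (lift_snd (𝟙 V) (toUnit V ≫ w₀))
  have hj₂f : (lift (toUnit W ≫ v₀) (𝟙 W)).left ≫ Limits.pullback.fst V.hom W.hom
      = W.hom ≫ v₀.left :=
    congrArg (fun g => g.left) (lift_fst (toUnit W ≫ v₀) (𝟙 W))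
  have hj₂s : (lift (toUnit W ≫ v₀) (𝟙 W)).left ≫ Limits.pullback.snd V.hom W.hom = 𝟙 W.left :=
    congrArg (fun g => g.left) (lift_snd (toUnit W ≫ v₀) (𝟙 W))
  have h1 : (lift (𝟙 V) (toUnit V ≫ w₀)).left ≫ f.left = V.hom ≫ u₀.left :=
    congrArg (fun g => g.left) hV
  have h2 : (lift (toUnit W ≫ v₀) (𝟙 W)).left ≫ f.left = W.hom ≫ u₀.left :=
    congrArg (fun g => g.left) hW
  have key := Groth.Agent.Lib.Helper60.Rigidity.rigidity_scheme V.hom W.hom U.hom
    v₀.left w₀.left u₀.left hx₀ hy₀ hz₀ f.left hφ _ hj₁f hj₁s _ hj₂f hj₂s h1 h2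
  apply Over.OverMorphism.ext
  rw [key]
  show _ = (Limits.pullback.fst V.hom W.hom ≫ V.hom) ≫ u₀.left
  rw [Category.assoc]

/-- A pointed map from a product of pointed proper geometrically integral schemes into a
separated group scheme is a product of maps from the factors. -/
theorem prod_decomp (V W A : Over (Spec (CommRingCat.of K)))
    [IsProper V.hom] [GeometricallyIntegral V.hom] [IsProper W.hom] [GeometricallyIntegral W.hom]
    [GrpObj A] [IsSeparated A.hom]
    (v₀ : 𝟙_ (Over (Spec (CommRingCat.of K))) ⟶ V) (w₀ : 𝟙_ (Over (Spec (CommRingCat.of K))) ⟶ W)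
    (h : V ⊗ W ⟶ A) (h0 : lift v₀ w₀ ≫ h = η[A]) :
    h = (fst V W ≫ lift (𝟙 V) (toUnit V ≫ w₀) ≫ h) *
      (snd V W ≫ lift (toUnit W ≫ v₀) (𝟙 W) ≫ h) := by
  have hi₁f : lift (𝟙 V) (toUnit V ≫ w₀) ≫ fst V W = 𝟙 V := lift_fst _ _
  have hi₁s : lift (𝟙 V) (toUnit V ≫ w₀) ≫ snd V W = toUnit V ≫ w₀ := lift_snd _ _
  have hi₂f : lift (toUnit W ≫ v₀) (𝟙 W) ≫ fst V W = toUnit W ≫ v₀ := lift_fst _ _
  have hi₂s : lift (toUnit W ≫ v₀) (𝟙 W) ≫ snd V W = 𝟙 W := lift_snd _ _
  have hw : w₀ ≫ lift (toUnit W ≫ v₀) (𝟙 W) = lift v₀ w₀ := by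
    apply CartesianMonoidalCategory.hom_ext
    · rw [Category.assoc, hi₂f, lift_fst, ← Category.assoc,
        toUnit_unique (w₀ ≫ toUnit W) (𝟙 _), Category.id_comp]
    · rw [Category.assoc, hi₂s, lift_snd, Category.comp_id]
  have hv : v₀ ≫ lift (𝟙 V) (toUnit V ≫ w₀) = lift v₀ w₀ := by
    apply CartesianMonoidalCategory.hom_ext
    · rw [Category.assoc, hi₁f, lift_fst, Category.comp_id]
    · rw [Category.assoc, hi₁s, lift_snd, ← Category.assoc,
        toUnit_unique (v₀ ≫ toUnit V) (𝟙 _), Category.id_comp]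
  set i₁ := lift (𝟙 V) (toUnit V ≫ w₀) with hi₁
  set i₂ := lift (toUnit W ≫ v₀) (𝟙 W) with hi₂
  have hone : ∀ {X : Over (Spec (CommRingCat.of K))}, toUnit X ≫ η[A] = (1 : X ⟶ A) :=
    fun {X} => rfl
  set p := fst V W ≫ i₁ ≫ h with hp
  set q := snd V W ≫ i₂ ≫ h with hq
  have hi₁p : i₁ ≫ p = i₁ ≫ h := by rw [hp, reassoc_of% hi₁f]
  have hi₁q : i₁ ≫ q = 1 := by
    rw [hq, reassoc_of% hi₁s, reassoc_of% hw, h0]; rfl
  have hi₂p : i₂ ≫ p = 1 := by
    rw [hp, reassoc_of% hi₂f, reassoc_of% hv, h0]; rfl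
  have hi₂q : i₂ ≫ q = i₂ ≫ h := by rw [hq, reassoc_of% hi₂s]
  have hVg : i₁ ≫ (p⁻¹ * h * q⁻¹) = toUnit V ≫ η[A] := by
    rw [MonObj.comp_mul, MonObj.comp_mul, GrpObj.comp_inv, GrpObj.comp_inv, hi₁p, hi₁q, hone]
    group
  have hWg : i₂ ≫ (p⁻¹ * h * q⁻¹) = toUnit W ≫ η[A] := by
    rw [MonObj.comp_mul, MonObj.comp_mul, GrpObj.comp_inv, GrpObj.comp_inv, hi₂p, hi₂q, hone]
    group
  have key := rigidity_over K V W A (p⁻¹ * h * q⁻¹) v₀ w₀ η[A] hVg hWg
  rw [hone] at key
  have : h = p * (p⁻¹ * h * q⁻¹) * q := by group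
  rw [key] at this
  rw [this]; group

/-- A pointed morphism from an abelian variety to a separated group scheme is a homomorphism. -/
theorem isMonHom_of_pointed (A B : Over (Spec (CommRingCat.of K)))
    [GrpObj A] [IsProper A.hom] [GeometricallyIntegral A.hom]
    [GrpObj B] [IsSeparated B.hom]
    (g : A ⟶ B) (hg : η[A] ≫ g = η[B]) : IsMonHom g := by
  refine ⟨hg, ?_⟩
  have h0 : lift η[A] η[A] ≫ (μ[A] ≫ g) = η[B] := by
    have : lift η[A] η[A] ≫ μ[A] = η[A] := by
      have := MonObj.lift_comp_one_right (η[A]) (𝟙 (𝟙_ (Over (Spec (CommRingCat.of K)))))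
      rwa [Category.id_comp] at this
    rw [reassoc_of% this, hg]
  have key := prod_decomp K A A B η[A] η[A] (μ[A] ≫ g) h0
  have e1 : lift (𝟙 A) (toUnit A ≫ η[A]) ≫ μ[A] = 𝟙 A := MonObj.lift_comp_one_right _ _
  have e2 : lift (toUnit A ≫ η[A]) (𝟙 A) ≫ μ[A] = 𝟙 A := MonObj.lift_comp_one_left _ _
  rw [reassoc_of% e1, reassoc_of% e2] at key
  rw [key, Hom.mul_def]
  congr 1

section geomint

lemma geometricallyIntegral_comp {X Y Z : Scheme.{u}} (f : X ⟶ Y) (g : Y ⟶ Z)
    [GeometricallyIntegral f] [Flat f] [UniversallyOpen f]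
    [GeometricallyIntegral g] [LocallyOfFiniteType g] :
    GeometricallyIntegral (f ≫ g) := by
  refine ⟨fun L _ y W fst snd h => ?_⟩
  haveI : IsIntegral (pullback g y) :=
    GeometricallyIntegral.geometrically_isIntegral _ _ _ (IsPullback.of_hasPullback g y)
  haveI : IsLocallyNoetherian (pullback g y) :=
    LocallyOfFiniteType.isLocallyNoetherian (pullback.snd g y)
  haveI : IsIntegral (pullback f (pullback.fst g y)) := inferInstance
  exact IsIntegral.of_isIso ((pullbackRightPullbackFstIso g y f).hom ≫ h.isoPullback.inv)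

lemma geometricallyIntegral_tensor (A B : Over (Spec (CommRingCat.of K)))
    [GeometricallyIntegral A.hom] [LocallyOfFiniteType A.hom] [GeometricallyIntegral B.hom] :
    GeometricallyIntegral (A ⊗ B).hom := by
  show GeometricallyIntegral (pullback.fst A.hom B.hom ≫ A.hom)
  exact geometricallyIntegral_comp _ _

lemma isProper_tensor (A B : Over (Spec (CommRingCat.of K)))
    [IsProper A.hom] [IsProper B.hom] : IsProper (A ⊗ B).hom := by
  show IsProper (pullback.fst A.hom B.hom ≫ A.hom)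
  infer_instance

end geomint

section prodgroup

variable {K}

/-- In a product group `A ⊗ B`, `(a, b) = (a, 1) * (1, b)`. -/
lemma fst_inl_mul_snd_inr (A B : Over (Spec (CommRingCat.of K))) [GrpObj A] [GrpObj B] :
    (fst A B ≫ lift (𝟙 A) (toUnit A ≫ η[B])) * (snd A B ≫ lift (toUnit B ≫ η[A]) (𝟙 B)) =
      𝟙 (A ⊗ B) := by
  apply CartesianMonoidalCategory.hom_ext
  · rw [MonObj.mul_comp _ _ (fst A B), Category.assoc, Category.assoc, lift_fst, lift_fst,
      Category.id_comp, Category.comp_id]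
    have : snd A B ≫ toUnit B ≫ η[A] = (1 : A ⊗ B ⟶ A) := by
      rw [← Category.assoc, toUnit_unique (snd A B ≫ toUnit B) (toUnit _)]; rfl
    rw [this, _root_.mul_one]
  · rw [MonObj.mul_comp _ _ (snd A B), Category.assoc, Category.assoc, lift_snd, lift_snd,
      Category.id_comp, Category.comp_id]
    have : fst A B ≫ toUnit A ≫ η[B] = (1 : A ⊗ B ⟶ B) := by
      rw [← Category.assoc, toUnit_unique (fst A B ≫ toUnit A) (toUnit _)]; rfl
    rw [this, _root_.one_mul]

end prodgroup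

section schdom

/-- A morphism which is injective on sections over every affine open has trivial kernel. -/
lemma ker_eq_bot_of_app_injective {X Y : Scheme.{u}} (r : X ⟶ Y)
    (hr : ∀ U : Y.Opens, IsAffineOpen U → Function.Injective (r.app U).hom) : r.ker = ⊥ := by
  ext U : 2
  refine le_antisymm ?_ bot_le
  refine (r.ideal_ker_le U).trans ?_
  rw [(RingHom.injective_iff_ker_eq_bot _).mp (hr U.1 U.2)]
  simp

/-- Two morphisms to a separated `S`-scheme which agree after precomposition with a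
scheme-theoretically dominant morphism are equal. -/
lemma ext_of_ker_eq_bot {X Y Z S : Scheme.{u}} (r : X ⟶ Y) (hr : r.ker = ⊥) {f g : Y ⟶ Z}
    (s : Z ⟶ S) [IsSeparated s] (h : f ≫ s = g ≫ s) (hU : r ≫ f = r ≫ g) : f = g := by
  let X' : Over S := Over.mk (f ≫ s)
  let Y' : Over S := Over.mk s
  let U' : Over S := Over.mk (r ≫ f ≫ s)
  let f' : X' ⟶ Y' := Over.homMk f
  let g' : X' ⟶ Y' := Over.homMk g
  let ι' : U' ⟶ X' := Over.homMk r
  have : IsSeparated Y'.hom := ‹_›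
  have hl : ι' ≫ f' = ι' ≫ g' := by ext1; exact hU
  have hfac : (equalizer.lift ι' hl).left ≫ (equalizer.ι f' g').left = r := by
    rw [← Over.comp_left, equalizer.lift_ι]; rfl
  have hker : (equalizer.ι f' g').left.ker = ⊥ := by
    refine le_antisymm ?_ bot_le
    have := (equalizer.lift ι' hl).left.le_ker_comp (equalizer.ι f' g').left
    rwa [hfac, hr] at this
  haveI : IsIso (equalizer.ι f' g').left := IsClosedImmersion.isIso_iff_ker_eq_bot.mpr hker
  rw [← cancel_epi (equalizer.ι f' g').left]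
  exact congr($(equalizer.condition f' g').left)

end schdom

section constmap

variable {K}

/-- A morphism from a `K`-scheme with `O(X) = K` and a rational point whose image is a single point
is constant (scheme-theoretically). -/
lemma eq_const_of_range_subsingleton {X Z : Scheme.{u}} (a : X ⟶ Spec (CommRingCat.of K))
    (ha : IsIso a.appTop) (x₀ : Spec (CommRingCat.of K) ⟶ X) (hx₀ : x₀ ≫ a = 𝟙 _)
    (φ : X ⟶ Z) (hφ : (Set.range φ).Subsingleton) : φ = a ≫ x₀ ≫ φ := by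
  obtain ⟨s⟩ : Nonempty (Spec (CommRingCat.of K)) := inferInstanceAs (Nonempty (PrimeSpectrum K))
  obtain ⟨U₀, hU₀, hzU₀⟩ : ∃ U₀ : Z.Opens, IsAffineOpen U₀ ∧ φ (x₀ s) ∈ U₀ := by
    obtain ⟨_, ⟨U₀, hU₀, rfl⟩, hzU₀, -⟩ :=
      Z.isBasis_affineOpens.exists_subset_of_mem_open (Set.mem_univ (φ (x₀ s))) isOpen_univ
    exact ⟨U₀, hU₀, hzU₀⟩
  have hall : ∀ x, φ x ∈ U₀ := fun x => by
    rw [hφ ⟨x, rfl⟩ ⟨x₀ s, rfl⟩]; exact hzU₀
  have hr₁ : Set.range φ ⊆ Set.range U₀.ι := by
    rintro _ ⟨x, rfl⟩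
    rw [Scheme.Opens.range_ι]; exact hall x
  have hr₂ : Set.range (a ≫ x₀ ≫ φ) ⊆ Set.range U₀.ι := by
    rintro _ ⟨x, rfl⟩
    rw [Scheme.Opens.range_ι, Scheme.Hom.comp_apply, Scheme.Hom.comp_apply]; exact hall _
  let l₁ := IsOpenImmersion.lift U₀.ι φ hr₁
  let l₂ := IsOpenImmersion.lift U₀.ι (a ≫ x₀ ≫ φ) hr₂
  haveI := ha
  have hσiso : IsIso x₀.appTop := by
    have h : a.appTop ≫ x₀.appTop = 𝟙 _ := by
      rw [← Scheme.Hom.comp_appTop, hx₀]; rfl
    have : x₀.appTop = inv a.appTop := IsIso.eq_inv_of_hom_inv_id h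
    rw [this]; infer_instance
  have hσl : x₀ ≫ l₁ = x₀ ≫ l₂ := by
    rw [← cancel_mono U₀.ι, Category.assoc, Category.assoc, IsOpenImmersion.lift_fac,
      IsOpenImmersion.lift_fac, reassoc_of% hx₀]
  haveI : IsAffine U₀.toScheme := hU₀
  have hl : l₁ = l₂ := by
    apply ext_of_isAffine
    rw [← cancel_mono x₀.appTop, ← Scheme.Hom.comp_appTop, ← Scheme.Hom.comp_appTop, hσl]
  calc φ = l₁ ≫ U₀.ι := (IsOpenImmersion.lift_fac U₀.ι φ hr₁).symm
    _ = l₂ ≫ U₀.ι := by rw [hl]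
    _ = a ≫ x₀ ≫ φ := IsOpenImmersion.lift_fac U₀.ι (a ≫ x₀ ≫ φ) hr₂

end constmap

section generic

open scoped CategoryTheory.Obj

lemma isSchemeTheoreticallyDominant_SpecMap_of_injective {R R' : CommRingCat.{u}} (φ : R ⟶ R')
    (hφ : Function.Injective φ.hom) [IsReduced (Spec R)] :
    IsSchemeTheoreticallyDominant (Spec.map φ) := by
  rw [isSchemeTheoreticallyDominant_iff_isDominant, isDominant_iff]
  show DenseRange (PrimeSpectrum.comap φ.hom)
  rw [PrimeSpectrum.denseRange_comap_iff_ker_le_nilRadical,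
    (RingHom.injective_iff_ker_eq_bot _).mp hφ]
  exact bot_le

/-- A flat separated group scheme whose restriction to a schematically dense quasi-compact
base `S' ⟶ S` is commutative is commutative. -/
theorem isCommMonObj_of_dense {S S' : Scheme.{u}} (j : S' ⟶ S) [IsSchemeTheoreticallyDominant j]
    [QuasiCompact j] (G : Over S) [GrpObj G] [Flat G.hom] [IsSeparated G.hom]
    [IsCommMonObj ((Over.pullback j).obj G)] : IsCommMonObj G := by
  constructor
  have hF : (Over.pullback j).map ((β_ G G).hom ≫ μ[G]) = (Over.pullback j).map μ[G] := by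
    have h1 := IsCommMonObj.mul_comm ((Over.pullback j).obj G)
    rw [Functor.obj.μ_def, ← Functor.LaxBraided.braided_assoc] at h1
    rw [← cancel_epi (Functor.LaxMonoidal.μ (Over.pullback j) G G), Functor.map_comp]
    exact h1
  apply Over.OverMorphism.ext
  have e : ∀ (m : G ⊗ G ⟶ G), ((Over.pullback j).map m).left ≫ pullback.fst G.hom j =
      pullback.fst (G ⊗ G).hom j ≫ m.left := by
    intro m
    exact pullback.lift_fst _ _ _
  have hfst : pullback.fst (G ⊗ G).hom j ≫ ((β_ G G).hom ≫ μ[G]).left =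
      pullback.fst (G ⊗ G).hom j ≫ μ[G].left := by
    rw [← e, ← e, hF]
  haveI : Flat (G ⊗ G).hom := by
    show Flat (pullback.fst G.hom G.hom ≫ G.hom); infer_instance
  haveI : IsSchemeTheoreticallyDominant (pullback.fst (G ⊗ G).hom j) := inferInstance
  exact ext_of_ker_eq_bot (pullback.fst (G ⊗ G).hom j) (Scheme.Hom.ker_eq_bot _) G.hom
    (by rw [Over.w, Over.w]) hfst

end generic

end Groth.Agent.Lib.Helper60.RigidityGrp
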