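import Mathlib
import Groth.Agent.Lib.Helper60.RigidityGrp

/-!
# Rigidity lemma for anti-affine schemes (helper60)

`X` quasi-compact separated over a field `K` with `O(X) = K`, `Y` integral locally Noetherian
separated, `Z` separated.  A morphism `X ×_K Y ⟶ Z` which is constant on `X × y₀` factors
through the second projection.
-/

universe u

open CategoryTheory CategoryTheory.Limits AlgebraicGeometry

namespace Groth.Agent.Lib.Helper60.AntiAffRigidity

/-- A morphism from `W` with a section `σ'` of `a' : W ⟶ T`, `O(W) = O(T)`, whose image lies in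
an affine open, factors through `a'`. -/
lemma eq_of_forall_mem_affineOpen {W T Z : Scheme.{u}} (a' : W ⟶ T) [IsIso a'.appTop]
    (σ' : T ⟶ W) (hσ' : σ' ≫ a' = 𝟙 T) (ψ : W ⟶ Z) (U₀ : Z.Opens) (hU₀ : IsAffineOpen U₀)
    (hall : ∀ w, ψ w ∈ U₀) : ψ = a' ≫ σ' ≫ ψ := by
  have hr₁ : Set.range ψ ⊆ Set.range U₀.ι := by
    rintro _ ⟨x, rfl⟩
    rw [Scheme.Opens.range_ι]; exact hall x
  have hr₂ : Set.range (a' ≫ σ' ≫ ψ) ⊆ Set.range U₀.ι := by
    rintro _ ⟨x, rfl⟩
    rw [Scheme.Opens.range_ι, Scheme.Hom.comp_apply, Scheme.Hom.comp_apply]; exact hall _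
  let l₁ := IsOpenImmersion.lift U₀.ι ψ hr₁
  let l₂ := IsOpenImmersion.lift U₀.ι (a' ≫ σ' ≫ ψ) hr₂
  have hσiso : IsIso σ'.appTop := by
    have h : a'.appTop ≫ σ'.appTop = 𝟙 _ := by
      rw [← Scheme.Hom.comp_appTop, hσ']; rfl
    have : σ'.appTop = inv a'.appTop := IsIso.eq_inv_of_hom_inv_id h
    rw [this]; infer_instance
  have hσl : σ' ≫ l₁ = σ' ≫ l₂ := by
    rw [← cancel_mono U₀.ι, Category.assoc, Category.assoc, IsOpenImmersion.lift_fac,
      IsOpenImmersion.lift_fac, reassoc_of% hσ']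
  haveI : IsAffine U₀.toScheme := hU₀
  have hl : l₁ = l₂ := by
    apply ext_of_isAffine
    rw [← cancel_mono σ'.appTop, ← Scheme.Hom.comp_appTop, ← Scheme.Hom.comp_appTop, hσl]
  calc ψ = l₁ ≫ U₀.ι := (IsOpenImmersion.lift_fac U₀.ι ψ hr₁).symm
    _ = l₂ ≫ U₀.ι := by rw [hl]
    _ = a' ≫ σ' ≫ ψ := IsOpenImmersion.lift_fac U₀.ι (a' ≫ σ' ≫ ψ) hr₂

section partI

variable {K : Type u} [Field K] {X Y Z : Scheme.{u}}
  (a : X ⟶ Spec (CommRingCat.of K)) (b : Y ⟶ Spec (CommRingCat.of K))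
  [QuasiCompact a] [QuasiSeparated a]
  (ha : Function.Bijective ((Scheme.ΓSpecIso (CommRingCat.of K)).inv ≫ a.appTop).hom)
  (x₀ : Spec (CommRingCat.of K) ⟶ X) (hx₀ : x₀ ≫ a = 𝟙 _)
  (y₀ : Spec (CommRingCat.of K) ⟶ Y) (hy₀ : y₀ ≫ b = 𝟙 _)
  (φ : pullback a b ⟶ Z)
  (j₁ : X ⟶ pullback a b) (hj₁f : j₁ ≫ pullback.fst a b = 𝟙 X)
  (hj₁s : j₁ ≫ pullback.snd a b = a ≫ y₀)
  (σ : Y ⟶ pullback a b) (hσf : σ ≫ pullback.fst a b = b ≫ x₀)
  (hσs : σ ≫ pullback.snd a b = 𝟙 Y)
  (hconst : j₁ ≫ φ = a ≫ x₀ ≫ j₁ ≫ φ)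

include ha hy₀ hj₁f hj₁s hσs hconst in
/-- Infinitesimal step: over a test scheme `T ⟶ Y` all of whose points come from `y₀`, the
morphism `φ` factors through the second projection. -/
lemma partI {T : Scheme.{u}} (t : T ⟶ Y) (ct : Spec (CommRingCat.of K) ⟶ T) (hct : ct ≫ t = y₀)
    [Surjective ct] :
    pullback.fst (pullback.snd a b) t ≫ φ =
      pullback.fst (pullback.snd a b) t ≫ pullback.snd a b ≫ σ ≫ φ := by
  set u := pullback.fst (pullback.snd a b) t with hu
  set πT := pullback.snd (pullback.snd a b) t with hπT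
  have H₁ : IsPullback (pullback.fst a b) (pullback.snd a b) a b := IsPullback.of_hasPullback a b
  have H₂ : IsPullback u πT (pullback.snd a b) t := IsPullback.of_hasPullback _ _
  have HT : IsPullback (u ≫ pullback.fst a b) πT a (t ≫ b) := H₂.paste_horiz H₁
  haveI : IsIso πT.appTop :=
    Groth.Agent.Lib.Helper48.FibBaseChange.isIso_app_of_isPullback HT
      (Groth.Agent.Lib.Helper60.Rigidity.isIso_app_of_bijective a ha) ⊤
  -- section of πT
  let σT : T ⟶ pullback (pullback.snd a b) t :=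
    pullback.lift (t ≫ σ) (𝟙 T) (by rw [Category.assoc, hσs, Category.comp_id, Category.id_comp])
  have hσTπ : σT ≫ πT = 𝟙 T := pullback.lift_snd _ _ _
  have hσTu : σT ≫ u = t ≫ σ := pullback.lift_fst _ _ _
  -- the closed fibre
  let v : X ⟶ pullback (pullback.snd a b) t :=
    pullback.lift j₁ (a ≫ ct) (by rw [hj₁s, Category.assoc, hct])
  have hvu : v ≫ u = j₁ := pullback.lift_fst _ _ _
  have hvπ : v ≫ πT = a ≫ ct := pullback.lift_snd _ _ _
  have hbig : IsPullback (v ≫ u ≫ pullback.fst a b) a a (ct ≫ t ≫ b) := by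
    have e1 : v ≫ u ≫ pullback.fst a b = 𝟙 X := by rw [reassoc_of% hvu, hj₁f]
    have e2 : ct ≫ t ≫ b = 𝟙 _ := by rw [reassoc_of% hct, hy₀]
    rw [e1, e2]
    exact IsPullback.of_horiz_isIso ⟨by rw [Category.id_comp, Category.comp_id]⟩
  have hleft : IsPullback v a πT ct := IsPullback.of_right hbig hvπ HT
  haveI : Surjective v := MorphismProperty.of_isPullback (P := @Surjective) hleft.flip inferInstance
  -- an affine open neighbourhood of the image point
  obtain ⟨s⟩ : Nonempty (Spec (CommRingCat.of K)) := inferInstanceAs (Nonempty (PrimeSpectrum K))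
  obtain ⟨U₀, hU₀, hzU₀⟩ : ∃ U₀ : Z.Opens, IsAffineOpen U₀ ∧ (x₀ ≫ j₁ ≫ φ) s ∈ U₀ := by
    obtain ⟨_, ⟨U₀, hU₀, rfl⟩, hzU₀, -⟩ :=
      Z.isBasis_affineOpens.exists_subset_of_mem_open (Set.mem_univ ((x₀ ≫ j₁ ≫ φ) s)) isOpen_univ
    exact ⟨U₀, hU₀, hzU₀⟩
  have hall : ∀ w, (u ≫ φ) w ∈ U₀ := by
    intro w
    obtain ⟨x, rfl⟩ := (inferInstance : Surjective v).surj w
    have h1 : (u ≫ φ) (v x) = (v ≫ u ≫ φ) x := by
      simp only [Scheme.Hom.comp_apply]
    rw [h1, reassoc_of% hvu, hconst, Scheme.Hom.comp_apply]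
    have : a x = s := Subsingleton.elim _ _
    rw [this]; exact hzU₀
  have key := eq_of_forall_mem_affineOpen πT σT hσTπ (u ≫ φ) U₀ hU₀ hall
  rw [key, reassoc_of% hσTu, ← Category.assoc πT t, ← H₂.w, Category.assoc]

end partI

section partII

open TensorProduct

/-- Two morphisms from an affine scheme to a separated `S`-scheme which agree after restriction
along a jointly injective family of ring maps are equal. -/
lemma ext_of_jointly_injective {R : CommRingCat.{u}} {ι : Type*} (R' : ι → CommRingCat.{u})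
    (ρ : ∀ i, R ⟶ R' i) (hρ : ∀ x : R, (∀ i, (ρ i).hom x = 0) → x = 0)
    {Z S : Scheme.{u}} (g₁ g₂ : Spec R ⟶ Z) (s : Z ⟶ S) [IsSeparated s]
    (h : g₁ ≫ s = g₂ ≫ s) (hi : ∀ i, Spec.map (ρ i) ≫ g₁ = Spec.map (ρ i) ≫ g₂) : g₁ = g₂ := by
  let X' : Over S := Over.mk (g₁ ≫ s)
  let Y' : Over S := Over.mk s
  let f' : X' ⟶ Y' := Over.homMk g₁
  let g' : X' ⟶ Y' := Over.homMk g₂ h.symm
  have : IsSeparated Y'.hom := ‹_›
  have hinj : Function.Injective (equalizer.ι f' g').left.appTop := by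
    rw [injective_iff_map_eq_zero]
    intro x hx
    have hx0 : (Scheme.ΓSpecIso R).hom x = 0 := by
      apply hρ
      intro i
      let U' : Over S := Over.mk (Spec.map (ρ i) ≫ g₁ ≫ s)
      let r' : U' ⟶ X' := Over.homMk (Spec.map (ρ i))
      have hl : r' ≫ f' = r' ≫ g' := by ext1; exact hi i
      have hfac : (equalizer.lift r' hl).left ≫ (equalizer.ι f' g').left = Spec.map (ρ i) := by
        rw [← Over.comp_left, equalizer.lift_ι]; rfl
      have nat := Scheme.ΓSpecIso_naturality (ρ i)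
      have e1 : (ρ i).hom ((Scheme.ΓSpecIso R).hom x) =
          (Scheme.ΓSpecIso (R' i)).hom ((Spec.map (ρ i)).appTop x) := by
        have := congrArg (fun f => f.hom x) nat
        exact this.symm
      rw [e1, ← hfac, Scheme.Hom.comp_appTop]
      simp only [CommRingCat.hom_comp, RingHom.coe_comp, Function.comp_apply]
      rw [hx, map_zero, map_zero]
    have hinj' := (ConcreteCategory.bijective_of_isIso (Scheme.ΓSpecIso R).hom).1
    apply hinj'
    rw [hx0, map_zero]
  haveI : IsAffine X'.left := inferInstanceAs (IsAffine (Spec R))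
  haveI : IsIso (equalizer.ι f' g').left :=
    IsClosedImmersion.isIso_of_injective_of_isAffine hinj
  rw [← cancel_epi (equalizer.ι f' g').left]
  exact congr($(equalizer.condition f' g').left)

variable {K : Type u} [Field K] (A : Type u) [CommRing A] [Algebra K A]
  {Y Z : Scheme.{u}} (b : Y ⟶ Spec (CommRingCat.of K))

/-- The canonical morphism `Spec (A ⊗ R) ⟶ Spec A ×_K Y` attached to `t : Spec R ⟶ Y`. -/
noncomputable def θ (R : Type u) [CommRing R] [Algebra K R] (t : Spec (CommRingCat.of R) ⟶ Y)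
    (ht : t ≫ b = Spec.map (CommRingCat.ofHom (algebraMap K R))) :
    Spec (CommRingCat.of (A ⊗[K] R)) ⟶
      pullback (Spec.map (CommRingCat.ofHom (algebraMap K A))) b :=
  pullback.lift
    (Spec.map (CommRingCat.ofHom (S := A ⊗[K] R) Algebra.TensorProduct.includeLeftRingHom))
    (Spec.map (CommRingCat.ofHom (S := A ⊗[K] R)
      (Algebra.TensorProduct.includeRight (R := K) (A := A) (B := R)).toRingHom) ≫ t)
    (by
      rw [Category.assoc, ht, ← Spec.map_comp, ← Spec.map_comp]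
      exact congrArg Spec.map (CommRingCat.isPushout_tensorProduct K A R).w)

lemma θ_fst (R : Type u) [CommRing R] [Algebra K R] (t : Spec (CommRingCat.of R) ⟶ Y)
    (ht : t ≫ b = Spec.map (CommRingCat.ofHom (algebraMap K R))) :
    θ A b R t ht ≫ pullback.fst _ _ =
      Spec.map (CommRingCat.ofHom (S := A ⊗[K] R) Algebra.TensorProduct.includeLeftRingHom) :=
  pullback.lift_fst _ _ _

lemma θ_snd (R : Type u) [CommRing R] [Algebra K R] (t : Spec (CommRingCat.of R) ⟶ Y)
    (ht : t ≫ b = Spec.map (CommRingCat.ofHom (algebraMap K R))) :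
    θ A b R t ht ≫ pullback.snd _ _ =
      Spec.map (CommRingCat.ofHom (S := A ⊗[K] R)
        (Algebra.TensorProduct.includeRight (R := K) (A := A) (B := R)).toRingHom) ≫ t :=
  pullback.lift_snd _ _ _

lemma isPullback_θ (R : Type u) [CommRing R] [Algebra K R] (t : Spec (CommRingCat.of R) ⟶ Y)
    (ht : t ≫ b = Spec.map (CommRingCat.ofHom (algebraMap K R))) :
    IsPullback (θ A b R t ht)
      (Spec.map (CommRingCat.ofHom (S := A ⊗[K] R)
        (Algebra.TensorProduct.includeRight (R := K) (A := A) (B := R)).toRingHom))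
      (pullback.snd (Spec.map (CommRingCat.ofHom (algebraMap K A))) b) t := by
  have H₁ : IsPullback (pullback.fst (Spec.map (CommRingCat.ofHom (algebraMap K A))) b)
      (pullback.snd _ b) (Spec.map (CommRingCat.ofHom (algebraMap K A))) b :=
    IsPullback.of_hasPullback _ _
  have hbig : IsPullback (θ A b R t ht ≫ pullback.fst _ _)
      (Spec.map (CommRingCat.ofHom (S := A ⊗[K] R)
        (Algebra.TensorProduct.includeRight (R := K) (A := A) (B := R)).toRingHom))
      (Spec.map (CommRingCat.ofHom (algebraMap K A))) (t ≫ b) := by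
    rw [θ_fst, ht]
    exact isPullback_SpecMap_of_isPushout _ _ _ _ (CommRingCat.isPushout_tensorProduct K A R)
  exact IsPullback.of_right hbig (θ_snd A b R t ht) H₁

lemma θ_map (R R' : Type u) [CommRing R] [Algebra K R] [CommRing R'] [Algebra K R']
    (ρ : R →ₐ[K] R') (t : Spec (CommRingCat.of R) ⟶ Y)
    (ht : t ≫ b = Spec.map (CommRingCat.ofHom (algebraMap K R)))
    (ht' : (Spec.map (CommRingCat.ofHom ρ.toRingHom) ≫ t) ≫ b =
      Spec.map (CommRingCat.ofHom (algebraMap K R'))) :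
    Spec.map (CommRingCat.ofHom (Algebra.TensorProduct.map (AlgHom.id K A) ρ).toRingHom) ≫
      θ A b R t ht = θ A b R' (Spec.map (CommRingCat.ofHom ρ.toRingHom) ≫ t) ht' := by
  have e1 : CommRingCat.ofHom (S := A ⊗[K] R) Algebra.TensorProduct.includeLeftRingHom ≫
      CommRingCat.ofHom (Algebra.TensorProduct.map (AlgHom.id K A) ρ).toRingHom =
      CommRingCat.ofHom (S := A ⊗[K] R') Algebra.TensorProduct.includeLeftRingHom := by
    ext x
    simp
  have e2 : CommRingCat.ofHom (S := A ⊗[K] R)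
      (Algebra.TensorProduct.includeRight (R := K) (A := A) (B := R)).toRingHom ≫
      CommRingCat.ofHom (Algebra.TensorProduct.map (AlgHom.id K A) ρ).toRingHom =
      CommRingCat.ofHom ρ.toRingHom ≫ CommRingCat.ofHom (S := A ⊗[K] R')
        (Algebra.TensorProduct.includeRight (R := K) (A := A) (B := R')).toRingHom := by
    ext x
    simp
  apply pullback.hom_ext
  · rw [Category.assoc, θ_fst, θ_fst, ← Spec.map_comp, e1]
  · rw [Category.assoc, θ_snd, θ_snd, ← Spec.map_comp_assoc, e2, Spec.map_comp, Category.assoc]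

end partII

open TensorProduct

section claimA1

variable {K : Type u} [Field K] (A : Type u) [CommRing A] [Algebra K A]
  (O : Type u) [CommRing O] [Algebra K O] [IsLocalRing O] [IsNoetherianRing O]

/-- An element of `A ⊗ O` vanishing in all `A ⊗ O/𝔪ⁿ` is zero (Krull intersection). -/
lemma eq_zero_of_forall_quotient (z : A ⊗[K] O)
    (hz : ∀ n : ℕ, Algebra.TensorProduct.map (AlgHom.id K A)
      (Ideal.Quotient.mkₐ K (IsLocalRing.maximalIdeal O ^ (n + 1))) z = 0) : z = 0 := by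
  classical
  let bA := Module.Free.chooseBasis K A
  have hnat : ∀ (O' : Type u) [CommRing O'] [Algebra K O'] (ρ : O →ₐ[K] O') (w : A ⊗[K] O) (i),
      TensorProduct.equivFinsuppOfBasisLeft (N := O') bA
        (Algebra.TensorProduct.map (AlgHom.id K A) ρ w) i =
        ρ (TensorProduct.equivFinsuppOfBasisLeft (N := O) bA w i) := by
    intro O' _ _ ρ w i
    induction w using TensorProduct.induction_on with
    | zero => simp
    | tmul x y =>
      rw [Algebra.TensorProduct.map_tmul, TensorProduct.equivFinsuppOfBasisLeft_apply_tmul_apply,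
        TensorProduct.equivFinsuppOfBasisLeft_apply_tmul_apply, map_smul]
      rfl
    | add x y hx hy => simp only [map_add, Finsupp.add_apply, hx, hy]
  apply (TensorProduct.equivFinsuppOfBasisLeft (N := O) bA).injective
  rw [map_zero]
  ext i
  have hmem : TensorProduct.equivFinsuppOfBasisLeft (N := O) bA z i ∈
      (⨅ n, IsLocalRing.maximalIdeal O ^ n : Ideal O) := by
    rw [Ideal.mem_iInf]
    intro n
    have h1 := hnat _ (Ideal.Quotient.mkₐ K (IsLocalRing.maximalIdeal O ^ (n + 1))) z i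
    rw [hz n, map_zero, Finsupp.zero_apply] at h1
    have h2 : TensorProduct.equivFinsuppOfBasisLeft (N := O) bA z i ∈
        IsLocalRing.maximalIdeal O ^ (n + 1) := by
      rw [← Ideal.Quotient.eq_zero_iff_mem]; exact h1.symm
    exact Ideal.pow_le_pow_right (Nat.le_succ n) h2
  rw [Ideal.iInf_pow_eq_bot_of_isLocalRing _ Ideal.IsPrime.ne_top'] at hmem
  simpa using hmem

end claimA1

section IIaff

variable {K : Type u} [Field K] (A : Type u) [CommRing A] [Algebra K A]
  {Y Z : Scheme.{u}} (b : Y ⟶ Spec (CommRingCat.of K))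
  (O : Type u) [CommRing O] [Algebra K O] [IsLocalRing O] [IsNoetherianRing O]
  (ι : Spec (CommRingCat.of O) ⟶ Y)
  (hι : ι ≫ b = Spec.map (CommRingCat.ofHom (algebraMap K O)))
  (c : Z ⟶ Spec (CommRingCat.of K)) [IsSeparated c]

/-- The `n`-th infinitesimal neighbourhood of the closed point of `Spec O`, mapped to `Y`. -/
noncomputable abbrev tn (n : ℕ) :
    Spec (CommRingCat.of (O ⧸ IsLocalRing.maximalIdeal O ^ (n + 1))) ⟶ Y :=
  Spec.map (CommRingCat.ofHom
    (Ideal.Quotient.mkₐ K (IsLocalRing.maximalIdeal O ^ (n + 1))).toRingHom) ≫ ι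

include hι in
lemma tn_comp (n : ℕ) : tn (K := K) O ι n ≫ b =
    Spec.map (CommRingCat.ofHom
      (algebraMap K (O ⧸ IsLocalRing.maximalIdeal O ^ (n + 1)))) := by
  rw [tn, Category.assoc, hι, ← Spec.map_comp]
  congr 1

lemma IIaff [IsSchemeTheoreticallyDominant ι] [QuasiCompact ι]
    (φ φ' : pullback (Spec.map (CommRingCat.ofHom (algebraMap K A))) b ⟶ Z)
    (hc : φ ≫ c = φ' ≫ c)
    (hn : ∀ n : ℕ, θ A b _ (tn (K := K) O ι n) (tn_comp b O ι hι n) ≫ φ =
      θ A b _ (tn (K := K) O ι n) (tn_comp b O ι hι n) ≫ φ') : φ = φ' := by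
  have hθ := isPullback_θ A b O ι hι
  haveI : Flat (Spec.map (CommRingCat.ofHom (algebraMap K A))) := inferInstance
  haveI : IsSchemeTheoreticallyDominant (θ A b O ι hι) :=
    IsSchemeTheoreticallyDominant.of_isPullback hθ.flip
  apply Groth.Agent.Lib.Helper60.RigidityGrp.ext_of_ker_eq_bot (θ A b O ι hι)
    (Scheme.Hom.ker_eq_bot _) c hc
  apply ext_of_jointly_injective
    (fun n : ℕ => CommRingCat.of (A ⊗[K] (O ⧸ IsLocalRing.maximalIdeal O ^ (n + 1))))
    (fun n => CommRingCat.ofHom (Algebra.TensorProduct.map (AlgHom.id K A)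
      (Ideal.Quotient.mkₐ K (IsLocalRing.maximalIdeal O ^ (n + 1)))).toRingHom)
    (fun x hx => eq_zero_of_forall_quotient A O x hx) _ _ c
    (by rw [Category.assoc, Category.assoc, hc])
  intro n
  rw [← Category.assoc, ← Category.assoc,
    θ_map A b O _ (Ideal.Quotient.mkₐ K (IsLocalRing.maximalIdeal O ^ (n + 1))) ι hι
      (tn_comp b O ι hι n)]
  exact hn n

end IIaff

section partIII

variable {K : Type u} [Field K] {X Y Z : Scheme.{u}}
  (a : X ⟶ Spec (CommRingCat.of K)) (b : Y ⟶ Spec (CommRingCat.of K))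
  [QuasiCompact a] [QuasiSeparated a]
  (ha : Function.Bijective ((Scheme.ΓSpecIso (CommRingCat.of K)).inv ≫ a.appTop).hom)
  (x₀ : Spec (CommRingCat.of K) ⟶ X)
  (y₀ : Spec (CommRingCat.of K) ⟶ Y) (hy₀ : y₀ ≫ b = 𝟙 _)
  (φ : pullback a b ⟶ Z)
  (j₁ : X ⟶ pullback a b) (hj₁f : j₁ ≫ pullback.fst a b = 𝟙 X)
  (hj₁s : j₁ ≫ pullback.snd a b = a ≫ y₀)
  (σ : Y ⟶ pullback a b)
  (hσs : σ ≫ pullback.snd a b = 𝟙 Y)
  (hconst : j₁ ≫ φ = a ≫ x₀ ≫ j₁ ≫ φ)
  (c : Z ⟶ Spec (CommRingCat.of K)) [IsSeparated c] (hφ : φ ≫ c = pullback.snd a b ≫ b)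
  (O : Type u) [CommRing O] [Algebra K O] [IsLocalRing O] [IsNoetherianRing O]
  (ι : Spec (CommRingCat.of O) ⟶ Y)
  (hι : ι ≫ b = Spec.map (CommRingCat.ofHom (algebraMap K O)))
  (κ : O →+* K) [IsLocalHom κ] (hκ : Spec.map (CommRingCat.ofHom κ) ≫ ι = y₀)

omit [Algebra K O] [IsNoetherianRing O] in
lemma subsingleton_spec_quot (n : ℕ) :
    Subsingleton (PrimeSpectrum (O ⧸ IsLocalRing.maximalIdeal O ^ (n + 1))) := by
  constructor
  intro p q
  have hinj := PrimeSpectrum.comap_injective_of_surjective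
    (Ideal.Quotient.mk (IsLocalRing.maximalIdeal O ^ (n + 1))) Ideal.Quotient.mk_surjective
  apply hinj
  have key : ∀ p : PrimeSpectrum (O ⧸ IsLocalRing.maximalIdeal O ^ (n + 1)),
      (PrimeSpectrum.comap (Ideal.Quotient.mk (IsLocalRing.maximalIdeal O ^ (n + 1))) p).asIdeal =
        IsLocalRing.maximalIdeal O := by
    intro p
    have h1 : IsLocalRing.maximalIdeal O ^ (n + 1) ≤
        (PrimeSpectrum.comap (Ideal.Quotient.mk (IsLocalRing.maximalIdeal O ^ (n + 1))) p).asIdeal := by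
      intro x hx
      show Ideal.Quotient.mk _ x ∈ p.asIdeal
      rw [Ideal.Quotient.eq_zero_iff_mem.mpr hx]; exact zero_mem _
    have h2 := Ideal.IsPrime.le_of_pow_le h1
    exact ((IsLocalRing.maximalIdeal.isMaximal O).eq_of_le (Ideal.IsPrime.ne_top inferInstance)
      h2).symm
  ext1; rw [key p, key q]

omit [Algebra K O] [IsNoetherianRing O] in
lemma κ_eq_zero (n : ℕ) (x : O) (hx : x ∈ IsLocalRing.maximalIdeal O ^ (n + 1)) : κ x = 0 := by
  by_contra h
  have hu : IsUnit (κ x) := IsUnit.mk0 _ h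
  have hux : IsUnit x := (isUnit_map_iff κ x).mp hu
  have hxm : x ∈ IsLocalRing.maximalIdeal O := Ideal.pow_le_self (Nat.succ_ne_zero n) hx
  exact (IsLocalRing.mem_maximalIdeal x).mp hxm hux

/-- The closed point of the `n`-th infinitesimal neighbourhood. -/
noncomputable def ctn (n : ℕ) : Spec (CommRingCat.of K) ⟶
    Spec (CommRingCat.of (O ⧸ IsLocalRing.maximalIdeal O ^ (n + 1))) :=
  Spec.map (CommRingCat.ofHom (Ideal.Quotient.lift _ κ (κ_eq_zero O κ n)))

omit [IsNoetherianRing O] in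
include hκ in
lemma ctn_tn (n : ℕ) : ctn O κ n ≫ tn (K := K) O ι n = y₀ := by
  rw [ctn, tn, ← Category.assoc, ← Spec.map_comp, ← hκ]
  congr 2

omit [Algebra K O] [IsNoetherianRing O] in
instance surjective_ctn (n : ℕ) : Surjective (ctn O κ n) := by
  haveI : Subsingleton (Spec (CommRingCat.of (O ⧸ IsLocalRing.maximalIdeal O ^ (n + 1)))) :=
    subsingleton_spec_quot O n
  obtain ⟨s⟩ : Nonempty (Spec (CommRingCat.of K)) := inferInstanceAs (Nonempty (PrimeSpectrum K))
  exact ⟨fun x => ⟨s, Subsingleton.elim _ _⟩⟩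

include ha hy₀ hj₁f hj₁s hσs hconst hφ hι hκ in
lemma piece [IsSchemeTheoreticallyDominant ι] [QuasiCompact ι]
    (A : Type u) [CommRing A] [Algebra K A] (g : Spec (CommRingCat.of A) ⟶ X)
    (hg : g ≫ a = Spec.map (CommRingCat.ofHom (algebraMap K A))) :
    pullback.map (Spec.map (CommRingCat.ofHom (algebraMap K A))) b a b g (𝟙 Y) (𝟙 _)
        (by rw [Category.comp_id, hg]) (by rw [Category.comp_id, Category.id_comp]) ≫ φ =
      pullback.map (Spec.map (CommRingCat.ofHom (algebraMap K A))) b a b g (𝟙 Y) (𝟙 _)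
        (by rw [Category.comp_id, hg]) (by rw [Category.comp_id, Category.id_comp]) ≫
        pullback.snd a b ≫ σ ≫ φ := by
  set pm := pullback.map (Spec.map (CommRingCat.ofHom (algebraMap K A))) b a b g (𝟙 Y) (𝟙 _)
        (by rw [Category.comp_id, hg]) (by rw [Category.comp_id, Category.id_comp]) with hpm
  have hpms : pm ≫ pullback.snd a b = pullback.snd _ b := by
    rw [hpm, pullback.lift_snd, Category.comp_id]
  apply IIaff A b O ι hι c (pm ≫ φ) (pm ≫ pullback.snd a b ≫ σ ≫ φ)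
  · simp only [Category.assoc]
    rw [hφ, reassoc_of% hσs]
  · intro n
    have hP := partI a b ha x₀ y₀ hy₀ φ j₁ hj₁f hj₁s σ hσs hconst (tn (K := K) O ι n) (ctn O κ n)
      (ctn_tn y₀ O ι κ hκ n)
    set θn := θ A b _ (tn (K := K) O ι n) (tn_comp b O ι hι n) with hθn
    have hcond : (θn ≫ pm) ≫ pullback.snd a b =
        Spec.map (CommRingCat.ofHom (Algebra.TensorProduct.includeRight (R := K) (A := A)
          (B := O ⧸ IsLocalRing.maximalIdeal O ^ (n + 1))).toRingHom) ≫ tn (K := K) O ι n := by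
      rw [Category.assoc, hpms, hθn, θ_snd]
    have e : ∀ {W : Scheme.{u}} (ψ : pullback a b ⟶ W), θn ≫ pm ≫ ψ =
        pullback.lift (θn ≫ pm) _ hcond ≫ pullback.fst (pullback.snd a b) (tn (K := K) O ι n) ≫
          ψ := by
      intro W ψ
      rw [pullback.lift_fst_assoc, Category.assoc]
    rw [e φ, e (pullback.snd a b ≫ σ ≫ φ), hP]

include ha hy₀ hj₁f hj₁s hσs hconst hφ hι hκ in
lemma piece' [IsSchemeTheoreticallyDominant ι] [QuasiCompact ι]
    (A : Type u) [CommRing A] [Algebra K A] (g : Spec (CommRingCat.of A) ⟶ X)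
    (a' : Spec (CommRingCat.of A) ⟶ Spec (CommRingCat.of K))
    (ha' : a' = Spec.map (CommRingCat.ofHom (algebraMap K A))) (hg : g ≫ a = a') :
    pullback.map a' b a b g (𝟙 Y) (𝟙 _)
        (by rw [Category.comp_id, hg]) (by rw [Category.comp_id, Category.id_comp]) ≫ φ =
      pullback.map a' b a b g (𝟙 Y) (𝟙 _)
        (by rw [Category.comp_id, hg]) (by rw [Category.comp_id, Category.id_comp]) ≫
        pullback.snd a b ≫ σ ≫ φ := by
  subst ha'
  exact piece a b ha x₀ y₀ hy₀ φ j₁ hj₁f hj₁s σ hσs hconst c hφ O ι hι κ hκ A g hg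

include ha hy₀ hj₁f hj₁s hσs hconst hφ hι hκ in
lemma piece'' [IsSchemeTheoreticallyDominant ι] [QuasiCompact ι]
    (R : CommRingCat.{u}) (g : Spec R ⟶ X) :
    pullback.map (g ≫ a) b a b g (𝟙 Y) (𝟙 _)
        (by rw [Category.comp_id]) (by rw [Category.comp_id, Category.id_comp]) ≫ φ =
      pullback.map (g ≫ a) b a b g (𝟙 Y) (𝟙 _)
        (by rw [Category.comp_id]) (by rw [Category.comp_id, Category.id_comp]) ≫
        pullback.snd a b ≫ σ ≫ φ := by
  letI : Algebra K R := (Spec.preimage (g ≫ a)).hom.toAlgebra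
  have hg : g ≫ a = Spec.map (CommRingCat.ofHom (algebraMap K R)) :=
    (Spec.map_preimage (g ≫ a)).symm
  exact piece' a b ha x₀ y₀ hy₀ φ j₁ hj₁f hj₁s σ hσs hconst c hφ O ι hι κ hκ R g (g ≫ a) hg rfl

include ha hy₀ hj₁f hj₁s hσs hconst hφ hι hκ in
lemma partII_aux [IsSchemeTheoreticallyDominant ι] [QuasiCompact ι] :
    φ = pullback.snd a b ≫ σ ≫ φ := by
  apply Scheme.Cover.hom_ext (Scheme.Pullback.openCoverOfLeft X.affineOpenCover.openCover a b)
  intro i
  exact piece'' a b ha x₀ y₀ hy₀ φ j₁ hj₁f hj₁s σ hσs hconst c hφ O ι hι κ hκ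
    (X.affineOpenCover.X i) (X.affineOpenCover.f i)

end partIII

section partIV

variable {K : Type u} [Field K] {X Y Z : Scheme.{u}}
  (a : X ⟶ Spec (CommRingCat.of K)) (b : Y ⟶ Spec (CommRingCat.of K))
  [QuasiCompact a] [QuasiSeparated a]
  (ha : Function.Bijective ((Scheme.ΓSpecIso (CommRingCat.of K)).inv ≫ a.appTop).hom)
  (x₀ : Spec (CommRingCat.of K) ⟶ X)
  (y₀ : Spec (CommRingCat.of K) ⟶ Y) (hy₀ : y₀ ≫ b = 𝟙 _)
  (φ : pullback a b ⟶ Z)
  (j₁ : X ⟶ pullback a b) (hj₁f : j₁ ≫ pullback.fst a b = 𝟙 X)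
  (hj₁s : j₁ ≫ pullback.snd a b = a ≫ y₀)
  (σ : Y ⟶ pullback a b)
  (hσs : σ ≫ pullback.snd a b = 𝟙 Y)
  (hconst : j₁ ≫ φ = a ≫ x₀ ≫ j₁ ≫ φ)
  (c : Z ⟶ Spec (CommRingCat.of K)) [IsSeparated c] (hφ : φ ≫ c = pullback.snd a b ≫ b)

include ha hy₀ hj₁f hj₁s hσs hconst hφ in
lemma rigidity_aux (O : CommRingCat.{u}) [IsLocalRing O] [IsNoetherianRing O]
    (ι : Spec O ⟶ Y) [IsSchemeTheoreticallyDominant ι] [QuasiCompact ι]
    (κ : O ⟶ CommRingCat.of K) [IsLocalHom κ.hom] (hκ : Spec.map κ ≫ ι = y₀) :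
    φ = pullback.snd a b ≫ σ ≫ φ := by
  letI : Algebra K O := (Spec.preimage (ι ≫ b)).hom.toAlgebra
  have hι : ι ≫ b = Spec.map (CommRingCat.ofHom (algebraMap K O)) :=
    (Spec.map_preimage (ι ≫ b)).symm
  exact partII_aux a b ha x₀ y₀ hy₀ φ j₁ hj₁f hj₁s σ hσs hconst c hφ O ι hι κ.hom hκ

include ha hy₀ hj₁f hj₁s hσs hconst hφ in
/-- **Rigidity lemma for anti-affine schemes**, scheme form. -/
theorem rigidity_antiAffine [IsIntegral Y] [IsLocallyNoetherian Y] [IsSeparated b] :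
    φ = pullback.snd a b ≫ σ ≫ φ := by
  let y : Y := y₀ (IsLocalRing.closedPoint K)
  haveI : IsDominant (Y.fromSpecStalk y) := by
    rw [isDominant_iff, DenseRange, Scheme.range_fromSpecStalk]
    have hgen : genericPoint Y ∈ {x : Y | x ⤳ y} :=
      (genericPoint_spec Y).specializes (Set.mem_univ y)
    refine Dense.mono (Set.singleton_subset_iff.mpr hgen) ?_
    rw [dense_iff_closure_eq]
    exact (genericPoint_spec Y).def
  haveI : IsSchemeTheoreticallyDominant (Y.fromSpecStalk y) := .of_isDominant _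
  haveI : QuasiSeparatedSpace Y :=
    (quasiSeparated_iff_quasiSeparatedSpace b).mp inferInstance
  haveI : QuasiCompact (Y.fromSpecStalk y) := inferInstance
  exact rigidity_aux a b ha x₀ y₀ hy₀ φ j₁ hj₁f hj₁s σ hσs hconst c hφ (Y.presheaf.stalk y)
    (Y.fromSpecStalk y) (Scheme.stalkClosedPointTo y₀)
    (Scheme.Spec_stalkClosedPointTo_fromSpecStalk y₀)

end partIV

end Groth.Agent.Lib.Helper60.AntiAffRigidity
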