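import Mathlib
import Groth.Agent.Lib.Helper60.AntiAffRigidity

/-!
# Rigidity lemma for anti-affine schemes, connected (possibly non-reduced) parameter space (helper60)

`X` quasi-compact quasi-separated over a field `K` with `O(X) = K` and a rational point,
`Y` locally Noetherian with Noetherian connected underlying space, `Z` separated.
A morphism `X ×_K Y ⟶ Z` which maps one fibre `X × y₀` into an affine open of `Z`
factors through the second projection.
-/

universe u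

open CategoryTheory CategoryTheory.Limits AlgebraicGeometry TensorProduct

namespace Groth.Agent.Lib.Helper60.AntiAffRigidity

section topo

/-- In a Noetherian quasi-sober space a set stable under specialization and generization is
closed. -/
lemma isClosed_of_stable {Y : Type*} [TopologicalSpace Y] [TopologicalSpace.NoetherianSpace Y]
    [QuasiSober Y] (S : Set Y)
    (hgen : ∀ y y' : Y, y' ⤳ y → y ∈ S → y' ∈ S)
    (hspec : ∀ y y' : Y, y' ⤳ y → y' ∈ S → y ∈ S) : IsClosed S := by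
  have hS : S = ⋃₀ {C ∈ irreducibleComponents Y | (C ∩ S).Nonempty} := by
    ext y
    constructor
    · intro hy
      exact ⟨irreducibleComponent y, ⟨irreducibleComponent_mem_irreducibleComponents y,
        ⟨y, mem_irreducibleComponent, hy⟩⟩, mem_irreducibleComponent⟩
    · rintro ⟨C, ⟨hC, ⟨y₁, hy₁C, hy₁S⟩⟩, hyC⟩
      have hCirr : IsIrreducible C := hC.1
      have hCcl : IsClosed C := isClosed_of_mem_irreducibleComponents C hC
      obtain ⟨η, hη⟩ := QuasiSober.sober hCirr hCcl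
      have h1 : η ⤳ y₁ := hη.specializes hy₁C
      have h2 : η ⤳ y := hη.specializes hyC
      exact hspec y η h2 (hgen y₁ η h1 hy₁S)
  rw [hS, Set.sUnion_eq_biUnion]
  apply Set.Finite.isClosed_biUnion
  · exact (TopologicalSpace.NoetherianSpace.finite_irreducibleComponents (α := Y)).subset
      (fun C hC => hC.1)
  · intro C hC
    exact isClosed_of_mem_irreducibleComponents C hC.1

lemma eq_univ_of_stable {Y : Type*} [TopologicalSpace Y] [TopologicalSpace.NoetherianSpace Y]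
    [QuasiSober Y] [PreconnectedSpace Y] (S : Set Y) (hne : S.Nonempty)
    (hgen : ∀ y y' : Y, y' ⤳ y → y ∈ S → y' ∈ S)
    (hspec : ∀ y y' : Y, y' ⤳ y → y' ∈ S → y ∈ S) : S = Set.univ := by
  have h1 : IsClosed S := isClosed_of_stable S hgen hspec
  have h2 : IsClosed Sᶜ := by
    apply isClosed_of_stable
    · intro y y' h hy hy'
      exact hy (hspec y y' h hy')
    · intro y y' h hy' hy
      exact hy' (hgen y y' h hy)
  have hclopen : IsClopen S := ⟨h1, by simpa using h2.isOpen_compl⟩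
  exact hclopen.eq_univ hne

end topo

section eqOn

variable {K : Type u} [Field K] {X Y Z : Scheme.{u}}
  (a : X ⟶ Spec (CommRingCat.of K)) (b : Y ⟶ Spec (CommRingCat.of K))
  [QuasiCompact a] [QuasiSeparated a]
  (ha : Function.Bijective ((Scheme.ΓSpecIso (CommRingCat.of K)).inv ≫ a.appTop).hom)
  (φ : pullback a b ⟶ Z)
  (σ : Y ⟶ pullback a b) (hσs : σ ≫ pullback.snd a b = 𝟙 Y)

/-- `φ` and `pr₂ ≫ σ ≫ φ` agree over the test scheme `t : T ⟶ Y`. -/
def EqOn {T : Scheme.{u}} (t : T ⟶ Y) : Prop :=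
  pullback.fst (pullback.snd a b) t ≫ φ =
    pullback.fst (pullback.snd a b) t ≫ pullback.snd a b ≫ σ ≫ φ

variable {a b φ σ} in
lemma EqOn.comp {T T' : Scheme.{u}} {t : T ⟶ Y} (h : EqOn a b φ σ t) (s : T' ⟶ T) :
    EqOn a b φ σ (s ≫ t) := by
  obtain ⟨l, hl⟩ : ∃ l : pullback (pullback.snd a b) (s ≫ t) ⟶ pullback (pullback.snd a b) t,
      l ≫ pullback.fst (pullback.snd a b) t = pullback.fst (pullback.snd a b) (s ≫ t) :=
    ⟨pullback.lift (pullback.fst (pullback.snd a b) (s ≫ t))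
        (pullback.snd (pullback.snd a b) (s ≫ t) ≫ s)
        (by rw [pullback.condition, Category.assoc]), pullback.lift_fst _ _ _⟩
  unfold EqOn at h ⊢
  rw [← hl, Category.assoc, h, Category.assoc]

variable {a b φ σ} in
lemma EqOn.of_factor {T T' : Scheme.{u}} {t : T ⟶ Y} (h : EqOn a b φ σ t) (s : T' ⟶ T)
    (t' : T' ⟶ Y) (hs : s ≫ t = t') : EqOn a b φ σ t' := by
  subst hs; exact h.comp s

include ha hσs in
lemma eqOn_of_mem_affineOpen {T : Scheme.{u}} (t : T ⟶ Y) (U₀ : Z.Opens)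
    (hU₀ : IsAffineOpen U₀)
    (hall : ∀ w, (pullback.fst (pullback.snd a b) t ≫ φ) w ∈ U₀) : EqOn a b φ σ t := by
  unfold EqOn
  set u := pullback.fst (pullback.snd a b) t with hu
  set πT := pullback.snd (pullback.snd a b) t with hπT
  have H₁ : IsPullback (pullback.fst a b) (pullback.snd a b) a b := IsPullback.of_hasPullback a b
  have H₂ : IsPullback u πT (pullback.snd a b) t := IsPullback.of_hasPullback _ _
  have HT : IsPullback (u ≫ pullback.fst a b) πT a (t ≫ b) := H₂.paste_horiz H₁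
  haveI : IsIso πT.appTop :=
    Groth.Agent.Lib.Helper48.FibBaseChange.isIso_app_of_isPullback HT
      (Groth.Agent.Lib.Helper60.Rigidity.isIso_app_of_bijective a ha) ⊤
  let σT : T ⟶ pullback (pullback.snd a b) t :=
    pullback.lift (t ≫ σ) (𝟙 T) (by rw [Category.assoc, hσs, Category.comp_id, Category.id_comp])
  have hσTπ : σT ≫ πT = 𝟙 T := pullback.lift_snd _ _ _
  have hσTu : σT ≫ u = t ≫ σ := pullback.lift_fst _ _ _
  have key := eq_of_forall_mem_affineOpen πT σT hσTπ (u ≫ φ) U₀ hU₀ hall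
  rw [key, reassoc_of% hσTu, ← Category.assoc πT t, ← H₂.w, Category.assoc]

include ha hσs in
lemma eqOn_of_fibre {T : Scheme.{u}} (t : T ⟶ Y) (y : Y) (ht : ∀ p : T, t p = y)
    (U₀ : Z.Opens) (hU₀ : IsAffineOpen U₀)
    (hfib : ∀ w : ↥(pullback a b), pullback.snd a b w = y → φ w ∈ U₀) : EqOn a b φ σ t := by
  apply eqOn_of_mem_affineOpen a b ha φ σ hσs t U₀ hU₀
  intro w
  rw [Scheme.Hom.comp_apply]
  apply hfib
  rw [← Scheme.Hom.comp_apply, pullback.condition, Scheme.Hom.comp_apply, ht]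

end eqOn

section IIgen

variable {K : Type u} [Field K] (A : Type u) [CommRing A] [Algebra K A]
  {Y Z : Scheme.{u}} (b : Y ⟶ Spec (CommRingCat.of K))
  (O : Type u) [CommRing O] [Algebra K O] [IsLocalRing O] [IsNoetherianRing O]
  (ι : Spec (CommRingCat.of O) ⟶ Y)
  (hι : ι ≫ b = Spec.map (CommRingCat.ofHom (algebraMap K O)))
  (c : Z ⟶ Spec (CommRingCat.of K)) [IsSeparated c]

lemma IIaff' (φ φ' : pullback (Spec.map (CommRingCat.ofHom (algebraMap K A))) b ⟶ Z)
    (hc : φ ≫ c = φ' ≫ c)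
    (hn : ∀ n : ℕ, θ A b _ (tn (K := K) O ι n) (tn_comp b O ι hι n) ≫ φ =
      θ A b _ (tn (K := K) O ι n) (tn_comp b O ι hι n) ≫ φ') :
    θ A b O ι hι ≫ φ = θ A b O ι hι ≫ φ' := by
  apply ext_of_jointly_injective
    (fun n : ℕ => CommRingCat.of (A ⊗[K] (O ⧸ IsLocalRing.maximalIdeal O ^ (n + 1))))
    (fun n => CommRingCat.ofHom (Algebra.TensorProduct.map (AlgHom.id K A)
      (Ideal.Quotient.mkₐ K (IsLocalRing.maximalIdeal O ^ (n + 1)))).toRingHom)
    (fun x hx => eq_zero_of_forall_quotient A O x hx) _ _ c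
    (by rw [Category.assoc, Category.assoc, hc])
  intro n
  rw [← Category.assoc, ← Category.assoc,
    θ_map A b O _ (Ideal.Quotient.mkₐ K (IsLocalRing.maximalIdeal O ^ (n + 1))) ι hι
      (tn_comp b O ι hι n)]
  exact hn n

end IIgen

section IIgen2

variable {K : Type u} [Field K] {X Y Z : Scheme.{u}}
  (a : X ⟶ Spec (CommRingCat.of K)) (b : Y ⟶ Spec (CommRingCat.of K))
  (φ : pullback a b ⟶ Z)
  (σ : Y ⟶ pullback a b) (hσs : σ ≫ pullback.snd a b = 𝟙 Y)
  (c : Z ⟶ Spec (CommRingCat.of K)) [IsSeparated c] (hφ : φ ≫ c = pullback.snd a b ≫ b)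
  (O : Type u) [CommRing O] [Algebra K O] [IsLocalRing O] [IsNoetherianRing O]
  (ι : Spec (CommRingCat.of O) ⟶ Y)
  (hι : ι ≫ b = Spec.map (CommRingCat.ofHom (algebraMap K O)))

include hσs hφ hι in
lemma pieceGen' (hn : ∀ n : ℕ, EqOn a b φ σ (tn (K := K) O ι n))
    (A : Type u) [CommRing A] [Algebra K A] (g : Spec (CommRingCat.of A) ⟶ X)
    (a' : Spec (CommRingCat.of A) ⟶ Spec (CommRingCat.of K))
    (ha' : a' = Spec.map (CommRingCat.ofHom (algebraMap K A))) (hg : g ≫ a = a')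
    (pm : pullback a' b ⟶ pullback a b)
    (hpm : pm = pullback.map a' b a b g (𝟙 Y) (𝟙 _)
        (by rw [Category.comp_id, hg]) (by rw [Category.comp_id, Category.id_comp])) :
    pullback.fst (pm ≫ pullback.snd a b) ι ≫ pm ≫ φ =
      pullback.fst (pm ≫ pullback.snd a b) ι ≫ pm ≫ pullback.snd a b ≫ σ ≫ φ := by
  subst ha'
  have hpms : pm ≫ pullback.snd a b = pullback.snd _ b := by
    rw [hpm, pullback.lift_snd, Category.comp_id]
  have key : θ A b O ι hι ≫ (pm ≫ φ) = θ A b O ι hι ≫ (pm ≫ pullback.snd a b ≫ σ ≫ φ) := by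
    apply IIaff' A b O ι hι c
    · simp only [Category.assoc]
      rw [hφ, reassoc_of% hσs]
    · intro n
      have hP := hn n
      unfold EqOn at hP
      set θn := θ A b _ (tn (K := K) O ι n) (tn_comp b O ι hι n) with hθn
      have hcond : (θn ≫ pm) ≫ pullback.snd a b =
          Spec.map (CommRingCat.ofHom (Algebra.TensorProduct.includeRight (R := K) (A := A)
            (B := O ⧸ IsLocalRing.maximalIdeal O ^ (n + 1))).toRingHom) ≫ tn (K := K) O ι n := by
        rw [Category.assoc, hpms, hθn, θ_snd]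
      have e : ∀ {W : Scheme.{u}} (ψ : pullback a b ⟶ W), θn ≫ pm ≫ ψ =
          pullback.lift (θn ≫ pm) _ hcond ≫ pullback.fst (pullback.snd a b) (tn (K := K) O ι n) ≫
            ψ := by
        intro W ψ
        rw [pullback.lift_fst_assoc, Category.assoc]
      rw [e φ, e (pullback.snd a b ≫ σ ≫ φ), hP]
  obtain ⟨l, hl⟩ : ∃ l : pullback (pm ≫ pullback.snd a b) ι ⟶ Spec (CommRingCat.of (A ⊗[K] O)),
      l ≫ θ A b O ι hι = pullback.fst (pm ≫ pullback.snd a b) ι :=
    ⟨(isPullback_θ A b O ι hι).lift (pullback.fst (pm ≫ pullback.snd a b) ι)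
      (pullback.snd (pm ≫ pullback.snd a b) ι)
      (by rw [← hpms, pullback.condition]), IsPullback.lift_fst _ _ _ _⟩
  rw [← hl, Category.assoc, key, Category.assoc]

include hσs hφ hι in
lemma pieceGen (hn : ∀ n : ℕ, EqOn a b φ σ (tn (K := K) O ι n))
    (R : CommRingCat.{u}) (g : Spec R ⟶ X) (pm : pullback (g ≫ a) b ⟶ pullback a b)
    (hpm : pm = pullback.map (g ≫ a) b a b g (𝟙 Y) (𝟙 _)
        (by rw [Category.comp_id]) (by rw [Category.comp_id, Category.id_comp])) :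
    pullback.fst (pm ≫ pullback.snd a b) ι ≫ pm ≫ φ =
      pullback.fst (pm ≫ pullback.snd a b) ι ≫ pm ≫ pullback.snd a b ≫ σ ≫ φ := by
  letI : Algebra K R := (Spec.preimage (g ≫ a)).hom.toAlgebra
  have hg : g ≫ a = Spec.map (CommRingCat.ofHom (algebraMap K R)) :=
    (Spec.map_preimage (g ≫ a)).symm
  exact pieceGen' a b φ σ hσs c hφ O ι hι hn R g (g ≫ a) hg rfl pm hpm

include hσs hφ hι in
lemma IIgen (hn : ∀ n : ℕ, EqOn a b φ σ (tn (K := K) O ι n)) : EqOn a b φ σ ι := by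
  unfold EqOn
  apply Scheme.Cover.hom_ext (Scheme.Pullback.openCoverOfLeft
    (Scheme.Pullback.openCoverOfLeft X.affineOpenCover.openCover a b) (pullback.snd a b) ι)
  intro i
  have h := pieceGen a b φ σ hσs c hφ O ι hι hn (X.affineOpenCover.X i) (X.affineOpenCover.f i)
    _ rfl
  have e : ∀ {W : Scheme.{u}} (ψ : pullback a b ⟶ W),
      (Scheme.Pullback.openCoverOfLeft
        (Scheme.Pullback.openCoverOfLeft X.affineOpenCover.openCover a b)
          (pullback.snd a b) ι).f i ≫ pullback.fst (pullback.snd a b) ι ≫ ψ =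
      pullback.fst _ ι ≫ (Scheme.Pullback.openCoverOfLeft X.affineOpenCover.openCover a b).f i ≫
        ψ := by
    intro W ψ
    rw [← Category.assoc, ← Category.assoc]
    congr 1
    exact pullback.lift_fst _ _ _
  rw [e φ, e (pullback.snd a b ≫ σ ≫ φ)]
  exact h

end IIgen2

section main

variable {K : Type u} [Field K] {X Y Z : Scheme.{u}}
  (a : X ⟶ Spec (CommRingCat.of K)) (b : Y ⟶ Spec (CommRingCat.of K))
  [QuasiCompact a] [QuasiSeparated a]
  (ha : Function.Bijective ((Scheme.ΓSpecIso (CommRingCat.of K)).inv ≫ a.appTop).hom)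
  (φ : pullback a b ⟶ Z)
  (σ : Y ⟶ pullback a b) (hσs : σ ≫ pullback.snd a b = 𝟙 Y)
  (c : Z ⟶ Spec (CommRingCat.of K)) [IsSeparated c] (hφ : φ ≫ c = pullback.snd a b ≫ b)

lemma specMap_mk_eq_closedPoint (O : Type u) [CommRing O] [IsLocalRing O] (n : ℕ)
    (f : O →+* O ⧸ IsLocalRing.maximalIdeal O ^ (n + 1))
    (hf : f = Ideal.Quotient.mk (IsLocalRing.maximalIdeal O ^ (n + 1)))
    (p : Spec (CommRingCat.of (O ⧸ IsLocalRing.maximalIdeal O ^ (n + 1)))) :
    (Spec.map (CommRingCat.ofHom f)) p = IsLocalRing.closedPoint O := by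
  subst hf
  apply PrimeSpectrum.ext
  show Ideal.comap (Ideal.Quotient.mk (IsLocalRing.maximalIdeal O ^ (n + 1))) p.asIdeal =
    IsLocalRing.maximalIdeal O
  have h1 : IsLocalRing.maximalIdeal O ^ (n + 1) ≤
      Ideal.comap (Ideal.Quotient.mk (IsLocalRing.maximalIdeal O ^ (n + 1))) p.asIdeal := by
    intro x hx
    show Ideal.Quotient.mk _ x ∈ p.asIdeal
    rw [Ideal.Quotient.eq_zero_iff_mem.mpr hx]; exact zero_mem _
  haveI : (Ideal.comap (Ideal.Quotient.mk (IsLocalRing.maximalIdeal O ^ (n + 1)))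
      p.asIdeal).IsPrime := Ideal.comap_isPrime _ _
  have h2 := Ideal.IsPrime.le_of_pow_le h1
  exact ((IsLocalRing.maximalIdeal.isMaximal O).eq_of_le (Ideal.IsPrime.ne_top inferInstance)
    h2).symm

include ha hσs hφ in
lemma eqOn_local_of_fibre (O : CommRingCat.{u}) [IsLocalRing O] [IsNoetherianRing O]
    (ι : Spec O ⟶ Y) (y : Y) (hy : ι (IsLocalRing.closedPoint O) = y)
    (U₀ : Z.Opens) (hU₀ : IsAffineOpen U₀)
    (hfib : ∀ w : ↥(pullback a b), pullback.snd a b w = y → φ w ∈ U₀) : EqOn a b φ σ ι := by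
  letI : Algebra K O := (Spec.preimage (ι ≫ b)).hom.toAlgebra
  have hι : ι ≫ b = Spec.map (CommRingCat.ofHom (algebraMap K O)) :=
    (Spec.map_preimage (ι ≫ b)).symm
  apply IIgen a b φ σ hσs c hφ O ι hι
  intro n
  apply eqOn_of_fibre a b ha φ σ hσs _ y _ U₀ hU₀ hfib
  intro p
  have h1 := specMap_mk_eq_closedPoint O n
    (Ideal.Quotient.mkₐ K (IsLocalRing.maximalIdeal O ^ (n + 1))).toRingHom rfl p
  rw [tn, Scheme.Hom.comp_apply, h1, hy]

include ha hσs hφ in
lemma eqOn_stalk_of_fibre [IsLocallyNoetherian Y] (y : Y)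
    (U₀ : Z.Opens) (hU₀ : IsAffineOpen U₀)
    (hfib : ∀ w : ↥(pullback a b), pullback.snd a b w = y → φ w ∈ U₀) :
    EqOn a b φ σ (Y.fromSpecStalk y) :=
  eqOn_local_of_fibre a b ha φ σ hσs c hφ (Y.presheaf.stalk y) (Y.fromSpecStalk y) y
    Scheme.fromSpecStalk_closedPoint U₀ hU₀ hfib

end main

section final

/-- (copied from helper's `S4366.flat_fromSpecStalk`) -/
lemma flat_fromSpecStalk' (Y : Scheme.{u}) (y : Y) : Flat (Y.fromSpecStalk y) := by
  obtain ⟨_, ⟨V, hV, rfl⟩, hyV, -⟩ :=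
    Y.isBasis_affineOpens.exists_subset_of_mem_open (Set.mem_univ y) isOpen_univ
  rw [← hV.fromSpecStalk_eq_fromSpecStalk hyV]
  unfold IsAffineOpen.fromSpecStalk
  have : Flat (Spec.map (Y.presheaf.germ V y hyV)) := by
    rw [Flat.SpecMap_iff]
    let _ : Algebra Γ(Y, V) (Y.presheaf.stalk y) :=
      TopCat.Presheaf.algebra_section_stalk Y.presheaf (⟨y, hyV⟩ : V)
    have := hV.isLocalization_stalk ⟨y, hyV⟩
    exact IsLocalization.flat (Y.presheaf.stalk y) (hV.primeIdealOf ⟨y, hyV⟩).asIdeal.primeCompl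
  have : IsOpenImmersion hV.fromSpec := hV.isOpenImmersion_fromSpec
  infer_instance

lemma exists_closed_equalizer {P Z S : Scheme.{u}} (φ φ' : P ⟶ Z) (c : Z ⟶ S) [IsSeparated c]
    (h : φ ≫ c = φ' ≫ c) :
    ∃ (E : Scheme.{u}) (e : E ⟶ P), IsClosedImmersion e ∧ e ≫ φ = e ≫ φ' ∧
      ∀ {W : Scheme.{u}} (r : W ⟶ P), r ≫ φ = r ≫ φ' → ∃ l : W ⟶ E, l ≫ e = r := by
  let X' : Over S := Over.mk (φ ≫ c)
  let Y' : Over S := Over.mk c
  let f' : X' ⟶ Y' := Over.homMk φ
  let g' : X' ⟶ Y' := Over.homMk φ' h.symm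
  have : IsSeparated Y'.hom := ‹_›
  refine ⟨(equalizer f' g').left, (equalizer.ι f' g').left, inferInstance,
    congr($(equalizer.condition f' g').left), ?_⟩
  intro W r hr
  let U' : Over S := Over.mk (r ≫ φ ≫ c)
  let r' : U' ⟶ X' := Over.homMk r
  have hl : r' ≫ f' = r' ≫ g' := by ext1; exact hr
  exact ⟨(equalizer.lift r' hl).left, by rw [← Over.comp_left, equalizer.lift_ι]; rfl⟩

lemma ext_of_forall_fromSpecStalk {P Z : Scheme.{u}} (φ φ' : P ⟶ Z)
    (h : ∀ w : P, P.fromSpecStalk w ≫ φ = P.fromSpecStalk w ≫ φ') : φ = φ' := by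
  let f : ∀ w : P, Spec (P.presheaf.stalk w) ⟶ P := fun w => P.fromSpecStalk w
  haveI : ∀ w, Flat (f w) := fun w => flat_fromSpecStalk' P w
  haveI : Flat (Sigma.desc f) := inferInstance
  haveI : Surjective (Sigma.desc f) := ⟨fun w =>
    ⟨(Sigma.ι (fun w => Spec (P.presheaf.stalk w)) w) (IsLocalRing.closedPoint _), by
      rw [← Scheme.Hom.comp_apply, Sigma.ι_desc]; exact Scheme.fromSpecStalk_closedPoint⟩⟩
  haveI := Flat.epi_of_flat_of_surjective (Sigma.desc f)
  rw [← cancel_epi (Sigma.desc f)]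
  apply Sigma.hom_ext
  intro w
  rw [Sigma.ι_desc_assoc, Sigma.ι_desc_assoc]
  exact h w

variable {K : Type u} [Field K] {X Y Z : Scheme.{u}}
  (a : X ⟶ Spec (CommRingCat.of K)) (b : Y ⟶ Spec (CommRingCat.of K))
  [QuasiCompact a] [QuasiSeparated a]
  (ha : Function.Bijective ((Scheme.ΓSpecIso (CommRingCat.of K)).inv ≫ a.appTop).hom)
  (φ : pullback a b ⟶ Z)
  (σ : Y ⟶ pullback a b) (hσs : σ ≫ pullback.snd a b = 𝟙 Y)
  (c : Z ⟶ Spec (CommRingCat.of K)) [IsSeparated c] (hφ : φ ≫ c = pullback.snd a b ≫ b)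

include ha hσs hφ in
/-- **Rigidity lemma for anti-affine schemes**, connected Noetherian parameter space. -/
theorem rigidity_connected [IsLocallyNoetherian Y] [TopologicalSpace.NoetherianSpace Y]
    [PreconnectedSpace Y]
    (y₀ : Y) (U₀ : Z.Opens) (hU₀ : IsAffineOpen U₀)
    (hfib : ∀ w : ↥(pullback a b), pullback.snd a b w = y₀ → φ w ∈ U₀) :
    φ = pullback.snd a b ≫ σ ≫ φ := by
  have hc : φ ≫ c = (pullback.snd a b ≫ σ ≫ φ) ≫ c := by
    simp only [Category.assoc]; rw [hφ, reassoc_of% hσs]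
  obtain ⟨E, e, he, hee, hlift⟩ := exists_closed_equalizer φ (pullback.snd a b ≫ σ ≫ φ) c hc
  have hcl : IsClosed (Set.range e) := e.isClosedEmbedding.isClosed_range
  have hE1 : ∀ w ∈ Set.range e, φ w = (pullback.snd a b ≫ σ ≫ φ) w := by
    rintro _ ⟨x, rfl⟩
    rw [← Scheme.Hom.comp_apply, ← Scheme.Hom.comp_apply, hee]
  have hE2 : ∀ {T : Scheme.{u}} (t : T ⟶ Y), EqOn a b φ σ t →
      ∀ w : ↥(pullback a b), pullback.snd a b w ∈ Set.range t → w ∈ Set.range e := by
    intro T t ht w hw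
    obtain ⟨l, hl⟩ := hlift _ ht
    have hw' : w ∈ Set.range (pullback.fst (pullback.snd a b) t) := by
      rw [Scheme.Pullback.range_fst]; exact hw
    obtain ⟨x, rfl⟩ := hw'
    exact ⟨l x, by rw [← Scheme.Hom.comp_apply, hl]⟩
  let S : Set Y := {y | EqOn a b φ σ (Y.fromSpecStalk y)}
  have hgen : ∀ y y' : Y, y' ⤳ y → y ∈ S → y' ∈ S := by
    intro y y' h hy
    exact EqOn.of_factor hy (Spec.map (Y.presheaf.stalkSpecializes h)) _
      (Scheme.SpecMap_stalkSpecializes_fromSpecStalk h)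
  have hopen : IsOpenMap (pullback.snd a b) := (pullback.snd a b).isOpenMap
  have hspec : ∀ y y' : Y, y' ⤳ y → y' ∈ S → y ∈ S := by
    intro y y' h hy'
    have hsub : (pullback.snd a b) ⁻¹' {y'} ⊆ Set.range e := by
      intro w hw
      apply hE2 _ hy'
      rw [Set.mem_preimage, Set.mem_singleton_iff] at hw
      rw [hw]
      exact ⟨IsLocalRing.closedPoint _, Scheme.fromSpecStalk_closedPoint⟩
    have hsub2 : (pullback.snd a b) ⁻¹' {y} ⊆ Set.range e := by
      have h1 : y ∈ closure {y'} := specializes_iff_mem_closure.mp h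
      have h2 : (pullback.snd a b) ⁻¹' (closure {y'}) ⊆
          closure ((pullback.snd a b) ⁻¹' {y'}) :=
        hopen.preimage_closure_subset_closure_preimage
      intro w hw
      have : w ∈ closure ((pullback.snd a b) ⁻¹' {y'}) := by
        apply h2
        rw [Set.mem_preimage, Set.mem_singleton_iff] at hw
        rw [Set.mem_preimage, hw]; exact h1
      exact (hcl.closure_subset_iff.mpr hsub) this
    obtain ⟨U₁, hU₁, hzU₁⟩ : ∃ U₁ : Z.Opens, IsAffineOpen U₁ ∧ (σ ≫ φ) y ∈ U₁ := by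
      obtain ⟨_, ⟨U₁, hU₁, rfl⟩, hz, -⟩ :=
        Z.isBasis_affineOpens.exists_subset_of_mem_open (Set.mem_univ ((σ ≫ φ) y)) isOpen_univ
      exact ⟨U₁, hU₁, hz⟩
    apply eqOn_stalk_of_fibre a b ha φ σ hσs c hφ y U₁ hU₁
    intro w hw
    rw [hE1 w (hsub2 hw), Scheme.Hom.comp_apply, hw]
    exact hzU₁
  have hy₀ : y₀ ∈ S := eqOn_stalk_of_fibre a b ha φ σ hσs c hφ y₀ U₀ hU₀ hfib
  have hS : S = Set.univ := eq_univ_of_stable S ⟨y₀, hy₀⟩ hgen hspec
  apply ext_of_forall_fromSpecStalk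
  intro w
  let f : Spec ((pullback a b).presheaf.stalk w) ⟶ Y :=
    (pullback a b).fromSpecStalk w ≫ pullback.snd a b
  have hf : Spec.map (Scheme.stalkClosedPointTo f) ≫ Y.fromSpecStalk _ = f :=
    Scheme.Spec_stalkClosedPointTo_fromSpecStalk f
  have hy : EqOn a b φ σ (Y.fromSpecStalk (f (IsLocalRing.closedPoint _))) := by
    have : f (IsLocalRing.closedPoint _) ∈ S := by rw [hS]; trivial
    exact this
  have hEq : EqOn a b φ σ f := EqOn.of_factor hy _ _ hf
  unfold EqOn at hEq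
  obtain ⟨l, hl⟩ : ∃ l : Spec ((pullback a b).presheaf.stalk w) ⟶
      pullback (pullback.snd a b) f,
      l ≫ pullback.fst (pullback.snd a b) f = (pullback a b).fromSpecStalk w :=
    ⟨pullback.lift ((pullback a b).fromSpecStalk w) (𝟙 _) (by rw [Category.id_comp]),
      pullback.lift_fst _ _ _⟩
  rw [← hl, Category.assoc, hEq, Category.assoc]

end final

section pointed

variable {K : Type u} [Field K] {X Y Z : Scheme.{u}}
  (a : X ⟶ Spec (CommRingCat.of K)) (b : Y ⟶ Spec (CommRingCat.of K))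
  [QuasiCompact a] [QuasiSeparated a]
  (ha : Function.Bijective ((Scheme.ΓSpecIso (CommRingCat.of K)).inv ≫ a.appTop).hom)
  (φ : pullback a b ⟶ Z)
  (σ : Y ⟶ pullback a b) (hσs : σ ≫ pullback.snd a b = 𝟙 Y)
  (c : Z ⟶ Spec (CommRingCat.of K)) [IsSeparated c] (hφ : φ ≫ c = pullback.snd a b ≫ b)
  (y₀ : Spec (CommRingCat.of K) ⟶ Y) (hy₀ : y₀ ≫ b = 𝟙 _)
  (j₁ : X ⟶ pullback a b) (hj₁f : j₁ ≫ pullback.fst a b = 𝟙 X)
  (hj₁s : j₁ ≫ pullback.snd a b = a ≫ y₀)
  (ζ : Spec (CommRingCat.of K) ⟶ Z) (hconst : j₁ ≫ φ = a ≫ ζ)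

include ha hσs hφ hy₀ hj₁f hj₁s hconst in
/-- Rigidity with the constancy hypothesis on the fibre over a rational point `y₀`. -/
theorem rigidity_connected_pointed [IsLocallyNoetherian Y] [TopologicalSpace.NoetherianSpace Y]
    [PreconnectedSpace Y] : φ = pullback.snd a b ≫ σ ≫ φ := by
  obtain ⟨s⟩ : Nonempty (Spec (CommRingCat.of K)) := inferInstanceAs (Nonempty (PrimeSpectrum K))
  obtain ⟨U₀, hU₀, hzU₀⟩ : ∃ U₀ : Z.Opens, IsAffineOpen U₀ ∧ ζ s ∈ U₀ := by
    obtain ⟨_, ⟨U₀, hU₀, rfl⟩, hz, -⟩ :=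
      Z.isBasis_affineOpens.exists_subset_of_mem_open (Set.mem_univ (ζ s)) isOpen_univ
    exact ⟨U₀, hU₀, hz⟩
  have H₁ : IsPullback (pullback.fst a b) (pullback.snd a b) a b := IsPullback.of_hasPullback a b
  have hbig : IsPullback (j₁ ≫ pullback.fst a b) a a (y₀ ≫ b) := by
    rw [hj₁f, hy₀]
    exact IsPullback.of_horiz_isIso ⟨by rw [Category.id_comp, Category.comp_id]⟩
  have hleft : IsPullback j₁ a (pullback.snd a b) y₀ := IsPullback.of_right hbig hj₁s H₁
  apply rigidity_connected a b ha φ σ hσs c hφ (y₀ s) U₀ hU₀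
  intro w hw
  have hw' : w ∈ Set.range (pullback.fst (pullback.snd a b) y₀) := by
    rw [Scheme.Pullback.range_fst]; exact ⟨s, hw.symm⟩
  obtain ⟨z, rfl⟩ := hw'
  obtain ⟨i, hi⟩ : ∃ i : X ≅ pullback (pullback.snd a b) y₀,
      i.hom ≫ pullback.fst (pullback.snd a b) y₀ = j₁ :=
    ⟨hleft.isoPullback, hleft.isoPullback_hom_fst⟩
  have hz : i.hom (i.inv z) = z := by
    rw [← Scheme.Hom.comp_apply, Iso.inv_hom_id]; rfl
  have h3 : φ ((pullback.fst (pullback.snd a b) y₀) z) = (j₁ ≫ φ) (i.inv z) := by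
    rw [← hi]
    simp only [Scheme.Hom.comp_apply]
    rw [hz]
  rw [h3, hconst, Scheme.Hom.comp_apply]
  have : a (i.inv z) = s := Subsingleton.elim _ _
  rw [this]; exact hzU₀

end pointed

section overK

open MonoidalCategory CartesianMonoidalCategory

/-- Rigidity lemma in `Over (Spec k)`: `X` anti-affine with a rational point, `Y` connected
Noetherian, `Z` separated, `f` constant on `X × y₀`. -/
theorem rigidity_over_connected (k : Type u) [Field k]
    (X Y Z : Over (Spec (CommRingCat.of k))) [QuasiCompact X.hom] [QuasiSeparated X.hom]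
    (hX : Function.Bijective ((Scheme.ΓSpecIso (CommRingCat.of k)).inv ≫ X.hom.appTop).hom)
    [IsLocallyNoetherian Y.left] [TopologicalSpace.NoetherianSpace Y.left]
    [PreconnectedSpace Y.left] [IsSeparated Z.hom]
    (x₀ : 𝟙_ (Over (Spec (CommRingCat.of k))) ⟶ X) (y₀ : 𝟙_ (Over (Spec (CommRingCat.of k))) ⟶ Y)
    (z₀ : 𝟙_ (Over (Spec (CommRingCat.of k))) ⟶ Z) (f : X ⊗ Y ⟶ Z)
    (hf : lift (𝟙 X) (toUnit X ≫ y₀) ≫ f = toUnit X ≫ z₀) :
    f = snd X Y ≫ lift (toUnit Y ≫ x₀) (𝟙 Y) ≫ f := by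
  have hy₀ : y₀.left ≫ Y.hom = 𝟙 _ := Over.w y₀
  have hφ : f.left ≫ Z.hom = Limits.pullback.snd X.hom Y.hom ≫ Y.hom := by
    have h : f.left ≫ Z.hom = Limits.pullback.fst X.hom Y.hom ≫ X.hom := Over.w f
    rw [h, Limits.pullback.condition]
  have hj₁f : (lift (𝟙 X) (toUnit X ≫ y₀)).left ≫ Limits.pullback.fst X.hom Y.hom = 𝟙 X.left :=
    congrArg (fun g => g.left) (lift_fst (𝟙 X) (toUnit X ≫ y₀))
  have hj₁s : (lift (𝟙 X) (toUnit X ≫ y₀)).left ≫ Limits.pullback.snd X.hom Y.hom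
      = X.hom ≫ y₀.left :=
    congrArg (fun g => g.left) (lift_snd (𝟙 X) (toUnit X ≫ y₀))
  have hσs : (lift (toUnit Y ≫ x₀) (𝟙 Y)).left ≫ Limits.pullback.snd X.hom Y.hom = 𝟙 Y.left :=
    congrArg (fun g => g.left) (lift_snd (toUnit Y ≫ x₀) (𝟙 Y))
  have hconst : (lift (𝟙 X) (toUnit X ≫ y₀)).left ≫ f.left = X.hom ≫ z₀.left :=
    congrArg (fun g => g.left) hf
  have key := rigidity_connected_pointed X.hom Y.hom hX f.left _ hσs Z.hom hφ y₀.left hy₀ _
    hj₁f hj₁s z₀.left hconst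
  apply Over.OverMorphism.ext
  exact key

end overK

section connected

open TopologicalSpace Opposite

/-- A scheme over a field `K` with `O(X) = K` is preconnected. -/
lemma preconnectedSpace_of_bijective {K : Type u} [Field K] {X : Scheme.{u}}
    (a : X ⟶ Spec (CommRingCat.of K))
    (ha : Function.Bijective ((Scheme.ΓSpecIso (CommRingCat.of K)).inv ≫ a.appTop).hom) :
    PreconnectedSpace X := by
  rw [preconnectedSpace_iff_clopen]
  intro s hs
  let U : X.Opens := ⟨s, hs.isOpen⟩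
  let V : X.Opens := ⟨sᶜ, hs.compl.isOpen⟩
  have hbot : U ⊓ V = ⊥ := by
    ext x; simp [U, V]
  have htop : U ⊔ V = ⊤ := by
    ext x; simp [U, V, em]
  haveI : Subsingleton Γ(X, U ⊓ V) := by rw [hbot]; infer_instance
  let x : (CommRingCat.of <| RingHom.eqLocus
      (RingHom.comp (X.sheaf.obj.map (homOfLE inf_le_left : U ⊓ V ⟶ U).op).hom
        (RingHom.fst (X.sheaf.obj.obj <| op U) (X.sheaf.obj.obj <| op V)))
      (RingHom.comp (X.sheaf.obj.map (homOfLE inf_le_right : U ⊓ V ⟶ V).op).hom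
        (RingHom.snd (X.sheaf.obj.obj <| op U) (X.sheaf.obj.obj <| op V)))) :=
    ⟨(1, 0), Subsingleton.elim (α := Γ(X, U ⊓ V)) _ _⟩
  let e' : Γ(X, U ⊔ V) := (X.sheaf.objSupIsoProdEqLocus U V).inv x
  have he'U : X.presheaf.map (homOfLE le_sup_left : U ⟶ U ⊔ V).op e' = 1 :=
    TopCat.Sheaf.objSupIsoProdEqLocus_inv_fst X.sheaf U V x
  have he'V : X.presheaf.map (homOfLE le_sup_right : V ⟶ U ⊔ V).op e' = 0 :=
    TopCat.Sheaf.objSupIsoProdEqLocus_inv_snd X.sheaf U V x
  let e : Γ(X, ⊤) := X.presheaf.map (homOfLE htop.ge : (⊤ : X.Opens) ⟶ U ⊔ V).op e'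
  have heU : X.presheaf.map (homOfLE le_top : U ⟶ ⊤).op e = 1 := by
    rw [← he'U]
    show (X.presheaf.map _ ≫ X.presheaf.map _) e' = _
    rw [← Functor.map_comp]; rfl
  have heV : X.presheaf.map (homOfLE le_top : V ⟶ ⊤).op e = 0 := by
    rw [← he'V]
    show (X.presheaf.map _ ≫ X.presheaf.map _) e' = _
    rw [← Functor.map_comp]; rfl
  obtain ⟨l, hl⟩ := ha.2 e
  by_cases h0 : l = 0
  · left
    have : e = 0 := by rw [← hl, h0, map_zero]
    rw [this, map_zero] at heU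
    have h1 : X.basicOpen (1 : Γ(X, U)) = U := Scheme.basicOpen_of_isUnit _ isUnit_one
    rw [← heU, Scheme.basicOpen_zero] at h1
    have : (U : Set X) = ∅ := by rw [← h1]; rfl
    exact this
  · right
    have hu : IsUnit e := by
      rw [← hl]; exact (IsUnit.mk0 l h0).map _
    have hu' : IsUnit (X.presheaf.map (homOfLE le_top : V ⟶ ⊤).op e) := hu.map _
    rw [heV] at hu'
    have h1 : X.basicOpen (0 : Γ(X, V)) = V := Scheme.basicOpen_of_isUnit _ hu'
    rw [Scheme.basicOpen_zero] at h1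
    have : (V : Set X) = ∅ := by rw [← h1]; rfl
    have h2 : sᶜ = ∅ := this
    exact Set.compl_empty_iff.mp h2

end connected

section ratpoint

/-- A nonempty scheme locally of finite type over an algebraically closed field has a rational
point. -/
lemma exists_section_of_isAlgClosed {K : Type u} [Field K] [IsAlgClosed K] {X : Scheme.{u}}
    (a : X ⟶ Spec (CommRingCat.of K)) [LocallyOfFiniteType a] [Nonempty X] :
    ∃ x₀ : Spec (CommRingCat.of K) ⟶ X, x₀ ≫ a = 𝟙 _ := by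
  obtain ⟨x⟩ := ‹Nonempty X›
  obtain ⟨i, y, hy⟩ := X.affineOpenCover.openCover.exists_eq x
  let R : CommRingCat.{u} := X.affineOpenCover.X i
  let g : Spec R ⟶ X := X.affineOpenCover.f i
  haveI : Nonempty (PrimeSpectrum R) := ⟨y⟩
  haveI : Nontrivial R := by
    by_contra h
    rw [not_nontrivial_iff_subsingleton] at h
    exact (PrimeSpectrum.instIsEmptyOfSubsingleton (R := R)).false y
  let ψ : CommRingCat.of K ⟶ R := Spec.preimage (g ≫ a)
  have hψ : Spec.map ψ = g ≫ a := Spec.map_preimage _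
  haveI : LocallyOfFiniteType (g ≫ a) := inferInstance
  have hft : ψ.hom.FiniteType := by
    rw [← HasRingHomProperty.Spec_iff (P := @LocallyOfFiniteType), hψ]; infer_instance
  letI : Algebra K R := ψ.hom.toAlgebra
  haveI : Algebra.FiniteType K R := hft
  obtain ⟨m, hm⟩ := Ideal.exists_maximal R
  letI : Field (R ⧸ m) := Ideal.Quotient.field m
  haveI : Module.Finite K (R ⧸ m) := finite_of_finite_type_of_isJacobsonRing K (R ⧸ m)
  have hbij : Function.Bijective (algebraMap K (R ⧸ m)) :=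
    IsAlgClosed.algebraMap_bijective_of_isIntegral
  let e : K ≃ₐ[K] (R ⧸ m) := AlgEquiv.ofBijective (Algebra.ofId K (R ⧸ m)) hbij
  let ρ : R →ₐ[K] K := (e.symm : (R ⧸ m) →ₐ[K] K).comp (Ideal.Quotient.mkₐ K m)
  refine ⟨Spec.map (CommRingCat.ofHom ρ.toRingHom) ≫ g, ?_⟩
  rw [Category.assoc, ← hψ, ← Spec.map_comp]
  have : ψ ≫ CommRingCat.ofHom ρ.toRingHom = 𝟙 _ := by
    ext l
    exact ρ.commutes l
  exact (congrArg Spec.map this).trans (Spec.map_id _)

lemma nonempty_of_injective {K : Type u} [Field K] {X : Scheme.{u}}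
    (a : X ⟶ Spec (CommRingCat.of K))
    (ha : Function.Injective ((Scheme.ΓSpecIso (CommRingCat.of K)).inv ≫ a.appTop).hom) :
    Nonempty X := by
  by_contra h
  rw [not_nonempty_iff] at h
  haveI : Subsingleton Γ(X, ⊤) := by
    have : (⊤ : X.Opens) = ⊥ := by
      ext x; exact h.elim x
    rw [this]; infer_instance
  have := ha (Subsingleton.elim
    (((Scheme.ΓSpecIso (CommRingCat.of K)).inv ≫ a.appTop).hom (0 : K))
    (((Scheme.ΓSpecIso (CommRingCat.of K)).inv ≫ a.appTop).hom (1 : K)))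
  exact zero_ne_one this

end ratpoint

end Groth.Agent.Lib.Helper60.AntiAffRigidity
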