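import Mathlib

/-!
# Additive polynomials in characteristic `p` (helper60)

`exists_eq_sum_of_additive` : a polynomial `f` over a field of characteristic `p` with
`f(X + Y) = f(X) + f(Y)` (stated as `taylor X (f.map C) = C f + f.map C` in `k[X][Y]`) is of the
form `∑ a_e X^(p^e)`.
-/

set_option autoImplicit false
set_option maxHeartbeats 400000

namespace Groth.Agent.Lib.Helper60.AddPoly

open Polynomial

variable {k : Type*} [Field k]

theorem hasseDeriv_map_C (j : ℕ) (f : k[X]) :
    hasseDeriv j (f.map (C : k →+* k[X])) = (hasseDeriv j f).map C := by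
  ext n : 1
  rw [hasseDeriv_coeff, coeff_map, coeff_map, hasseDeriv_coeff, map_mul, map_natCast]

theorem coeff_taylor_map_C (j : ℕ) (f : k[X]) :
    (taylor (X : k[X]) (f.map C)).coeff j = hasseDeriv j f := by
  rw [taylor_coeff, hasseDeriv_map_C, eval_map, eval₂_C_X]

variable (p : ℕ) [Fact p.Prime] [CharP k p]

theorem coeff_of_additive (f : k[X])
    (h : taylor (X : k[X]) (f.map C) = C f + f.map C) :
    ∀ m, f.coeff m ≠ 0 → ∃ e, m = p ^ e := by
  have h0 : f.coeff 0 = 0 := by
    have := congrArg (fun q => q.coeff 0) h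
    simp only [coeff_taylor_map_C, hasseDeriv_zero, LinearMap.id_coe, id_eq, coeff_add, coeff_C_zero,
      coeff_map] at this
    have h2 : C (f.coeff 0) = 0 := by
      have h3 : f = f + C (f.coeff 0) := this
      exact (add_eq_left.mp h3.symm)
    exact C_eq_zero.mp h2
  have hj : ∀ j n, 1 ≤ j → 1 ≤ n → ((n + j).choose j : k) * f.coeff (n + j) = 0 := by
    intro j n hj hn
    have := congrArg (fun q => q.coeff j) h
    simp only [coeff_taylor_map_C, coeff_add, coeff_map] at this
    rw [coeff_C, if_neg (by omega), zero_add] at this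
    have h2 := congrArg (fun q => q.coeff n) this
    simp only [hasseDeriv_coeff] at h2
    rw [coeff_C, if_neg (by omega)] at h2
    exact h2
  intro m hm
  have hm0 : 0 < m := by
    rcases Nat.eq_zero_or_pos m with rfl | h
    · exact absurd h0 hm
    · exact h
  refine ⟨multiplicity p m, Choose.eq_pow_multiplicity_of_choose_modEq_zero_nat hm0 ?_⟩
  intro i hi
  rw [Finset.mem_Icc] at hi
  have h1 := hj i (m - i) hi.1 (by omega)
  rw [Nat.sub_add_cancel (by omega)] at h1
  have h2 : ((m.choose i : ℕ) : k) = 0 := by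
    rcases mul_eq_zero.mp h1 with h | h
    · exact h
    · exact absurd h hm
  rw [Nat.modEq_zero_iff_dvd]
  exact (CharP.cast_eq_zero_iff k p _).mp h2

theorem exists_eq_sum_of_additive (f : k[X])
    (h : taylor (X : k[X]) (f.map C) = C f + f.map C) :
    ∃ (E : ℕ) (a : ℕ → k), f = ∑ e ∈ Finset.range E, C (a e) * X ^ (p ^ e) := by
  classical
  have hc := coeff_of_additive p f h
  have hp1 : 1 < p := (Fact.out : p.Prime).one_lt
  refine ⟨f.natDegree + 1, fun e => f.coeff (p ^ e), ?_⟩
  ext m
  rw [finsetSum_coeff]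
  simp only [coeff_C_mul_X_pow]
  by_cases hm : f.coeff m = 0
  · rw [hm]
    symm
    refine Finset.sum_eq_zero fun e _ => ?_
    split_ifs with h1
    · rw [← h1, hm]
    · rfl
  · obtain ⟨e₀, rfl⟩ := hc m hm
    have he₀ : e₀ ∈ Finset.range (f.natDegree + 1) := by
      rw [Finset.mem_range]
      have h1 : p ^ e₀ ≤ f.natDegree := le_natDegree_of_ne_zero hm
      have h2 : e₀ < p ^ e₀ := Nat.lt_pow_self hp1
      omega
    rw [Finset.sum_eq_single_of_mem e₀ he₀]
    · rw [if_pos rfl]
    · intro e _ hne
      rw [if_neg]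
      intro h1
      exact hne (Nat.pow_right_injective hp1 h1).symm

end Groth.Agent.Lib.Helper60.AddPoly
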