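import Mathlib
import Groth.Prelude.Def_Disp2

/-!
# `Dieu.BC g P` for a bijective ring endomorphism `g` (helper60)

* `tmul_one_mem`: `y ∈ I • ⊤ → 1 ⊗ y ∈ (I.map g) • ⊤`.
* `eps g hg : BC g P →+ P`, `b ⊗ x ↦ g⁻¹ b • x` for bijective `g`.
* `mem_of_tmul_one_mem`: `1 ⊗ y ∈ I • ⊤ → y ∈ (I.comap g) • ⊤` for bijective `g`.
-/

set_option autoImplicit false

universe u v

namespace Groth.Agent.Lib.Helper60.BCBij

open Dieu

variable {A : Type u} [CommRing A] {P : Type v} [AddCommGroup P] [Module A P]

theorem tmul_one_mem (g : A →+* A) (I : Ideal A) (y : P)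
    (hy : y ∈ I • (⊤ : Submodule A P)) :
    BC.tmul g 1 y ∈ (I.map g) • (⊤ : Submodule A (BC g P)) := by
  refine Submodule.smul_induction_on hy (fun r hr n _ => ?_) (fun x y hx hy => ?_)
  · rw [← BC.tmul_apply_eq, BC.tmul_eq_smul_tmul_one]
    exact Submodule.smul_mem_smul (Ideal.mem_map_of_mem g hr) Submodule.mem_top
  · rw [BC.tmul_add]; exact Submodule.add_mem _ hx hy

/-- The bilinear map `(b, x) ↦ g⁻¹ b • x`. -/
noncomputable def epsBil (g : A →+* A) (hg : Function.Bijective g) : Res g →ₗ[A] P →ₗ[A] P :=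
  LinearMap.mk₂ A (fun b x => (RingEquiv.ofBijective g hg).symm b.val • x)
    (by intro b c x; rw [Res.val_add, map_add, add_smul])
    (by
      intro a b x
      rw [Res.val_smul, map_mul, mul_smul]
      congr 1
      exact (RingEquiv.ofBijective g hg).symm_apply_apply a)
    (by intro b x y; rw [smul_add])
    (by intro a b x; rw [smul_comm])

/-- `b ⊗ x ↦ g⁻¹ b • x`. -/
noncomputable def eps (g : A →+* A) (hg : Function.Bijective g) : BC g P →+ P :=
  (TensorProduct.lift (epsBil (P := P) g hg)).toAddMonoidHom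

theorem eps_tmul (g : A →+* A) (hg : Function.Bijective g) (b : A) (x : P) :
    eps g hg (BC.tmul g b x) = (RingEquiv.ofBijective g hg).symm b • x := by
  change TensorProduct.lift (epsBil (P := P) g hg) ((Res.mk g b) ⊗ₜ[A] x) = _
  rw [TensorProduct.lift.tmul]
  rfl

theorem eps_smul (g : A →+* A) (hg : Function.Bijective g) (c : A) (z : BC g P) :
    eps g hg (c • z) = (RingEquiv.ofBijective g hg).symm c • eps g hg z := by
  induction z using BC.induction_on g with
  | zero => rw [smul_zero, map_zero, smul_zero]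
  | tmul b x => rw [BC.smul_tmul, eps_tmul, eps_tmul, map_mul, mul_smul]
  | add z₁ z₂ h₁ h₂ => rw [smul_add, map_add, map_add, h₁, h₂, smul_add]

theorem mem_of_tmul_one_mem (g : A →+* A) (hg : Function.Bijective g) (I : Ideal A) (y : P)
    (h : BC.tmul g 1 y ∈ I • (⊤ : Submodule A (BC g P))) :
    y ∈ (I.comap g) • (⊤ : Submodule A P) := by
  have key : ∀ z ∈ I • (⊤ : Submodule A (BC g P)),
      eps g hg z ∈ (I.comap g) • (⊤ : Submodule A P) := by
    intro z hz
    refine Submodule.smul_induction_on hz (fun r hr n _ => ?_) (fun x y hx hy => ?_)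
    · rw [eps_smul]
      refine Submodule.smul_mem_smul ?_ Submodule.mem_top
      rw [Ideal.mem_comap]
      have : g ((RingEquiv.ofBijective g hg).symm r) = r :=
        (RingEquiv.ofBijective g hg).apply_symm_apply r
      rw [this]; exact hr
    · rw [map_add]; exact Submodule.add_mem _ hx hy
  have := key _ h
  rwa [eps_tmul, map_one, one_smul] at this

end Groth.Agent.Lib.Helper60.BCBij
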