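import Mathlib
import Groth.Prelude.Def_Disp2

/-!
# Composition of twisted scalar extensions `Dieu.BC` (helper60)

General lemmas on `Dieu.BC g P` for ring endomorphisms `g` of a commutative ring `A`:
the map `L g h ψ : BC g P → BC (g.comp h) P`, `w ⊗ x ↦ w • push (ψ x)`, its compatibility with
`BC.castHom`, associativity, and ideal containment; the general composition law for
`Dieu.vSharpPow`.
-/

set_option autoImplicit false

universe u v

namespace Groth.Agent.Lib.Helper60.BCComp

open Dieu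

variable {A : Type u} [CommRing A] {P : Type v} [AddCommGroup P] [Module A P]

/-! ### casts -/

theorem castHom_castHom {g g' g'' : A →+* A} (e1 : g = g') (e2 : g' = g'') (z : BC g P) :
    BC.castHom e2 (BC.castHom e1 z) = BC.castHom (e1.trans e2) z := by
  subst e1; subst e2; rfl

theorem castHom_rfl {g : A →+* A} (z : BC g P) : BC.castHom (rfl : g = g) z = z := rfl

theorem castHom_eq_castHom {g g' : A →+* A} (e1 e2 : g = g') (z : BC g P) :
    BC.castHom e1 z = BC.castHom e2 z := rfl

theorem castHom_mem_smul_top {g g' : A →+* A} (e : g = g') (I : Ideal A) (z : BC g P)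
    (hz : z ∈ I • (⊤ : Submodule A (BC g P))) :
    BC.castHom e z ∈ I • (⊤ : Submodule A (BC g' P)) := by
  subst e; exact hz

/-! ### the map `L` -/

/-- `L g h ψ : BC g P → BC (g.comp h) P`, `w ⊗ x ↦ w • push (ψ x)`. -/
noncomputable def L (g h : A →+* A) (ψ : P →ₗ[A] BC h P) : BC g P →ₗ[A] BC (g.comp h) P :=
  BC.lift g ((BC.push h g).comp ψ)

theorem L_tmul (g h : A →+* A) (ψ : P →ₗ[A] BC h P) (w : A) (x : P) :
    L g h ψ (BC.tmul g w x) = w • BC.push h g (ψ x) := by
  rw [L, BC.lift_tmul]; rfl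

theorem lift_push_map (g h : A →+* A) (ψ : P →ₗ[A] BC h P) (z : BC g P) :
    BC.lift g (BC.push h g) (BC.map g ψ z) = L g h ψ z := by
  induction z using BC.induction_on g with
  | zero => rw [map_zero, map_zero, map_zero]
  | tmul b x => rw [BC.map_tmul, BC.lift_tmul, L_tmul]
  | add z₁ z₂ h₁ h₂ => rw [map_add, map_add, map_add, h₁, h₂]

theorem L_castHom_src {g g' : A →+* A} (e : g = g') (h : A →+* A) (ψ : P →ₗ[A] BC h P)
    (z : BC g P) :
    L g' h ψ (BC.castHom e z) = BC.castHom (congrArg (fun t => t.comp h) e) (L g h ψ z) := by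
  subst e; rfl

theorem L_castHom_map (g : A →+* A) {h h' : A →+* A} (e : h = h') (ψ : P →ₗ[A] BC h P)
    (z : BC g P) :
    L g h' ((BC.castHom e).comp ψ) z = BC.castHom (congrArg (fun t => g.comp t) e) (L g h ψ z) := by
  subst e; rfl

theorem push_push (g h k : A →+* A) (t : BC k P) :
    BC.push (h.comp k) g (BC.push k h t) =
      BC.castHom (RingHom.comp_assoc k h g) (BC.push k (g.comp h) t) := by
  induction t using BC.induction_on k with
  | zero => rw [map_zero, map_zero, map_zero, map_zero]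
  | tmul b x => rw [BC.push_tmul, BC.push_tmul, BC.push_tmul, BC.castHom_tmul]; rfl
  | add z₁ z₂ h₁ h₂ => rw [map_add, map_add, map_add, map_add, h₁, h₂]

theorem push_L (s g h : A →+* A) (ψ : P →ₗ[A] BC h P) (z : BC g P) :
    BC.push (g.comp h) s (L g h ψ z) =
      BC.castHom (RingHom.comp_assoc h g s) (L (s.comp g) h ψ (BC.push g s z)) := by
  induction z using BC.induction_on g with
  | zero => rw [map_zero, map_zero, map_zero, map_zero, map_zero]
  | tmul b x =>
    rw [L_tmul, BC.push_tmul, L_tmul, map_smulₛₗ, push_push, map_smul]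
  | add z₁ z₂ h₁ h₂ => rw [map_add, map_add, map_add, map_add, map_add, h₁, h₂]

/-- Associativity. -/
theorem L_L (s g h : A →+* A) (φ : P →ₗ[A] BC g P) (ψ : P →ₗ[A] BC h P) (z : BC s P) :
    L s (g.comp h) ((L g h ψ).comp φ) z =
      BC.castHom (RingHom.comp_assoc h g s) (L (s.comp g) h ψ (L s g φ z)) := by
  induction z using BC.induction_on s with
  | zero => rw [map_zero, map_zero, map_zero, map_zero]
  | tmul b x =>
    rw [L_tmul, L_tmul, LinearMap.comp_apply, push_L, map_smul, map_smul]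
  | add z₁ z₂ h₁ h₂ => rw [map_add, map_add, map_add, map_add, h₁, h₂]

/-! ### containment -/

theorem push_mem (g h : A →+* A) (J : Ideal A) (t : BC h P)
    (ht : t ∈ J • (⊤ : Submodule A (BC h P))) :
    BC.push h g t ∈ (J.map g) • (⊤ : Submodule A (BC (g.comp h) P)) := by
  refine Submodule.smul_induction_on ht (fun r hr n _ => ?_) (fun x y hx hy => ?_)
  · rw [map_smulₛₗ]
    exact Submodule.smul_mem_smul (Ideal.mem_map_of_mem g hr) Submodule.mem_top
  · rw [map_add]; exact Submodule.add_mem _ hx hy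

theorem L_mem_of_forall (g h : A →+* A) (J : Ideal A) (ψ : P →ₗ[A] BC h P)
    (hψ : ∀ y, ψ y ∈ J • (⊤ : Submodule A (BC h P))) (z : BC g P) :
    L g h ψ z ∈ (J.map g) • (⊤ : Submodule A (BC (g.comp h) P)) := by
  induction z using BC.induction_on g with
  | zero => rw [map_zero]; exact Submodule.zero_mem _
  | tmul b x => rw [L_tmul]; exact Submodule.smul_mem _ _ (push_mem g h J _ (hψ x))
  | add z₁ z₂ h₁ h₂ => rw [map_add]; exact Submodule.add_mem _ h₁ h₂

theorem L_mem (g h : A →+* A) (I J : Ideal A) (ψ : P →ₗ[A] BC h P)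
    (hψ : ∀ y, ψ y ∈ J • (⊤ : Submodule A (BC h P))) (z : BC g P)
    (hz : z ∈ I • (⊤ : Submodule A (BC g P))) :
    L g h ψ z ∈ (I * J.map g) • (⊤ : Submodule A (BC (g.comp h) P)) := by
  rw [Submodule.mul_smul]
  refine Submodule.smul_induction_on hz (fun r hr n _ => ?_) (fun x y hx hy => ?_)
  · rw [map_smul]
    exact Submodule.smul_mem_smul hr (L_mem_of_forall g h J ψ hψ n)
  · rw [map_add]; exact Submodule.add_mem _ hx hy

/-! ### the composition law for `vSharpPow` -/

section VSharp

variable {p : ℕ} [Fact p.Prime] {R : Type u} [CommRing R]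
variable {Q : Type v} [AddCommGroup Q] [Module (WittVector p R) Q]

local notation "σ" => (WittVector.frobenius : WittVector p R →+* WittVector p R)

theorem vSharpPow_succ_eq (Vs : Q →ₗ[WittVector p R] BC σ Q) (n : ℕ) (x : Q) :
    vSharpPow Vs (n + 1) x =
      BC.castHom (comp_pow_eq_pow_succ σ (n + 1)) (L σ (σ ^ (n + 1)) (vSharpPow Vs n) (Vs x)) := by
  rw [vSharpPow_succ_apply, lift_push_map]

theorem pow_comp_pow (a m N : ℕ) (hN : N = a + m + 1) :
    (σ ^ (a + 1)).comp (σ ^ (m + 1)) = σ ^ (N + 1) := by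
  subst hN
  change σ ^ (a + 1) * σ ^ (m + 1) = _
  rw [← pow_add]
  congr 1
  omega

/-- The general composition law `V^{(a+m)#} = c ∘ (1 ⊗ V^{m#}) ∘ V^{a#}`. -/
theorem vSharpPow_add' (Vs : Q →ₗ[WittVector p R] BC σ Q) (a m : ℕ) :
    ∀ (N : ℕ) (hN : N = a + m + 1) (x : Q),
    vSharpPow Vs N x =
      BC.castHom (pow_comp_pow a m N hN)
        (L (σ ^ (a + 1)) (σ ^ (m + 1)) (vSharpPow Vs m) (vSharpPow Vs a x)) := by
  induction a with
  | zero =>
    intro N hN x
    have hN' : N = m + 1 := by omega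
    subst hN'
    rw [vSharpPow_succ_eq, vSharpPow_zero_apply, L_castHom_src, castHom_castHom]
  | succ a ih =>
    intro N hN x
    have hN' : N = (a + m + 1) + 1 := by omega
    subst hN'
    have hfun : vSharpPow Vs (a + m + 1) =
        (BC.castHom (pow_comp_pow a m (a + m + 1) rfl)).comp
          ((L (σ ^ (a + 1)) (σ ^ (m + 1)) (vSharpPow Vs m)).comp (vSharpPow Vs a)) := by
      apply LinearMap.ext
      intro y
      rw [ih (a + m + 1) rfl y]
      rfl
    rw [vSharpPow_succ_eq, hfun, L_castHom_map, L_L, castHom_castHom, castHom_castHom,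
      vSharpPow_succ_eq Vs a, L_castHom_src, castHom_castHom]

theorem vSharpPow_add_mem (Vs : Q →ₗ[WittVector p R] BC σ Q) (a m : ℕ)
    (I J : Ideal (WittVector p R))
    (ha : ∀ x, vSharpPow Vs a x ∈ I • (⊤ : Submodule (WittVector p R) (BC (σ ^ (a + 1)) Q)))
    (hm : ∀ x, vSharpPow Vs m x ∈ J • (⊤ : Submodule (WittVector p R) (BC (σ ^ (m + 1)) Q)))
    (x : Q) :
    vSharpPow Vs (a + m + 1) x ∈
      (I * J.map (σ ^ (a + 1))) • (⊤ : Submodule (WittVector p R) (BC (σ ^ (a + m + 1 + 1)) Q)) := by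
  rw [vSharpPow_add' Vs a m (a + m + 1) rfl x]
  exact castHom_mem_smul_top _ _ _ (L_mem _ _ I J _ hm _ (ha x))

end VSharp

end Groth.Agent.Lib.Helper60.BCComp
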