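import Mathlib
import Groth.Agent.Lib.Helper60.BCComp

/-!
# Functoriality of `Dieu.BC` along a ring map commuting with the twists (helper60)

For `φ : A → A'`, `g : A → A`, `g' : A' → A'` with `g' ∘ φ = φ ∘ g` and an `A`-module `P`,
`theta φ g g' h : BC g P →ₛₗ[φ] BC g' (BC φ P)`, `u ⊗ x ↦ φ u ⊗ (1 ⊗ x)`; compatibility with
`BC.push`, `BC.castHom`, `L`, ideals, and with `Dieu.vSharpPow`.
-/

set_option autoImplicit false
set_option maxHeartbeats 400000

universe u v

namespace Groth.Agent.Lib.Helper60.BCFunct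

open Dieu Groth.Agent.Lib.Helper60.BCComp

variable {A A' : Type u} [CommRing A] [CommRing A'] (φ : A →+* A')
variable {P : Type v} [AddCommGroup P] [Module A P]

/-- `x ↦ 1 ⊗ (1 ⊗ x)`, semilinear for `g' ∘ φ`. -/
noncomputable def iota2 (g' : A' →+* A') : P →ₛₗ[g'.comp φ] BC g' (BC φ P) where
  toFun x := BC.tmul g' 1 (BC.tmul φ 1 x)
  map_add' x y := by rw [BC.tmul_add, BC.tmul_add]
  map_smul' a x := by
    rw [← BC.tmul_apply_eq, BC.tmul_eq_smul_tmul_one φ (φ a), ← BC.tmul_apply_eq,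
      BC.tmul_eq_smul_tmul_one g' (g' (φ a))]
    rfl

/-- `u ⊗ x ↦ φ u ⊗ (1 ⊗ x)`. -/
noncomputable def theta (g : A →+* A) (g' : A' →+* A') (h : g'.comp φ = φ.comp g) :
    BC g P →ₛₗ[φ] BC g' (BC φ P) :=
  ((BC.lift (g'.comp φ) (iota2 φ g')).comp (BC.castHom h.symm)).comp (BC.push g φ)

theorem theta_tmul (g : A →+* A) (g' : A' →+* A') (h : g'.comp φ = φ.comp g) (u : A) (x : P) :
    theta φ g g' h (BC.tmul g u x) = BC.tmul g' (φ u) (BC.tmul φ 1 x) := by
  rw [theta, LinearMap.comp_apply, LinearMap.comp_apply, BC.push_tmul, BC.castHom_tmul,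
    BC.lift_tmul]
  change φ u • BC.tmul g' 1 (BC.tmul φ 1 x) = _
  rw [BC.smul_tmul, mul_one]

theorem theta_castHom {g₁ g₂ : A →+* A} {g₁' g₂' : A' →+* A'} (e : g₁ = g₂) (e' : g₁' = g₂')
    (h₁ : g₁'.comp φ = φ.comp g₁) (h₂ : g₂'.comp φ = φ.comp g₂) (t : BC g₁ P) :
    theta φ g₂ g₂' h₂ (BC.castHom e t) = BC.castHom e' (theta φ g₁ g₁' h₁ t) := by
  subst e; subst e'; rfl

theorem comp_comm {g k : A →+* A} {g' k' : A' →+* A'} (hg : g'.comp φ = φ.comp g)
    (hk : k'.comp φ = φ.comp k) : (k'.comp g').comp φ = φ.comp (k.comp g) := by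
  rw [RingHom.comp_assoc, hg, ← RingHom.comp_assoc, hk, RingHom.comp_assoc]

theorem theta_push (g k : A →+* A) (g' k' : A' →+* A') (hg : g'.comp φ = φ.comp g)
    (hk : k'.comp φ = φ.comp k) (t : BC g P) :
    theta φ (k.comp g) (k'.comp g') (comp_comm φ hg hk) (BC.push g k t) =
      BC.push g' k' (theta φ g g' hg t) := by
  induction t using BC.induction_on g with
  | zero => rw [map_zero, map_zero, map_zero, map_zero]
  | tmul b x =>
    rw [BC.push_tmul, theta_tmul, theta_tmul, BC.push_tmul]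
    congr 1
    exact (congrArg (fun ψ : A →+* A' => ψ b) hk).symm
  | add z₁ z₂ h₁ h₂ => rw [map_add, map_add, map_add, map_add, h₁, h₂]

/-- Compatibility of `theta` with the maps `L`. -/
theorem L_theta (g k : A →+* A) (g' k' : A' →+* A') (hg : g'.comp φ = φ.comp g)
    (hk : k'.comp φ = φ.comp k) (ψ : P →ₗ[A] BC k P) (ψ' : BC φ P →ₗ[A'] BC k' (BC φ P))
    (hψ : ∀ x, ψ' (BC.tmul φ 1 x) = theta φ k k' hk (ψ x)) (z : BC g P) :
    L g' k' ψ' (theta φ g g' hg z) =
      theta φ (g.comp k) (g'.comp k') (comp_comm φ hk hg) (L g k ψ z) := by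
  induction z using BC.induction_on g with
  | zero => rw [map_zero, map_zero, map_zero, map_zero]
  | tmul b x =>
    rw [theta_tmul, L_tmul, L_tmul, hψ, map_smulₛₗ, theta_push φ k g k' g' hk hg]
  | add z₁ z₂ h₁ h₂ => rw [map_add, map_add, map_add, map_add, h₁, h₂]

theorem theta_mem (g : A →+* A) (g' : A' →+* A') (h : g'.comp φ = φ.comp g) (J : Ideal A)
    (t : BC g P) (ht : t ∈ J • (⊤ : Submodule A (BC g P))) :
    theta φ g g' h t ∈ (J.map φ) • (⊤ : Submodule A' (BC g' (BC φ P))) := by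
  refine Submodule.smul_induction_on ht (fun r hr n _ => ?_) (fun x y hx hy => ?_)
  · rw [map_smulₛₗ]
    exact Submodule.smul_mem_smul (Ideal.mem_map_of_mem φ hr) Submodule.mem_top
  · rw [map_add]; exact Submodule.add_mem _ hx hy

end Groth.Agent.Lib.Helper60.BCFunct
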