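import Mathlib
import Groth.Prelude.Def_Disp2

/-!
# `Dieu.BC g P` as a base change: finiteness, flatness and ranks (helper60)
-/

set_option autoImplicit false
set_option maxHeartbeats 400000

universe u v w

namespace Groth.Agent.Lib.Helper60.BCRank

open Dieu TensorProduct

variable {A : Type u} {B : Type v} [CommRing A] [CommRing B] (g : A →+* B)
variable (P : Type w) [AddCommGroup P] [Module A P]

/-- `Res g ≃ B` as `A`-modules, when `B` is an `A`-algebra through `g`. -/
noncomputable def resEquiv [Algebra A B] (hg : algebraMap A B = g) : Res g ≃ₗ[A] B where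
  toFun t := t.val
  invFun b := Res.mk g b
  left_inv _ := rfl
  right_inv _ := rfl
  map_add' _ _ := rfl
  map_smul' a t := by
    rw [Res.val_smul, RingHom.id_apply, Algebra.smul_def, hg]

/-- `BC g P ≃ B ⊗[A] P` as additive groups (`A`-linear for the tensor-product structure). -/
noncomputable def bcEquivA [Algebra A B] (hg : algebraMap A B = g) :
    (Res g ⊗[A] P) ≃ₗ[A] (B ⊗[A] P) :=
  TensorProduct.congr (resEquiv g hg) (LinearEquiv.refl A P)

theorem bcEquivA_tmul [Algebra A B] (hg : algebraMap A B = g) (b : B) (x : P) :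
    bcEquivA g P hg ((Res.mk g b) ⊗ₜ[A] x) = b ⊗ₜ[A] x := rfl

/-- `BC g P ≃ B ⊗[A] P` as `B`-modules. -/
noncomputable def bcEquiv [Algebra A B] (hg : algebraMap A B = g) :
    BC g P ≃ₗ[B] (B ⊗[A] P) where
  toFun z := bcEquivA g P hg z
  invFun z := (bcEquivA g P hg).symm z
  left_inv z := (bcEquivA g P hg).symm_apply_apply z
  right_inv z := (bcEquivA g P hg).apply_symm_apply z
  map_add' x y := map_add (bcEquivA g P hg) x y
  map_smul' c z := by
    rw [RingHom.id_apply]
    induction z using BC.induction_on g with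
    | zero => rw [smul_zero]; erw [map_zero]; rw [smul_zero]
    | tmul b x =>
      rw [BC.smul_tmul]
      change bcEquivA g P hg ((Res.mk g (c * b)) ⊗ₜ[A] x) = c • bcEquivA g P hg ((Res.mk g b) ⊗ₜ[A] x)
      rw [bcEquivA_tmul, bcEquivA_tmul, TensorProduct.smul_tmul', smul_eq_mul]
    | add z₁ z₂ h₁ h₂ =>
      rw [smul_add]
      erw [map_add, map_add]
      rw [smul_add]
      exact congrArg₂ (· + ·) h₁ h₂

theorem finite_BC [Module.Finite A P] : Module.Finite B (BC g P) := by
  letI : Algebra A B := g.toAlgebra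
  exact Module.Finite.equiv (bcEquiv g P rfl).symm

theorem flat_BC [Module.Flat A P] : Module.Flat B (BC g P) := by
  letI : Algebra A B := g.toAlgebra
  exact Module.Flat.of_linearEquiv (bcEquiv g P rfl)

theorem rankAtStalk_BC [Module.Finite A P] [Module.Flat A P] (q : PrimeSpectrum B) :
    Module.rankAtStalk (BC g P) q = Module.rankAtStalk P (q.comap g) := by
  letI : Algebra A B := g.toAlgebra
  rw [Module.rankAtStalk_eq_of_equiv (bcEquiv g P rfl), Module.rankAtStalk_baseChange]
  rfl

end Groth.Agent.Lib.Helper60.BCRank
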