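import Mathlib
import Groth.Agent.Lib.Helper60.BCRank

/-!
# Semilinear functoriality of `Dieu.BC`, dual bases, kernel of `BC.push` (helper60)

* `projective_BC` : `BC φ P` is projective when `P` is.
* `semBC φ σA σB hc ψ : BC φ P →ₛₗ[σB] BC φ P'`, `b ⊗ x ↦ σB b ⊗ ψ x`, for a `σA`-semilinear `ψ`
  and `σB ∘ φ = φ ∘ σA`.
* `map_id`, `map_comp`, `map_add'` for `BC.map`.
* `exists_dual` : dual basis of a finite projective module; `coord`, `dual_BC` : the induced dual
  basis of `BC φ P`.
* `mem_of_push_eq_zero` : for finite projective `P`, the kernel of `BC.push φ h` is contained in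
  `ker h • ⊤`.
-/

set_option autoImplicit false
set_option maxHeartbeats 400000

universe u v

namespace Groth.Agent.Lib.Helper60.BCSem

open Dieu

variable {A B C : Type u} [CommRing A] [CommRing B] [CommRing C] (φ : A →+* B)
variable {P : Type v} [AddCommGroup P] [Module A P] {P' : Type v} [AddCommGroup P'] [Module A P']
variable {P'' : Type v} [AddCommGroup P''] [Module A P'']

theorem projective_BC [Module.Projective A P] : Module.Projective B (BC φ P) := by
  letI : Algebra A B := φ.toAlgebra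
  exact Module.Projective.of_equiv (BCRank.bcEquiv φ P rfl).symm

/-- `x ↦ 1 ⊗ ψ x`. -/
noncomputable def iotaSem (σA : A →+* A) (ψ : P →ₛₗ[σA] P') : P →ₛₗ[φ.comp σA] BC φ P' where
  toFun x := BC.tmul φ 1 (ψ x)
  map_add' x y := by rw [map_add, BC.tmul_add]
  map_smul' a x := by
    rw [map_smulₛₗ, ← BC.tmul_apply_eq, BC.tmul_eq_smul_tmul_one φ (φ (σA a))]; rfl

/-- `b ⊗ x ↦ σB b ⊗ ψ x`. -/
noncomputable def semBC (σA : A →+* A) (σB : B →+* B) (hc : σB.comp φ = φ.comp σA)
    (ψ : P →ₛₗ[σA] P') : BC φ P →ₛₗ[σB] BC φ P' :=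
  ((BC.lift (φ.comp σA) (iotaSem φ σA ψ)).comp (BC.castHom hc)).comp (BC.push φ σB)

theorem semBC_tmul (σA : A →+* A) (σB : B →+* B) (hc : σB.comp φ = φ.comp σA)
    (ψ : P →ₛₗ[σA] P') (b : B) (x : P) :
    semBC φ σA σB hc ψ (BC.tmul φ b x) = BC.tmul φ (σB b) (ψ x) := by
  rw [semBC, LinearMap.comp_apply, LinearMap.comp_apply, BC.push_tmul, BC.castHom_tmul,
    BC.lift_tmul]
  change σB b • BC.tmul φ 1 (ψ x) = _
  rw [BC.smul_tmul, mul_one]

theorem map_id (z : BC φ P) : BC.map φ (LinearMap.id : P →ₗ[A] P) z = z := by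
  induction z using BC.induction_on φ with
  | zero => rw [map_zero]
  | tmul b x => rw [BC.map_tmul, LinearMap.id_apply]
  | add z₁ z₂ h₁ h₂ => rw [map_add, h₁, h₂]

theorem map_comp (ψ₁ : P →ₗ[A] P') (ψ₂ : P' →ₗ[A] P'') (z : BC φ P) :
    BC.map φ (ψ₂.comp ψ₁) z = BC.map φ ψ₂ (BC.map φ ψ₁ z) := by
  induction z using BC.induction_on φ with
  | zero => rw [map_zero, map_zero, map_zero]
  | tmul b x => rw [BC.map_tmul, BC.map_tmul, BC.map_tmul, LinearMap.comp_apply]
  | add z₁ z₂ h₁ h₂ => rw [map_add, map_add, map_add, h₁, h₂]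

theorem map_add' (ψ₁ ψ₂ : P →ₗ[A] P') (z : BC φ P) :
    BC.map φ (ψ₁ + ψ₂) z = BC.map φ ψ₁ z + BC.map φ ψ₂ z := by
  induction z using BC.induction_on φ with
  | zero => rw [map_zero, map_zero, map_zero, add_zero]
  | tmul b x => rw [BC.map_tmul, BC.map_tmul, BC.map_tmul, LinearMap.add_apply, BC.tmul_add]
  | add z₁ z₂ h₁ h₂ => rw [map_add, map_add, map_add, h₁, h₂]; abel

theorem map_zero' (z : BC φ P) : BC.map φ (0 : P →ₗ[A] P') z = 0 := by
  induction z using BC.induction_on φ with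
  | zero => rw [map_zero]
  | tmul b x => rw [BC.map_tmul, LinearMap.zero_apply, BC.tmul_zero]
  | add z₁ z₂ h₁ h₂ => rw [map_add, h₁, h₂, add_zero]

/-- A dual basis of a finite projective module. -/
theorem exists_dual (A : Type u) [CommRing A] (P : Type v) [AddCommGroup P] [Module A P]
    [Module.Finite A P] [Module.Projective A P] :
    ∃ (n : ℕ) (e : Fin n → P) (g : Fin n → (P →ₗ[A] A)), ∀ x, x = ∑ i, g i x • e i := by
  obtain ⟨n, e, g, -, -, h⟩ := Module.Finite.exists_comp_eq_id_of_projective A P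
  refine ⟨n, fun i => e (Pi.single i 1), fun i => (LinearMap.proj i).comp g, fun x => ?_⟩
  have h1 : e (g x) = x := by
    have := congrArg (fun ψ : P →ₗ[A] P => ψ x) h
    exact this
  conv_lhs => rw [← h1]
  rw [LinearMap.pi_apply_eq_sum_univ e (g x)]
  refine Finset.sum_congr rfl (fun i _ => ?_)
  rw [LinearMap.comp_apply, LinearMap.proj_apply]
  congr 2
  ext j
  rw [Pi.single_apply]
  simp [eq_comm]

/-- The coordinate function on `BC φ P` induced by a linear form on `P`. -/
noncomputable def coord (g : P →ₗ[A] A) : BC φ P →ₗ[B] B :=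
  BC.lift φ ((semilinearOfRingHom φ).comp g)

theorem coord_tmul (g : P →ₗ[A] A) (b : B) (x : P) :
    coord φ g (BC.tmul φ b x) = b * φ (g x) := by
  rw [coord, BC.lift_tmul]; rfl

theorem dual_BC {n : ℕ} (e : Fin n → P) (g : Fin n → (P →ₗ[A] A))
    (hd : ∀ x, x = ∑ i, g i x • e i) (z : BC φ P) :
    z = ∑ i, coord φ (g i) z • BC.tmul φ 1 (e i) := by
  induction z using BC.induction_on φ with
  | zero => simp
  | tmul b x =>
    conv_lhs => rw [hd x]
    have : BC.tmul φ b (∑ i, g i x • e i) = ∑ i, BC.tmul φ b (g i x • e i) := by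
      have := map_sum (BC.ι φ P) (fun i => g i x • e i) Finset.univ
      rw [BC.tmul_eq_smul_tmul_one]
      change b • BC.ι φ P (∑ i, g i x • e i) = _
      rw [this, Finset.smul_sum]
      refine Finset.sum_congr rfl (fun i _ => ?_)
      rw [BC.ι_apply, ← BC.tmul_eq_smul_tmul_one]
    rw [this]
    refine Finset.sum_congr rfl (fun i _ => ?_)
    rw [coord_tmul, BC.smul_tmul, mul_one, BC.tmul_mul_apply]
  | add z₁ z₂ h₁ h₂ =>
    conv_lhs => rw [h₁, h₂]
    rw [← Finset.sum_add_distrib]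
    refine Finset.sum_congr rfl (fun i _ => ?_)
    rw [map_add, add_smul]

/-- The coordinate function on `BC (h.comp φ) P`. -/
theorem coord_push (h : B →+* C) (g : P →ₗ[A] A) (z : BC φ P) :
    coord (h.comp φ) g (BC.push φ h z) = h (coord φ g z) := by
  induction z using BC.induction_on φ with
  | zero => rw [map_zero, map_zero, map_zero, map_zero]
  | tmul b x => rw [BC.push_tmul, coord_tmul, coord_tmul, map_mul]; rfl
  | add z₁ z₂ h₁ h₂ => rw [map_add, map_add, map_add, map_add, h₁, h₂]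

/-- For a module with a finite dual basis, the kernel of `BC.push φ h` lies in `ker h • ⊤`. -/
theorem mem_of_push_eq_zero (h : B →+* C) {n : ℕ} (e : Fin n → P) (g : Fin n → (P →ₗ[A] A))
    (hd : ∀ x, x = ∑ i, g i x • e i) (z : BC φ P) (hz : BC.push φ h z = 0) :
    z ∈ (RingHom.ker h) • (⊤ : Submodule B (BC φ P)) := by
  rw [dual_BC φ e g hd z]
  refine Submodule.sum_mem _ (fun i _ => ?_)
  refine Submodule.smul_mem_smul ?_ Submodule.mem_top
  rw [RingHom.mem_ker, ← coord_push, hz, map_zero]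

end Groth.Agent.Lib.Helper60.BCSem
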