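import Mathlib
import Groth.Agent.S5357
import Groth.Agent.Lib.Helper23.GrpImage

/-!
# Centralizers in group schemes over a field are closed subgroup schemes (helper60)
-/

universe u

open CategoryTheory MonoidalCategory CartesianMonoidalCategory MonObj GrpObj AlgebraicGeometry

namespace Groth.Agent.Lib.Helper60.Centralizer

section General

variable {C : Type*} [Category C] [CartesianMonoidalCategory C]

/-- A subobject whose functor of points is a subgroup functor is a group object. -/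
theorem exists_grpObj_of_pred {T G : C} [GrpObj G] (t : T ⟶ G) [Mono t]
    (P : ∀ S' : C, (S' ⟶ G) → Prop)
    (hP : ∀ (S' : C) (g : S' ⟶ G), (∃ z : S' ⟶ T, z ≫ t = g) ↔ P S' g)
    (h1 : ∀ S', P S' 1) (hmul : ∀ S' a b, P S' a → P S' b → P S' (a * b))
    (hinv : ∀ S' a, P S' a → P S' a⁻¹) :
    ∃ _ : GrpObj T, IsMonHom t := by
  obtain ⟨e, he⟩ := (hP _ η[G]).mpr (by rw [MonObj.one_eq_one]; exact h1 _)
  have hfst : P (T ⊗ T) (fst T T ≫ t) := (hP _ _).mp ⟨_, rfl⟩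
  have hsnd : P (T ⊗ T) (snd T T ≫ t) := (hP _ _).mp ⟨_, rfl⟩
  have hmulT : (t ⊗ₘ t) ≫ μ[G] = (fst T T ≫ t) * (snd T T ≫ t) := by
    rw [MonObj.mul_eq_mul, MonObj.comp_mul, tensorHom_fst, tensorHom_snd]
  obtain ⟨m, hm⟩ := (hP _ ((t ⊗ₘ t) ≫ μ[G])).mpr (hmulT ▸ hmul _ _ _ hfst hsnd)
  have ht : P T t := (hP _ _).mp ⟨𝟙 T, Category.id_comp t⟩
  obtain ⟨v, hv⟩ := (hP _ (t ≫ ι[G])).mpr (by rw [← Hom.inv_def]; exact hinv _ _ ht)
  letI inst : GrpObj T := Groth.Agent.Lib.Helper23.GrpImage.grpObjOfMono t e m v he hm hv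
  exact ⟨inst, ⟨he, hm⟩⟩

end General

variable {k : Type u} [Field k]

/-- The centralizer of a morphism `u : X ⟶ Γ` into a group scheme over a field is a closed
subgroup scheme. -/
theorem exists_centralizer (Γ X : Over (Spec (CommRingCat.of k))) [GrpObj Γ] (u : X ⟶ Γ) :
    ∃ (T : Over (Spec (CommRingCat.of k))) (_ : GrpObj T) (t : T ⟶ Γ), IsMonHom t ∧
      IsClosedImmersion t.left ∧
      ∀ (S' : Over (Spec (CommRingCat.of k))) (g : S' ⟶ Γ), (∃ z : S' ⟶ T, z ≫ t = g) ↔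
        ∀ (S'' : Over (Spec (CommRingCat.of k))) (s : S'' ⟶ S') (x : S'' ⟶ X),
          (s ≫ g) * (x ≫ u) * (s ≫ g)⁻¹ = x ≫ u := by
  obtain ⟨T, t, hcl, hT⟩ := Groth.Agent.S5357.result k Γ X u u
  haveI : IsClosedImmersion t.left := hcl
  haveI : Mono t := Over.mono_of_mono_left t
  have h1 : ∀ (S' : Over (Spec (CommRingCat.of k))) (S'' : Over (Spec (CommRingCat.of k)))
      (s : S'' ⟶ S') (x : S'' ⟶ X),
      (s ≫ (1 : S' ⟶ Γ)) * (x ≫ u) * (s ≫ (1 : S' ⟶ Γ))⁻¹ = x ≫ u := by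
    intro S' S'' s x
    rw [MonObj.comp_one]
    group
  have h2 : ∀ (S' : Over (Spec (CommRingCat.of k))) (a b : S' ⟶ Γ),
      (∀ (S'' : Over (Spec (CommRingCat.of k))) (s : S'' ⟶ S') (x : S'' ⟶ X),
        (s ≫ a) * (x ≫ u) * (s ≫ a)⁻¹ = x ≫ u) →
      (∀ (S'' : Over (Spec (CommRingCat.of k))) (s : S'' ⟶ S') (x : S'' ⟶ X),
        (s ≫ b) * (x ≫ u) * (s ≫ b)⁻¹ = x ≫ u) →
      ∀ (S'' : Over (Spec (CommRingCat.of k))) (s : S'' ⟶ S') (x : S'' ⟶ X),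
        (s ≫ (a * b)) * (x ≫ u) * (s ≫ (a * b))⁻¹ = x ≫ u := by
    intro S' a b ha hb S'' s x
    rw [MonObj.comp_mul]
    calc (s ≫ a * s ≫ b) * (x ≫ u) * (s ≫ a * s ≫ b)⁻¹
        = (s ≫ a) * ((s ≫ b) * (x ≫ u) * (s ≫ b)⁻¹) * (s ≫ a)⁻¹ := by group
      _ = (s ≫ a) * (x ≫ u) * (s ≫ a)⁻¹ := by rw [hb]
      _ = x ≫ u := ha _ _ _
  have h3 : ∀ (S' : Over (Spec (CommRingCat.of k))) (a : S' ⟶ Γ),
      (∀ (S'' : Over (Spec (CommRingCat.of k))) (s : S'' ⟶ S') (x : S'' ⟶ X),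
        (s ≫ a) * (x ≫ u) * (s ≫ a)⁻¹ = x ≫ u) →
      ∀ (S'' : Over (Spec (CommRingCat.of k))) (s : S'' ⟶ S') (x : S'' ⟶ X),
        (s ≫ a⁻¹) * (x ≫ u) * (s ≫ a⁻¹)⁻¹ = x ≫ u := by
    intro S' a ha S'' s x
    rw [GrpObj.comp_inv]
    have h := ha S'' s x
    calc (s ≫ a)⁻¹ * (x ≫ u) * (s ≫ a)⁻¹⁻¹
        = (s ≫ a)⁻¹ * ((s ≫ a) * (x ≫ u) * (s ≫ a)⁻¹) * (s ≫ a) := by rw [h, _root_.inv_inv]
      _ = x ≫ u := by group
  obtain ⟨inst, hmon⟩ := exists_grpObj_of_pred t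
    (fun S' g => ∀ (S'' : Over (Spec (CommRingCat.of k))) (s : S'' ⟶ S') (x : S'' ⟶ X),
      (s ≫ g) * (x ≫ u) * (s ≫ g)⁻¹ = x ≫ u)
    hT h1 h2 h3
  exact ⟨T, inst, t, hmon, hcl, hT⟩

end Groth.Agent.Lib.Helper60.Centralizer
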