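import Groth.Agent.Lib.Helper60.DiagChar
import Groth.Prelude.Def_SGA3x

/-!
# Additive natural functions on points of diagonalizable groups vanish;
homomorphisms from groups of multiplicative type to `G_a` are trivial
-/

set_option autoImplicit false
set_option maxHeartbeats 400000
universe u
open CategoryTheory MonoidalCategory CartesianMonoidalCategory MonObj GrpObj AlgebraicGeometry CategoryTheory.Limits

namespace Groth.Agent.Lib.Helper60.DiagAdd

open Groth.Agent.Lib.Helper43 Groth.Agent.Lib.Helper60.WittTorus Groth.Agent.Lib.Helper60.DiagChar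

section algebra

variable {B : Type u} [CommRing B] {G : Type} [CommGroup G]

/-- the twisting endomorphism `[g] ↦ χ(g)[g]` of the group algebra -/
noncomputable def twist (χ : G →* B) : MonoidAlgebra B G →ₐ[B] MonoidAlgebra B G :=
  MonoidAlgebra.lift B (MonoidAlgebra B G) G
    { toFun := fun g => MonoidAlgebra.single g (χ g)
      map_one' := by rw [map_one]; rfl
      map_mul' := fun a b => by rw [MonoidAlgebra.single_mul_single, map_mul] }

theorem twist_single (χ : G →* B) (g : G) (b : B) :
    twist χ (MonoidAlgebra.single g b) = MonoidAlgebra.single g (b * χ g) := by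
  rw [twist, MonoidAlgebra.lift_single]
  simp [MonoidAlgebra.smul_single]

theorem coeff_one_twist (χ : G →* B) (c : MonoidAlgebra B G) :
    (twist χ c).coeff 1 = c.coeff 1 := by
  classical
  induction c using MonoidAlgebra.induction_linear with
  | zero => rw [map_zero]
  | add x y hx hy => rw [map_add, MonoidAlgebra.coeff_add, MonoidAlgebra.coeff_add,
      Finsupp.add_apply, Finsupp.add_apply, hx, hy]
  | single g b =>
    rw [twist_single, MonoidAlgebra.coeff_single, MonoidAlgebra.coeff_single,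
      Finsupp.single_apply, Finsupp.single_apply]
    by_cases hg : g = 1
    · rw [if_pos hg, if_pos hg, hg, map_one, _root_.mul_one]
    · rw [if_neg hg, if_neg hg]

end algebra

section additive

variable {U : Scheme.{u}} {M : Type} [AddCommGroup M]
  (F : ∀ X : Over U, (X ⟶ Red.DS U M) → Γ(X.left, ⊤))
  (hadd : ∀ (X : Over U) (s t : X ⟶ Red.DS U M), F X (s * t) = F X s + F X t)
  (hnat : ∀ (X Y : Over U) (g : Y ⟶ X) (t : X ⟶ Red.DS U M),
    F Y (g ≫ t) = g.left.appTop (F X t))

include hadd hnat in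
theorem additive_eq_zero_Spec (B : Type u) [CommRing B] (h : Spec (CommRingCat.of B) ⟶ U)
    (t : Over.mk h ⟶ Red.DS U M) : F (Over.mk h) t = 0 := by
  let BM := MonoidAlgebra B (Multiplicative M)
  let eB := Scheme.ΓSpecIso (CommRingCat.of B)
  let eBM := Scheme.ΓSpecIso (CommRingCat.of BM)
  -- the character of `t`, with values in `B`
  let χ : Multiplicative M →* B :=
    { toFun := fun g => eB.hom.hom (chFn (Multiplicative.toAdd g) t)
      map_one' := by
        change eB.hom.hom (chFn (0 : M) t) = 1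
        rw [chFn_zero, map_one]
      map_mul' := fun a b => by
        change eB.hom.hom (chFn (Multiplicative.toAdd a + Multiplicative.toAdd b) t) = _
        rw [chFn_add, map_mul] }
  let X : Over U := Over.mk h
  let Y : Over U := Over.mk (Spec.map (CommRingCat.ofHom (algebraMap B BM)) ≫ h)
  let π : Y ⟶ X := Over.homMk (Spec.map (CommRingCat.ofHom (algebraMap B BM))) rfl
  -- naturality of `ΓSpecIso`
  have hπ : ∀ r : Γ(X.left, ⊤), eBM.hom.hom (π.left.appTop r) = algebraMap B BM (eB.hom.hom r) := by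
    intro r
    have := Scheme.ΓSpecIso_naturality (CommRingCat.ofHom (algebraMap B BM))
    exact congrArg (fun ψ => ψ.hom r) this
  let α : BM →+* BM := (twist χ).toRingHom
  have hαalg : α.comp (algebraMap B BM) = algebraMap B BM :=
    RingHom.ext fun b => (twist χ).commutes b
  let a : Y ⟶ Y := Over.homMk (Spec.map (CommRingCat.ofHom α)) (by
    change Spec.map (CommRingCat.ofHom α) ≫ Spec.map (CommRingCat.ofHom (algebraMap B BM)) ≫ h = _
    rw [← Category.assoc, ← Spec.map_comp, ← CommRingCat.ofHom_comp, hαalg]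
    rfl)
  have ha : ∀ r : Γ(Y.left, ⊤), eBM.hom.hom (a.left.appTop r) = α (eBM.hom.hom r) := by
    intro r
    have := Scheme.ΓSpecIso_naturality (CommRingCat.ofHom α)
    exact congrArg (fun ψ => ψ.hom r) this
  -- the universal point over `Y`
  let χτ : Multiplicative M →* Γ(Y.left, ⊤) :=
    (eBM.inv.hom : BM →+* Γ(Spec (CommRingCat.of BM), ⊤)).toMonoidHom.comp
      (MonoidAlgebra.of B (Multiplicative M))
  obtain ⟨τ, hτ⟩ : ∃ τ : Y ⟶ Red.DS U M, ∀ m, chFn m τ = χτ (Multiplicative.ofAdd m) :=
    chFn_exists χτ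
  have hτ' : ∀ m, eBM.hom.hom (chFn m τ) = MonoidAlgebra.single (Multiplicative.ofAdd m) 1 := by
    intro m
    rw [hτ]
    change eBM.hom.hom (eBM.inv.hom (MonoidAlgebra.of B (Multiplicative M) _)) = _
    have := congrArg (fun ψ => ψ.hom (MonoidAlgebra.of B (Multiplicative M) (Multiplicative.ofAdd m)))
      eBM.inv_hom_id
    exact this
  have heBM_inj : Function.Injective eBM.hom.hom :=
    (ConcreteCategory.bijective_of_isIso eBM.hom).1
  have heB_inj : Function.Injective eB.hom.hom :=
    (ConcreteCategory.bijective_of_isIso eB.hom).1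
  -- key identity of points
  have hkey : a ≫ τ = (π ≫ t) * τ := by
    apply chFn_injective
    intro m
    apply heBM_inj
    rw [chFn_comp, ha, hτ', chFn_mul, map_mul, chFn_comp, hπ, hτ']
    change twist χ _ = _
    rw [twist_single, _root_.one_mul]
    change _ = algebraMap B BM (χ (Multiplicative.ofAdd m)) * _
    rw [MonoidAlgebra.coe_algebraMap, Function.comp_apply, MonoidAlgebra.single_mul_single,
      _root_.one_mul, _root_.mul_one]
    rfl
  have h1 := congrArg (F Y) hkey
  rw [hnat Y Y a τ, hadd, hnat X Y π t] at h1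
  have h2 := congrArg (fun r => (eBM.hom.hom r).coeff 1) h1
  simp only [ha, map_add, hπ] at h2
  change (twist χ _).coeff 1 = _ at h2
  rw [coeff_one_twist, MonoidAlgebra.coeff_add, Finsupp.add_apply, MonoidAlgebra.coe_algebraMap,
    Function.comp_apply, MonoidAlgebra.coeff_single, Finsupp.single_eq_same] at h2
  apply heB_inj
  rw [map_zero]
  have h3 : (algebraMap B B) (eB.hom.hom (F X t)) = 0 := by
    have := h2
    exact (add_eq_right.mp this.symm)
  exact h3

end additive

section general

variable {U : Scheme.{u}} {M : Type} [AddCommGroup M]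
  (F : ∀ X : Over U, (X ⟶ Red.DS U M) → Γ(X.left, ⊤))
  (hadd : ∀ (X : Over U) (s t : X ⟶ Red.DS U M), F X (s * t) = F X s + F X t)
  (hnat : ∀ (X Y : Over U) (g : Y ⟶ X) (t : X ⟶ Red.DS U M),
    F Y (g ≫ t) = g.left.appTop (F X t))

include hadd hnat in
theorem additive_eq_zero_affine (W : Scheme.{u}) [IsAffine W] (h : W ⟶ U)
    (t : Over.mk h ⟶ Red.DS U M) : F (Over.mk h) t = 0 := by
  let e := W.isoSpec
  let h' : Spec (CommRingCat.of Γ(W, ⊤)) ⟶ U := e.inv ≫ h
  let g : Over.mk h' ⟶ Over.mk h := Over.homMk e.inv rfl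
  have h0 := additive_eq_zero_Spec F hadd hnat Γ(W, ⊤) h' (g ≫ t)
  rw [hnat] at h0
  have h1 : e.hom.appTop (e.inv.appTop (F (Over.mk h) t)) = F (Over.mk h) t := by
    have := congrArg (fun ψ => ψ.hom (F (Over.mk h) t)) (Scheme.Hom.comp_appTop e.hom e.inv)
    simp only [Iso.hom_inv_id] at this
    rw [CommRingCat.comp_apply] at this
    rw [← this]
    simp
  rw [← h1]
  have h2 : e.inv.appTop (F (Over.mk h) t) = 0 := h0
  rw [h2, map_zero]

include hadd hnat in
theorem additive_eq_zero (X : Over U) (t : X ⟶ Red.DS U M) : F X t = 0 := by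
  apply Scheme.zero_of_zero_cover (F X t) X.left.affineCover
  intro i
  let Wi : Over U := Over.mk (X.left.affineCover.f i ≫ X.hom)
  let g : Wi ⟶ X := Over.homMk (X.left.affineCover.f i) rfl
  have h1 := hnat X Wi g t
  have h2 := additive_eq_zero_affine F hadd hnat (X.left.affineCover.X i)
    (X.left.affineCover.f i ≫ X.hom) (g ≫ t)
  rw [h1] at h2
  exact h2

end general

section main

theorem hom_multType_Ga_eq_one (S : Scheme.{u}) (H : Over S) [GrpObj H]
    (hH : SGA3x.IsMultTypeFT H) (u : H ⟶ Red.Ga S) [IsMonHom u] : u = 1 := by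
  obtain ⟨S', f, hflat, hsurj, -, hloc⟩ := hH
  haveI := hflat
  choose Uc hUc Mc instM hFG eiso using hloc
  have key : ∀ s' : S', toBase ((Uc s').ι ≫ f) (𝟙 (Red.bc ((Uc s').ι ≫ f) H)) ≫ u = 1 := by
    intro s'
    letI := instM s'
    obtain ⟨e⟩ := eiso s'
    let F : ∀ X : Over (Uc s' : Scheme.{u}), (X ⟶ Red.DS (Uc s' : Scheme.{u}) (Mc s')) →
        Γ(X.left, ⊤) :=
      fun X t => Red.gaFn (S := S) (X := (Over.map ((Uc s').ι ≫ f)).obj X)
        (toBase ((Uc s').ι ≫ f) (t ≫ e.inv.hom.hom) ≫ u)
    have hF := additive_eq_zero F ?_ ?_ (Red.bc ((Uc s').ι ≫ f) H) e.hom.hom.hom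
    · apply gaFn_injective
      rw [gaFn_one]
      have e1 : e.hom.hom.hom ≫ e.inv.hom.hom = 𝟙 _ :=
        congrArg (fun x => x.hom.hom) e.hom_inv_id
      simp only [F, e1] at hF
      exact hF
    · intro X s t
      simp only [F]
      rw [MonObj.mul_comp, toBase_mul, MonObj.mul_comp _ _ u, gaFn_mul]
    · intro X Y g t
      simp only [F]
      rw [Category.assoc, toBase_comp, Category.assoc, gaFn_comp]
      rfl
  let Y : S' → Scheme.{u} := fun s' => (Red.bc ((Uc s').ι ≫ f) H).left
  let pr : ∀ s', Y s' ⟶ H.left := fun s' => pullback.fst H.hom ((Uc s').ι ≫ f)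
  have hpr : ∀ s', pr s' = (toBase ((Uc s').ι ≫ f) (𝟙 (Red.bc ((Uc s').ι ≫ f) H))).left := by
    intro s'
    rw [toBase_left]
    simp [pr]
  have hflatD : Flat (Sigma.desc pr) :=
    IsZariskiLocalAtSource.sigmaDesc (fun s' => inferInstance)
  have hsurjD : Surjective (Sigma.desc pr) := by
    refine ⟨fun x => ?_⟩
    obtain ⟨s', hs'⟩ := hsurj.surj (H.hom x)
    obtain ⟨z, hz, -⟩ := Scheme.Pullback.exists_preimage_pullback (f := H.hom)
      (g := (Uc s').ι ≫ f) x ⟨s', hUc s'⟩ (by simp [hs'])
    refine ⟨(Sigma.ι Y s') z, ?_⟩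
    rw [← Scheme.Hom.comp_apply, Sigma.ι_desc]
    exact hz
  haveI := Flat.epi_of_flat_of_surjective (Sigma.desc pr)
  apply Over.OverMorphism.ext
  rw [← cancel_epi (Sigma.desc pr)]
  apply Sigma.hom_ext
  intro s'
  rw [← Category.assoc, ← Category.assoc, Sigma.ι_desc, hpr, ← Over.comp_left, key s',
    ← Over.comp_left, MonObj.comp_one]

end main

end Groth.Agent.Lib.Helper60.DiagAdd
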