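import Groth.Agent.Lib.Helper60.WittTorus

/-!
# Characters of diagonalizable groups: functoriality and injectivity
-/

set_option autoImplicit false
set_option maxHeartbeats 400000
universe u
open CategoryTheory MonoidalCategory CartesianMonoidalCategory MonObj GrpObj AlgebraicGeometry CategoryTheory.Limits

namespace Groth.Agent.Lib.Helper60.DiagChar

open Groth.Agent.Lib.Helper43 Groth.Agent.Lib.Helper60.WittTorus

variable {S : Scheme.{u}} {M N : Type} [AddCommGroup M] [AddCommGroup N]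

lemma chFn_zero {X : Over S} (t : X ⟶ Red.DS S M) : chFn (0 : M) t = 1 := by
  unfold chFn
  have : (MonoidAlgebra.single (Multiplicative.ofAdd (0 : M)) (1 : ULift.{u} ℤ)) = 1 := rfl
  rw [this, map_one]

lemma chFn_add (m m' : M) {X : Over S} (t : X ⟶ Red.DS S M) :
    chFn (m + m') t = chFn m t * chFn m' t := by
  unfold chFn
  rw [← map_mul, MonoidAlgebra.single_mul_single, _root_.mul_one]
  rfl

lemma chFn_nsmul (q : ℕ) (m : M) {X : Over S} (t : X ⟶ Red.DS S M) :
    chFn (q • m) t = chFn m t ^ q := by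
  induction q with
  | zero => rw [zero_smul, pow_zero, chFn_zero]
  | succ q ih => rw [succ_nsmul, chFn_add, ih, pow_succ]

lemma chFn_comp (m : M) {X Y : Over S} (g : Y ⟶ X) (t : X ⟶ Red.DS S M) :
    chFn m (g ≫ t) = g.left.appTop (chFn m t) := by
  unfold chFn
  rw [toBase_comp, Over.comp_left]
  exact RingHom.congr_fun (ptHom_comp
    (A := MonoidAlgebra (ULift.{u} ℤ) (Multiplicative M))
    ((Over.map (toZ S)).map g).left (toBase (toZ S) t).left) _

lemma chFn_injective {X : Over S} (s t : X ⟶ Red.DS S M) (h : ∀ m, chFn m s = chFn m t) :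
    s = t := by
  apply toBase_injective (toZ S)
  ext
  apply ptHom_injective
  apply MonoidAlgebra.ringHom_ext
  · intro r
    exact RingHom.congr_fun (ringHom_ulift_int_ext
      ((ptHom (toBase (toZ S) s).left).comp MonoidAlgebra.singleOneRingHom)
      ((ptHom (toBase (toZ S) t).left).comp MonoidAlgebra.singleOneRingHom)) r
  · intro m
    exact h (Multiplicative.toAdd m)

lemma chFn_DSmap (φ : M →+ N) (m : M) {X : Over S} (t : X ⟶ Red.DS S N) :
    chFn m (t ≫ Red.DSmap S φ) = chFn (φ m) t := by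
  unfold chFn Red.DSmap
  rw [toBase_map, Over.comp_left]
  have h2 := ptHom_comp_SpecMap (A := MonoidAlgebra (ULift.{u} ℤ) (Multiplicative N))
    (A' := MonoidAlgebra (ULift.{u} ℤ) (Multiplicative M)) (toBase (toZ S) t).left
    (MonoidAlgebra.mapDomainAlgHom (ULift.{u} ℤ) (ULift.{u} ℤ)
      (AddMonoidHom.toMultiplicative φ)).toRingHom
  have h3 := RingHom.congr_fun h2
    (MonoidAlgebra.single (Multiplicative.ofAdd m) (1 : ULift.{u} ℤ))
  rw [RingHom.comp_apply] at h3
  refine Eq.trans h3 ?_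
  congr 1
  simp

theorem DS_killed (q : ℕ) (hq : ∀ m : M, q • m = 0) {X : Over S} (t : X ⟶ Red.DS S M) :
    t ^ q = 1 := by
  apply chFn_injective
  intro m
  rw [chFn_pow, chFn_one, ← chFn_nsmul, hq, chFn_zero]

end Groth.Agent.Lib.Helper60.DiagChar

namespace Groth.Agent.Lib.Helper60.DiagChar

open Groth.Agent.Lib.Helper43 Groth.Agent.Lib.Helper60.WittTorus

theorem mu_not_split (k : Type u) [Field k] (p n : ℕ) [hp : Fact p.Prime] (hn : 1 ≤ n)
    (ψ : ZMod (p ^ n) →+ ZMod (p ^ (n + 1))) (hψ : ψ 1 = (p : ZMod (p ^ (n + 1)))) :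
    ¬ ∃ s : Red.DS (Spec (CommRingCat.of k)) (ZMod (p ^ n)) ⟶
        Red.DS (Spec (CommRingCat.of k)) (ZMod (p ^ (n + 1))),
      IsMonHom s ∧ s ≫ Red.DSmap (Spec (CommRingCat.of k)) ψ = 𝟙 _ := by
  rintro ⟨s, hs, hsψ⟩
  haveI := hs
  let B := MonoidAlgebra k (Multiplicative (ZMod (p ^ n)))
  let X : Over (Spec (CommRingCat.of k)) :=
    Over.mk (Spec.map (CommRingCat.ofHom (algebraMap k B)))
  let χ : Multiplicative (ZMod (p ^ n)) →* Γ(X.left, ⊤) :=
    ((Scheme.ΓSpecIso (CommRingCat.of B)).inv.hom : B →+* Γ(Spec (CommRingCat.of B), ⊤)).toMonoidHom.comp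
      (MonoidAlgebra.of k (Multiplicative (ZMod (p ^ n))))
  obtain ⟨t, ht⟩ : ∃ t : X ⟶ Red.DS (Spec (CommRingCat.of k)) (ZMod (p ^ n)),
      ∀ m, chFn m t = χ (Multiplicative.ofAdd m) := chFn_exists (S := Spec (CommRingCat.of k)) χ
  have h1 : chFn (1 : ZMod (p ^ n)) t = chFn (1 : ZMod (p ^ (n + 1))) (t ≫ s) ^ p := by
    have h := chFn_DSmap ψ (1 : ZMod (p ^ n)) (t ≫ s)
    rw [Category.assoc, hsψ, Category.comp_id, hψ] at h
    rw [h]
    have e : (p : ZMod (p ^ (n + 1))) = p • (1 : ZMod (p ^ (n + 1))) := by simp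
    rw [e, chFn_nsmul]
  have h2 : chFn (1 : ZMod (p ^ (n + 1))) (t ≫ s) ^ (p ^ n) = 1 := by
    have e : (t ≫ s) ^ (p ^ n) = 1 := by
      have e0 := MonObj.pow_comp t (p ^ n) s
      have e1 : t ^ (p ^ n) = 1 := DS_killed (p ^ n)
        (fun m => by rw [nsmul_eq_mul, ZMod.natCast_self, zero_mul]) t
      rw [e1] at e0
      exact e0.symm.trans (MonObj.one_comp s)
    rw [← chFn_pow, e, chFn_one]
  have h3 : (chFn (1 : ZMod (p ^ n)) t) ^ (p ^ (n - 1)) = 1 := by
    rw [h1, ← pow_mul, ← pow_succ', Nat.sub_add_cancel hn]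
    exact h2
  rw [ht, ← map_pow, ← ofAdd_nsmul] at h3
  have hinj : Function.Injective χ := by
    intro a b hab
    have h := (ConcreteCategory.bijective_of_isIso (Scheme.ΓSpecIso (CommRingCat.of B)).inv).1 hab
    exact MonoidAlgebra.of_injective h
  have h4 := hinj (h3.trans (map_one χ).symm)
  have h5 : ((p ^ (n - 1) : ℕ) : ZMod (p ^ n)) = 0 := by
    have := congrArg Multiplicative.toAdd h4
    simpa using this
  have h6 := (ZMod.natCast_eq_zero_iff _ _).mp h5
  have h7 := Nat.le_of_dvd (pow_pos hp.out.pos _) h6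
  exact absurd h7 (not_le.mpr (Nat.pow_lt_pow_right hp.out.one_lt (by omega)))

end Groth.Agent.Lib.Helper60.DiagChar
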