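import Groth.Agent.Lib.Helper60.DiagChar
import Mathlib.RingTheory.Bialgebra.MonoidAlgebra
import Mathlib.AlgebraicGeometry.Group.Affine

/-!
# Homomorphisms between diagonalizable groups over a domain come from the character groups
-/

set_option autoImplicit false
set_option maxHeartbeats 400000
universe u
open CategoryTheory MonoidalCategory CartesianMonoidalCategory MonObj GrpObj AlgebraicGeometry CategoryTheory.Limits

namespace Groth.Agent.Lib.Helper60.DiagHom

open Groth.Agent.Lib.Helper43 Groth.Agent.Lib.Helper60.WittTorus Groth.Agent.Lib.Helper60.DiagChar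
open TensorProduct

section DSmapBasics

variable {S : Scheme.{u}} {M N P : Type} [AddCommGroup M] [AddCommGroup N] [AddCommGroup P]

theorem isMonHom_DSmap (φ : M →+ N) : IsMonHom (Red.DSmap S φ) := by
  unfold Red.DSmap
  haveI : IsMonHom (Red.diagMap (ULift.{u} ℤ) φ) := by
    let F := MonoidAlgebra.mapDomainBialgHom (R := ULift.{u} ℤ) (AddMonoidHom.toMultiplicative φ)
    let g := (bialgSpec (CommRingCat.of (ULift.{u} ℤ))).map
      (Quiver.Hom.op (CommBialgCat.ofHom F))
    have : Red.diagMap (ULift.{u} ℤ) φ = g.hom := rfl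
    rw [this]
    exact g.isMonHom_hom
  infer_instance

instance (φ : M →+ N) : IsMonHom (Red.DSmap S φ) := isMonHom_DSmap φ

/-- two morphisms into `D_S(M)` agreeing on all points are equal -/
theorem hom_ext_points {G : Over S} (f g : G ⟶ Red.DS S M)
    (h : ∀ m, chFn m f = chFn m g) : f = g :=
  chFn_injective f g h

theorem chFn_DSmap' (φ : M →+ N) (m : M) :
    chFn m (Red.DSmap S φ) = chFn (φ m) (𝟙 (Red.DS S N)) := by
  have := chFn_DSmap φ m (𝟙 (Red.DS S N))
  rwa [Category.id_comp] at this

theorem DSmap_comp (φ : M →+ N) (ψ : N →+ P) :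
    Red.DSmap S ψ ≫ Red.DSmap S φ = Red.DSmap S (ψ.comp φ) := by
  apply chFn_injective
  intro m
  rw [chFn_DSmap, chFn_DSmap', chFn_DSmap']
  rfl

theorem DSmap_id : Red.DSmap S (AddMonoidHom.id M) = 𝟙 _ := by
  apply chFn_injective
  intro m
  rw [chFn_DSmap']
  rfl

theorem DSmap_zero : Red.DSmap S (0 : M →+ N) = 1 := by
  apply chFn_injective
  intro m
  rw [chFn_DSmap', chFn_one]
  exact chFn_zero _

end DSmapBasics

section SpecAlg

variable {R : Type u} [CommRing R]

/-- the object `Spec A → Spec R` of `Over (Spec R)` for an `R`-algebra `A` -/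
noncomputable abbrev specOver (R : Type u) [CommRing R] (A : Type u) [CommRing A] [Algebra R A] :
    Over (Spec (CommRingCat.of R)) :=
  Over.mk (Spec.map (CommRingCat.ofHom (algebraMap R A)))

variable {A B : Type u} [CommRing A] [CommRing B] [Algebra R A] [Algebra R B]

/-- the morphism over `Spec R` attached to an `R`-algebra homomorphism -/
noncomputable def specAlgHom (α : A →ₐ[R] B) : specOver R B ⟶ specOver R A :=
  Over.homMk (Spec.map (CommRingCat.ofHom α.toRingHom)) (by
    change Spec.map (CommRingCat.ofHom α.toRingHom) ≫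
      Spec.map (CommRingCat.ofHom (algebraMap R A)) = Spec.map (CommRingCat.ofHom (algebraMap R B))
    rw [← Spec.map_comp, ← CommRingCat.ofHom_comp]
    congr 2
    exact α.comp_algebraMap)

theorem specAlgHom_appTop (α : A →ₐ[R] B) (r : Γ((specOver R A).left, ⊤)) :
    (Scheme.ΓSpecIso (CommRingCat.of B)).hom.hom ((specAlgHom α).left.appTop r) =
      α ((Scheme.ΓSpecIso (CommRingCat.of A)).hom.hom r) := by
  have := Scheme.ΓSpecIso_naturality (CommRingCat.ofHom α.toRingHom)
  exact congrArg (fun ψ => ψ.hom r) this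

theorem ΓSpecIso_hom_inv (a : A) :
    (Scheme.ΓSpecIso (CommRingCat.of A)).hom.hom ((Scheme.ΓSpecIso (CommRingCat.of A)).inv.hom a) = a :=
  congrArg (fun ψ => ψ.hom a) (Scheme.ΓSpecIso (CommRingCat.of A)).inv_hom_id

theorem ΓSpecIso_hom_injective :
    Function.Injective (Scheme.ΓSpecIso (CommRingCat.of A)).hom.hom :=
  (ConcreteCategory.bijective_of_isIso (Scheme.ΓSpecIso (CommRingCat.of A)).hom).1

end SpecAlg

section Universal

variable (R : Type u) [CommRing R] (M : Type) [AddCommGroup M]

local notation "SR" => Spec (CommRingCat.of R)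
local notation "RM" => MonoidAlgebra R (Multiplicative M)

theorem exists_univPt : ∃ τ : specOver R RM ⟶ Red.DS SR M, ∀ m,
    (Scheme.ΓSpecIso (CommRingCat.of RM)).hom.hom (chFn m τ) =
      MonoidAlgebra.single (Multiplicative.ofAdd m) (1 : R) := by
  let eBM := Scheme.ΓSpecIso (CommRingCat.of RM)
  let χτ : Multiplicative M →* Γ((specOver R RM).left, ⊤) :=
    (eBM.inv.hom : RM →+* Γ(Spec (CommRingCat.of RM), ⊤)).toMonoidHom.comp
      (MonoidAlgebra.of R (Multiplicative M))
  obtain ⟨τ, hτ⟩ := chFn_exists (S := SR) χτ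
  refine ⟨τ, fun m => ?_⟩
  rw [hτ]
  exact ΓSpecIso_hom_inv (MonoidAlgebra.of R (Multiplicative M) (Multiplicative.ofAdd m))

/-- the universal point of `D(M)` over `Spec R[M]` -/
noncomputable def univPt : specOver R RM ⟶ Red.DS SR M := (exists_univPt R M).choose

theorem chFn_univPt (m : M) :
    (Scheme.ΓSpecIso (CommRingCat.of RM)).hom.hom (chFn m (univPt R M)) =
      MonoidAlgebra.single (Multiplicative.ofAdd m) (1 : R) :=
  (exists_univPt R M).choose_spec m

variable {R M}

/-- every point of `D(M)` factors through the universal point -/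
theorem exists_factor {X : Over SR} (t : X ⟶ Red.DS SR M) :
    ∃ h : X ⟶ specOver R RM, h ≫ univPt R M = t := by
  let χ : Multiplicative M →* Γ(X.left, ⊤) :=
    { toFun := fun g => chFn (Multiplicative.toAdd g) t
      map_one' := chFn_zero t
      map_mul' := fun a b => chFn_add _ _ t }
  let L : RM →+* Γ(X.left, ⊤) :=
    MonoidAlgebra.liftNCRingHom (ptHom X.hom) χ (fun _ _ => Commute.all _ _)
  have hL : ∀ (g : Multiplicative M) (r : R), L (MonoidAlgebra.single g r) = ptHom X.hom r * χ g := by
    intro g r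
    exact MonoidAlgebra.liftNC_single _ _ _ _
  have hLalg : L.comp (algebraMap R RM) = ptHom X.hom := by
    ext r
    change L (algebraMap R RM r) = _
    rw [MonoidAlgebra.coe_algebraMap, Function.comp_apply, hL, map_one, _root_.mul_one]
    rfl
  let h : X ⟶ specOver R RM := Over.homMk (X.left.toSpecΓ ≫ Spec.map (CommRingCat.ofHom L)) (by
    change (X.left.toSpecΓ ≫ Spec.map (CommRingCat.ofHom L)) ≫
      Spec.map (CommRingCat.ofHom (algebraMap R RM)) = X.hom
    apply ptHom_injective
    rw [Category.assoc, ← Spec.map_comp, ← CommRingCat.ofHom_comp, hLalg, ptHom_toSpecΓ_SpecMap])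
  refine ⟨h, ?_⟩
  apply chFn_injective
  intro m
  rw [chFn_comp]
  have h1 : chFn m (univPt R M) = (Scheme.ΓSpecIso (CommRingCat.of RM)).inv.hom
      (MonoidAlgebra.single (Multiplicative.ofAdd m) (1 : R)) := by
    apply ΓSpecIso_hom_injective
    rw [chFn_univPt, ΓSpecIso_hom_inv]
  rw [h1]
  change ptHom (X.left.toSpecΓ ≫ Spec.map (CommRingCat.ofHom L)) _ = _
  rw [ptHom_toSpecΓ_SpecMap, hL, map_one, _root_.one_mul]
  rfl

end Universal

section FF

variable {R : Type u} [CommRing R] {M N : Type} [AddCommGroup M] [AddCommGroup N]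

local notation "SR" => Spec (CommRingCat.of R)
local notation "RM" => MonoidAlgebra R (Multiplicative M)

theorem DSmap_injective [Nontrivial R] {ψ ψ' : N →+ M}
    (h : Red.DSmap SR ψ = Red.DSmap SR ψ') : ψ = ψ' := by
  ext n
  have h1 := congrArg (fun g => (Scheme.ΓSpecIso (CommRingCat.of RM)).hom.hom
    (chFn n (univPt R M ≫ g))) h
  simp only [chFn_DSmap] at h1
  rw [chFn_univPt, chFn_univPt] at h1
  have h2 : MonoidAlgebra.of R (Multiplicative M) (Multiplicative.ofAdd (ψ n)) =
      MonoidAlgebra.of R (Multiplicative M) (Multiplicative.ofAdd (ψ' n)) := h1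
  exact Multiplicative.ofAdd.injective (MonoidAlgebra.of_injective h2)

theorem exists_eq_DSmap [IsDomain R] (f : Red.DS SR M ⟶ Red.DS SR N) [IsMonHom f] :
    ∃ ψ : N →+ M, f = Red.DSmap SR ψ := by
  let eBM := Scheme.ΓSpecIso (CommRingCat.of RM)
  let T := RM ⊗[R] RM
  let eT := Scheme.ΓSpecIso (CommRingCat.of T)
  let τ := univPt R M
  let c : N → RM := fun n => eBM.hom.hom (chFn n (τ ≫ f))
  -- counit
  let a0 : specOver R RM ⟶ specOver R RM :=
    specAlgHom ((Algebra.ofId R RM).comp (Bialgebra.counitAlgHom R RM))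
  have ha0 : a0 ≫ τ = 1 := by
    apply chFn_injective
    intro m
    apply ΓSpecIso_hom_injective
    rw [chFn_comp, specAlgHom_appTop, chFn_univPt, chFn_one, map_one]
    simp
    rfl
  have hcounit : ∀ n, Coalgebra.counit (R := R) (c n) = 1 := by
    intro n
    have h1 : chFn n ((a0 ≫ τ) ≫ f) = 1 := by
      rw [ha0, MonObj.one_comp f, chFn_one]
    rw [Category.assoc, chFn_comp] at h1
    have h2 := congrArg eBM.hom.hom h1
    rw [specAlgHom_appTop, map_one] at h2
    have h3 := congrArg (Coalgebra.counit (R := R)) h2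
    simpa using h3
  -- comultiplication
  let p1 : specOver R T ⟶ specOver R RM := specAlgHom Algebra.TensorProduct.includeLeft
  let p2 : specOver R T ⟶ specOver R RM := specAlgHom Algebra.TensorProduct.includeRight
  let μ' : specOver R T ⟶ specOver R RM := specAlgHom (Bialgebra.comulAlgHom R RM)
  have hkey : (p1 ≫ τ) * (p2 ≫ τ) = μ' ≫ τ := by
    apply chFn_injective
    intro m
    apply ΓSpecIso_hom_injective
    rw [chFn_mul, map_mul, chFn_comp, chFn_comp, chFn_comp, specAlgHom_appTop,
      specAlgHom_appTop, specAlgHom_appTop, chFn_univPt, Bialgebra.comulAlgHom_apply,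
      (MonoidAlgebra.isGroupLikeElem_single_one _).comul_eq_tmul_self]
    change (_ ⊗ₜ[R] (1 : RM)) * ((1 : RM) ⊗ₜ[R] _) = _
    rw [Algebra.TensorProduct.tmul_mul_tmul, _root_.mul_one, _root_.one_mul]
  have hcomul : ∀ n, Coalgebra.comul (R := R) (c n) = c n ⊗ₜ[R] c n := by
    intro n
    have h1 := congrArg (fun g => eT.hom.hom (chFn n (g ≫ f))) hkey
    simp only at h1
    rw [MonObj.mul_comp _ _ f, chFn_mul, map_mul, Category.assoc, Category.assoc, Category.assoc,
      chFn_comp n p1 (τ ≫ f), chFn_comp n p2 (τ ≫ f), chFn_comp n μ' (τ ≫ f), specAlgHom_appTop,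
      specAlgHom_appTop, specAlgHom_appTop] at h1
    rw [← Bialgebra.comulAlgHom_apply]
    refine h1.symm.trans ?_
    change (c n ⊗ₜ[R] (1 : RM)) * ((1 : RM) ⊗ₜ[R] c n) = _
    rw [Algebra.TensorProduct.tmul_mul_tmul, _root_.mul_one, _root_.one_mul]
  have hgl : ∀ n, IsGroupLikeElem R (c n) := fun n => ⟨hcounit n, hcomul n⟩
  have hex : ∀ n, ∃ g : Multiplicative M, MonoidAlgebra.of R (Multiplicative M) g = c n :=
    fun n => MonoidAlgebra.isGroupLikeElem_iff_mem_range_of.1 (hgl n)
  choose ψ0 hψ0 using hex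
  have hmul : ∀ n n', ψ0 (n + n') = ψ0 n * ψ0 n' := by
    intro n n'
    apply MonoidAlgebra.of_injective (R := R)
    rw [map_mul, hψ0, hψ0, hψ0]
    change eBM.hom.hom (chFn (n + n') (τ ≫ f)) = _
    rw [chFn_add, map_mul]
  let ψ : N →+ M := AddMonoidHom.mk' (fun n => Multiplicative.toAdd (ψ0 n)) (fun n n' => by
    change Multiplicative.toAdd (ψ0 (n + n')) = _
    rw [hmul]
    rfl)
  refine ⟨ψ, ?_⟩
  have key : ∀ (X : Over SR) (t : X ⟶ Red.DS SR M), t ≫ f = t ≫ Red.DSmap SR ψ := by
    intro X t
    obtain ⟨h, rfl⟩ := exists_factor t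
    apply chFn_injective
    intro n
    rw [Category.assoc, Category.assoc, chFn_comp n h (univPt R M ≫ f),
      chFn_comp n h (univPt R M ≫ Red.DSmap SR ψ), chFn_DSmap]
    congr 1
    apply ΓSpecIso_hom_injective
    rw [chFn_univPt]
    change c n = _
    rw [← hψ0]
    rfl
  have := key _ (𝟙 _)
  rwa [Category.id_comp, Category.id_comp] at this

end FF

section Detect

variable {R : Type u} [CommRing R] [Nontrivial R] {M : Type} [AddCommGroup M]

local notation "SR" => Spec (CommRingCat.of R)
local notation "RM" => MonoidAlgebra R (Multiplicative M)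

/-- a character whose universal value is trivial is zero -/
theorem eq_zero_of_chFn_id_eq_one (m : M) (h : chFn m (𝟙 (Red.DS SR M)) = 1) : m = 0 := by
  have h1 : chFn m (univPt R M ≫ 𝟙 (Red.DS SR M)) = 1 := by
    rw [chFn_comp, h, map_one]
  rw [Category.comp_id] at h1
  have h2 := congrArg (Scheme.ΓSpecIso (CommRingCat.of RM)).hom.hom h1
  rw [chFn_univPt, map_one] at h2
  have h3 : MonoidAlgebra.of R (Multiplicative M) (Multiplicative.ofAdd m) =
      MonoidAlgebra.of R (Multiplicative M) 1 := by
    rw [map_one]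
    exact h2
  exact Multiplicative.ofAdd.injective (MonoidAlgebra.of_injective h3)

end Detect

section Epi

variable {S : Scheme.{u}}

theorem appTop_injective_of_epi {X Y : Over S} (g : Y ⟶ X) [Epi g] :
    Function.Injective g.left.appTop := by
  intro x x' h
  obtain ⟨y, rfl⟩ := gaFn_surjective (S := S) (X := X) x
  obtain ⟨y', rfl⟩ := gaFn_surjective (S := S) (X := X) x'
  have h1 : g ≫ y = g ≫ y' := by
    apply gaFn_injective
    rw [gaFn_comp, gaFn_comp]
    exact h
  rw [(cancel_epi g).1 h1]

end Epi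

end Groth.Agent.Lib.Helper60.DiagHom
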