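import Groth.Agent.Lib.Helper60.DiagHom
import Groth.Prelude.Def_AlgGrp
import Groth.Prelude.Def_Red
import Mathlib.LinearAlgebra.FreeModule.PID
import Mathlib.Algebra.Module.Projective
import Mathlib.Algebra.EuclideanDomain.Int
import Mathlib.RingTheory.PrincipalIdealDomain
import Mathlib.AlgebraicGeometry.Morphisms.Flat

/-!
# Exact sequences of split tori over a field split
-/

set_option autoImplicit false
set_option maxHeartbeats 400000
universe u
open CategoryTheory MonoidalCategory CartesianMonoidalCategory MonObj GrpObj AlgebraicGeometry CategoryTheory.Limits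

namespace Groth.Agent.Lib.Helper60.DiagSplit

open Groth.Agent.Lib.Helper43 Groth.Agent.Lib.Helper60.WittTorus Groth.Agent.Lib.Helper60.DiagChar
open Groth.Agent.Lib.Helper60.DiagHom

theorem exists_retraction {MQ MG MK : Type} [AddCommGroup MQ] [AddCommGroup MG] [AddCommGroup MK]
    [Module.Finite ℤ MG] [Module.Free ℤ MK]
    (φ : MQ →+ MG) (ρ : MG →+ MK) (hφ : Function.Injective φ)
    (hex : ∀ m, ρ m = 0 → ∃ n, φ n = m) (hzero : ∀ n, ρ (φ n) = 0) :
    ∃ r : MG →+ MQ, ∀ n, r (φ n) = n := by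
  let ρL : MG →ₗ[ℤ] MK := ρ.toIntLinearMap
  let P := LinearMap.range ρL
  haveI : Module.Finite ℤ P := Module.Finite.range ρL
  haveI : Module.IsTorsionFree ℤ MK := inferInstance
  haveI : Module.IsTorsionFree ℤ P := inferInstance
  haveI : Module.Free ℤ P := Module.free_of_finite_type_torsion_free'
  obtain ⟨σ, hσ⟩ := Module.projective_lifting_property ρL.rangeRestrict LinearMap.id
    ρL.surjective_rangeRestrict
  have hσ' : ∀ x : P, ρ (σ x) = x := by
    intro x
    have := congrArg (fun g => ((g x : P) : MK)) hσ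
    exact this
  have hk : ∀ m, ρ (m - σ (ρL.rangeRestrict m)) = 0 := by
    intro m
    rw [map_sub, hσ']
    exact sub_self _
  choose r hr using fun m => hex _ (hk m)
  have hadd : ∀ m m', r (m + m') = r m + r m' := by
    intro m m'
    apply hφ
    rw [map_add, hr, hr, hr, map_add, map_add]
    abel
  refine ⟨AddMonoidHom.mk' r hadd, fun n => ?_⟩
  apply hφ
  change φ (r (φ n)) = φ n
  rw [hr]
  have : ρL.rangeRestrict (φ n) = 0 := Subtype.ext (hzero n)
  rw [this, map_zero, sub_zero]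

section

variable {k : Type u} [Field k]

local notation "Sk" => Spec (CommRingCat.of k)

theorem exists_section_of_exact {K G Q : Over Sk} [GrpObj K] [GrpObj G] [GrpObj Q]
    {MK MG MQ : Type} [AddCommGroup MK] [AddCommGroup MG] [AddCommGroup MQ]
    [Module.Finite ℤ MG] [Module.Free ℤ MK]
    (eK : Grp.mk K ≅ Grp.mk (Red.DS Sk MK)) (eG : Grp.mk G ≅ Grp.mk (Red.DS Sk MG))
    (eQ : Grp.mk Q ≅ Grp.mk (Red.DS Sk MQ))
    (i : K ⟶ G) [IsMonHom i] (π : G ⟶ Q) [IsMonHom π] [Flat π.left] [Surjective π.left]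
    (hker : AlgGrp.IsKernel i π) :
    ∃ s : Q ⟶ G, IsMonHom s ∧ s ≫ π = 𝟙 Q := by
  let isoK : K ≅ Red.DS Sk MK :=
    ⟨eK.hom.hom.hom, eK.inv.hom.hom, congrArg (fun x => x.hom.hom) eK.hom_inv_id,
      congrArg (fun x => x.hom.hom) eK.inv_hom_id⟩
  let isoG : G ≅ Red.DS Sk MG :=
    ⟨eG.hom.hom.hom, eG.inv.hom.hom, congrArg (fun x => x.hom.hom) eG.hom_inv_id,
      congrArg (fun x => x.hom.hom) eG.inv_hom_id⟩
  let isoQ : Q ≅ Red.DS Sk MQ :=
    ⟨eQ.hom.hom.hom, eQ.inv.hom.hom, congrArg (fun x => x.hom.hom) eQ.hom_inv_id,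
      congrArg (fun x => x.hom.hom) eQ.inv_hom_id⟩
  haveI : IsMonHom isoK.hom := eK.hom.hom.isMonHom_hom
  haveI : IsMonHom isoK.inv := eK.inv.hom.isMonHom_hom
  haveI : IsMonHom isoG.hom := eG.hom.hom.isMonHom_hom
  haveI : IsMonHom isoG.inv := eG.inv.hom.isMonHom_hom
  haveI : IsMonHom isoQ.hom := eQ.hom.hom.isMonHom_hom
  haveI : IsMonHom isoQ.inv := eQ.inv.hom.isMonHom_hom
  let π' : Red.DS Sk MG ⟶ Red.DS Sk MQ := isoG.inv ≫ π ≫ isoQ.hom
  let i' : Red.DS Sk MK ⟶ Red.DS Sk MG := isoK.inv ≫ i ≫ isoG.hom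
  haveI : IsMonHom π' := inferInstance
  haveI : IsMonHom i' := inferInstance
  obtain ⟨φ, hφ⟩ := exists_eq_DSmap π'
  obtain ⟨ρ, hρ⟩ := exists_eq_DSmap i'
  -- `i ≫ π = 1`
  have hiπ : i ≫ π = 1 := by
    rw [hker.w]
    rfl
  -- zero composite
  have hzero : ∀ n, ρ (φ n) = 0 := by
    have h1 : i' ≫ π' = 1 := by
      change (isoK.inv ≫ i ≫ isoG.hom) ≫ isoG.inv ≫ π ≫ isoQ.hom = 1
      rw [Category.assoc, Category.assoc, Iso.hom_inv_id_assoc, ← Category.assoc i, hiπ,
        MonObj.one_comp isoQ.hom, MonObj.comp_one]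
    rw [hφ, hρ, DSmap_comp, ← DSmap_zero] at h1
    have h2 := DSmap_injective h1
    intro n
    exact congrArg (fun g => g n) h2
  -- exactness in the middle
  have hex : ∀ m, ρ m = 0 → ∃ n, φ n = m := by
    intro m hm
    let C := MG ⧸ φ.range
    let q : MG →+ C := QuotientAddGroup.mk' φ.range
    have hqφ : q.comp φ = 0 := by
      ext n
      exact (QuotientAddGroup.eq_zero_iff _).2 ⟨n, rfl⟩
    have h1 : Red.DSmap Sk q ≫ π' = 1 := by
      rw [hφ, DSmap_comp, hqφ, DSmap_zero]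
    let g : Red.DS Sk C ⟶ G := Red.DSmap Sk q ≫ isoG.inv
    have hg : g ≫ π = 1 := by
      have : g ≫ π = (Red.DSmap Sk q ≫ π') ≫ isoQ.inv := by
        change (Red.DSmap Sk q ≫ isoG.inv) ≫ π = (Red.DSmap Sk q ≫ isoG.inv ≫ π ≫ isoQ.hom) ≫ isoQ.inv
        simp
      rw [this, h1, MonObj.one_comp isoQ.inv]
    let l0 : Red.DS Sk C ⟶ K := hker.lift g (toUnit _) (by rw [hg]; rfl)
    have hl0 : l0 ≫ i = g := hker.lift_fst _ _ _
    let l : Red.DS Sk C ⟶ Red.DS Sk MK := l0 ≫ isoK.hom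
    have hl : l ≫ Red.DSmap Sk ρ = Red.DSmap Sk q := by
      rw [← hρ]
      change (l0 ≫ isoK.hom) ≫ isoK.inv ≫ i ≫ isoG.hom = _
      rw [Category.assoc, Iso.hom_inv_id_assoc, ← Category.assoc, hl0]
      change (Red.DSmap Sk q ≫ isoG.inv) ≫ isoG.hom = _
      rw [Category.assoc, Iso.inv_hom_id, Category.comp_id]
    have h2 : chFn (q m) (𝟙 (Red.DS Sk C)) = 1 := by
      rw [← chFn_DSmap', ← hl, chFn_DSmap, hm, chFn_zero]
    have h3 := eq_zero_of_chFn_id_eq_one (R := k) (q m) h2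
    exact (QuotientAddGroup.eq_zero_iff _).1 h3
  -- injectivity
  have hinj : Function.Injective φ := by
    rw [injective_iff_map_eq_zero]
    intro n hn
    haveI : Epi π.left := Flat.epi_of_flat_of_surjective π.left
    haveI : Epi π := Over.epi_of_epi_left π
    haveI : Epi π' := inferInstance
    apply eq_zero_of_chFn_id_eq_one (R := k)
    apply appTop_injective_of_epi π'
    rw [map_one, ← chFn_comp, Category.comp_id, hφ, chFn_DSmap', hn, chFn_zero]
  obtain ⟨r, hr⟩ := exists_retraction φ ρ hinj hex hzero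
  have hrφ : r.comp φ = AddMonoidHom.id MQ := by
    ext n
    exact hr n
  refine ⟨isoQ.hom ≫ Red.DSmap Sk r ≫ isoG.inv, inferInstance, ?_⟩
  have h1 : isoG.inv ≫ π = π' ≫ isoQ.inv := by
    change isoG.inv ≫ π = (isoG.inv ≫ π ≫ isoQ.hom) ≫ isoQ.inv
    simp
  rw [Category.assoc, Category.assoc, h1, hφ, ← Category.assoc (Red.DSmap Sk r), DSmap_comp, hrφ,
    DSmap_id, Category.id_comp, Iso.hom_inv_id]

end

end Groth.Agent.Lib.Helper60.DiagSplit
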