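import Mathlib

/-!
# A criterion for a quotient of a finite projective module to be projective

helper60.  `P` finite projective over `R`, `Y ⊆ P` finitely generated with
`Y ⊓ 𝔪 P ≤ 𝔪 Y` for all maximal ideals `𝔪`.  Then `P ⧸ Y` is projective.
-/

set_option autoImplicit false
set_option maxHeartbeats 400000

namespace Groth.Agent.Lib.Helper60.LocalCrit

open TensorProduct

section localcase

variable {S : Type*} [CommRing S] [IsLocalRing S] {P : Type*} [AddCommGroup P] [Module S P]

theorem free_quotient_of_local [Module.Finite S P] [Module.Free S P] (Y : Submodule S P)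
    (hY : Y.FG)
    (h : Y ⊓ IsLocalRing.maximalIdeal S • (⊤ : Submodule S P) ≤ IsLocalRing.maximalIdeal S • Y) :
    Module.Free S (P ⧸ Y) := by
  haveI : Module.Finite S Y := Module.Finite.iff_fg.mpr hY
  apply Module.free_of_lTensor_residueField_injective Y.subtype Y.mkQ
    (Submodule.mkQ_surjective _) (LinearMap.exact_subtype_mkQ Y)
  rw [injective_iff_map_eq_zero]
  intro t ht
  obtain ⟨y, rfl⟩ := TensorProduct.mk_surjective S Y (IsLocalRing.ResidueField S)
    Ideal.Quotient.mk_surjective t
  rw [TensorProduct.mk_apply, LinearMap.lTensor_tmul, Submodule.subtype_apply] at ht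
  have ht' : (1 : S ⧸ IsLocalRing.maximalIdeal S) ⊗ₜ[S] (y : P) = 0 := ht
  have h1 : (y : P) ∈ IsLocalRing.maximalIdeal S • (⊤ : Submodule S P) := by
    have := congrArg (quotTensorEquivQuotSMul P (IsLocalRing.maximalIdeal S)) ht'
    rw [LinearEquiv.map_zero, quotTensorEquivQuotSMul_mk_one_tmul] at this
    exact (Submodule.Quotient.mk_eq_zero _).mp this
  have h2 : (y : P) ∈ IsLocalRing.maximalIdeal S • Y := h ⟨y.2, h1⟩
  have h3 : y ∈ IsLocalRing.maximalIdeal S • (⊤ : Submodule S Y) := by
    have : IsLocalRing.maximalIdeal S • Y =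
        (IsLocalRing.maximalIdeal S • (⊤ : Submodule S Y)).map Y.subtype := by
      rw [Submodule.map_smul'', Submodule.map_top, Submodule.range_subtype]
    rw [this] at h2
    obtain ⟨y', hy', hyy'⟩ := h2
    have : y' = y := Subtype.ext hyy'
    rwa [← this]
  rw [TensorProduct.mk_apply]
  change (1 : S ⧸ IsLocalRing.maximalIdeal S) ⊗ₜ[S] y = 0
  apply (quotTensorEquivQuotSMul Y (IsLocalRing.maximalIdeal S)).injective
  rw [LinearEquiv.map_zero, quotTensorEquivQuotSMul_mk_one_tmul]
  exact (Submodule.Quotient.mk_eq_zero _).mpr h3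

end localcase

section globalcase

variable {R : Type*} [CommRing R] {P : Type*} [AddCommGroup P] [Module R P]

theorem projective_quotient [Module.Finite R P] [Module.Projective R P] (Y : Submodule R P)
    (hY : Y.FG)
    (h : ∀ 𝔪 : Ideal R, 𝔪.IsMaximal → Y ⊓ 𝔪 • (⊤ : Submodule R P) ≤ 𝔪 • Y) :
    Module.Projective R (P ⧸ Y) := by
  classical
  haveI : Module.FinitePresentation R P := Module.finitePresentation_of_projective R P
  haveI : Module.FinitePresentation R (P ⧸ Y) :=
    Module.finitePresentation_of_surjective Y.mkQ (Submodule.mkQ_surjective _)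
      (by rw [Submodule.ker_mkQ]; exact hY)
  apply Module.projective_of_localization_maximal
  intro 𝔪 h𝔪
  haveI := h𝔪
  set S := Localization.AtPrime 𝔪 with hS
  set p := 𝔪.primeCompl with hp
  set P' := LocalizedModule p P with hP'
  set Y' : Submodule S P' := Y.localized p with hY'
  have hmax : (𝔪 : Submodule R R).localized' S p (Algebra.linearMap R S) =
      IsLocalRing.maximalIdeal S := by
    rw [Submodule.localized'_eq_span, ← Localization.AtPrime.map_eq_maximalIdeal]
    rfl
  have hloc : Y' ⊓ IsLocalRing.maximalIdeal S • (⊤ : Submodule S P') ≤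
      IsLocalRing.maximalIdeal S • Y' := by
    have h1 := h 𝔪 h𝔪
    have h2 : (Y ⊓ 𝔪 • (⊤ : Submodule R P)).localized' S p (LocalizedModule.mkLinearMap p P) ≤
        (𝔪 • Y).localized' S p (LocalizedModule.mkLinearMap p P) :=
      (Submodule.localized'gi S p (LocalizedModule.mkLinearMap p P)).gc.monotone_l h1
    rw [Submodule.localized'_inf, Submodule.localized'_smul, Submodule.localized'_smul,
      Submodule.localized'_top, hmax] at h2
    exact h2
  have hfg : Y'.FG := by
    obtain ⟨s, hs⟩ := hY
    rw [hY', ← hs]
    show (Submodule.localized' S p (LocalizedModule.mkLinearMap p P) (Submodule.span R ↑s)).FG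
    rw [Submodule.localized'_span]
    exact ⟨s.image (LocalizedModule.mkLinearMap p P), by rw [Finset.coe_image]⟩
  haveI : Module.Free S P' := Module.free_of_flat_of_isLocalRing
  haveI := free_quotient_of_local Y' hfg hloc
  exact Module.Projective.of_equiv (localizedQuotientEquiv p Y)

end globalcase

end Groth.Agent.Lib.Helper60.LocalCrit
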