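import Mathlib
import Groth.Prelude.Def_Disp2

/-!
# Frobenius is nilpotent on `W(𝔞)` (helper60)

`S` a commutative ring with `p^M = 0`, `φ : S → R` a ring map and `a^N = 0` for all `a ∈ ker φ`.
Then `F^(M+N)` kills `ker (W(S) → W(R))`.
-/

set_option autoImplicit false
set_option maxHeartbeats 400000

universe u

namespace Groth.Agent.Lib.Helper60.WittNilFrob

variable {p : ℕ} [hp : Fact p.Prime] {S R : Type u} [CommRing S] [CommRing R]

/-- Evaluation of an integral polynomial without constant term at a point with coordinates in an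
ideal lies in the ideal. -/
theorem aeval_mem_of_constantCoeff_eq_zero (q : MvPolynomial ℕ ℤ) (hq : MvPolynomial.constantCoeff q = 0)
    (I : Ideal S) (v : ℕ → S) (hv : ∀ i, v i ∈ I) : MvPolynomial.aeval v q ∈ I := by
  rw [q.as_sum, MvPolynomial.aeval_sum]
  refine Ideal.sum_mem _ (fun m hm => ?_)
  rw [MvPolynomial.aeval_monomial]
  apply Ideal.mul_mem_left
  have hm0 : m ≠ 0 := by
    rintro rfl
    rw [MvPolynomial.mem_support_iff] at hm
    exact hm hq
  obtain ⟨i, hi⟩ : ∃ i, m i ≠ 0 := by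
    by_contra h
    apply hm0
    ext i
    by_contra hi
    exact h ⟨i, hi⟩
  rw [Finsupp.prod, ← Finset.mul_prod_erase m.support _ (Finsupp.mem_support_iff.mpr hi)]
  apply Ideal.mul_mem_right
  exact Ideal.pow_mem_of_mem _ (hv i) _ (Nat.pos_of_ne_zero hi)

/-- `frobeniusPolyAux` has no constant term. -/
theorem constantCoeff_frobeniusPolyAux (n : ℕ) :
    MvPolynomial.constantCoeff (WittVector.frobeniusPolyAux p n) = 0 := by
  have h0 : (WittVector.frobenius (0 : WittVector p ℤ)).coeff n = 0 := by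
    rw [map_zero]; exact WittVector.zero_coeff p ℤ n
  rw [WittVector.coeff_frobenius, WittVector.frobeniusPoly, map_add, map_mul, map_pow,
    MvPolynomial.aeval_X, MvPolynomial.aeval_C] at h0
  have h1 : MvPolynomial.aeval (0 : WittVector p ℤ).coeff (WittVector.frobeniusPolyAux p n)
      = MvPolynomial.constantCoeff (WittVector.frobeniusPolyAux p n) := by
    have : (0 : WittVector p ℤ).coeff = (0 : ℕ → ℤ) := by
      funext i; exact WittVector.zero_coeff p ℤ i
    rw [this, MvPolynomial.aeval_zero]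
    rfl
  rw [h1, WittVector.zero_coeff, zero_pow hp.out.ne_zero, zero_add] at h0
  have hpz : ((algebraMap ℤ ℤ) (p : ℤ)) ≠ 0 := by
    simp [hp.out.ne_zero]
  exact (mul_eq_zero.mp h0).resolve_left hpz

/-- The ideals `𝔟_k` generated by the `p^e a^(p^f)`, `a ∈ ker φ`, `e + f = k`. -/
def bIdeal (p : ℕ) (φ : S →+* R) (k : ℕ) : Ideal S :=
  Ideal.span {y | ∃ (a : S) (e f : ℕ), φ a = 0 ∧ e + f = k ∧ y = (p : S) ^ e * a ^ (p ^ f)}

theorem ker_le_bIdeal_zero (φ : S →+* R) : RingHom.ker φ ≤ bIdeal p φ 0 := by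
  intro a ha
  refine Ideal.subset_span ⟨a, 0, 0, ha, rfl, ?_⟩
  rw [pow_zero, pow_zero, pow_one, one_mul]

theorem p_mul_mem_bIdeal (φ : S →+* R) (k : ℕ) (y : S) (hy : y ∈ bIdeal p φ k) :
    (p : S) * y ∈ bIdeal p φ (k + 1) := by
  unfold bIdeal at hy
  induction hy using Submodule.span_induction with
  | mem x hx =>
    obtain ⟨a, e, f, ha, hef, rfl⟩ := hx
    refine Ideal.subset_span ⟨a, e + 1, f, ha, by omega, ?_⟩
    rw [pow_succ]; ring
  | zero => rw [mul_zero]; exact Ideal.zero_mem _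
  | add x y _ _ hx hy => rw [mul_add]; exact Ideal.add_mem _ hx hy
  | smul a x _ hx =>
    rw [smul_eq_mul, mul_left_comm]
    exact Ideal.mul_mem_left _ _ hx

theorem pow_p_mem_bIdeal (φ : S →+* R) (k : ℕ) (y : S) (hy : y ∈ bIdeal p φ k) :
    y ^ p ∈ bIdeal p φ (k + 1) := by
  have hy0 := hy
  unfold bIdeal at hy
  induction hy using Submodule.span_induction with
  | mem x hx =>
    obtain ⟨a, e, f, ha, hef, rfl⟩ := hx
    have : ((p : S) ^ e * a ^ p ^ f) ^ p
        = (p : S) ^ (e * p - e) * ((p : S) ^ e * a ^ (p ^ (f + 1))) := by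
      rw [mul_pow, ← pow_mul, ← pow_mul, ← mul_assoc, ← pow_add, pow_succ]
      congr 2
      have : e ≤ e * p := Nat.le_mul_of_pos_right e hp.out.pos
      omega
    rw [this]
    apply Ideal.mul_mem_left
    exact Ideal.subset_span ⟨a, e, f + 1, ha, by omega, rfl⟩
  | zero => rw [zero_pow hp.out.ne_zero]; exact Ideal.zero_mem _
  | add x y hx' hy' hx hy =>
    obtain ⟨r, hr⟩ := exists_add_pow_prime_eq hp.out x y
    rw [hr]
    refine Ideal.add_mem _ (Ideal.add_mem _ (hx hx') (hy hy')) ?_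
    rw [mul_assoc, mul_assoc]
    apply p_mul_mem_bIdeal
    exact Ideal.mul_mem_right _ _ hx'
  | smul a x hx' hx =>
    rw [smul_eq_mul, mul_pow]
    exact Ideal.mul_mem_left _ _ (hx hx')

theorem bIdeal_eq_bot (φ : S →+* R) (M N : ℕ) (hM : (p : S) ^ M = 0)
    (hN : ∀ a : S, φ a = 0 → a ^ N = 0) (k : ℕ) (hk : M + N ≤ k) : bIdeal p φ k = ⊥ := by
  rw [eq_bot_iff, bIdeal, Ideal.span_le]
  rintro _ ⟨a, e, f, ha, hef, rfl⟩
  rw [SetLike.mem_coe, Ideal.mem_bot]
  by_cases he : M ≤ e
  · rw [pow_eq_zero_of_le he hM, zero_mul]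
  · have hf : N ≤ p ^ f := by
      have h1 : N ≤ f := by omega
      exact h1.trans (Nat.lt_pow_self hp.out.one_lt).le
    rw [pow_eq_zero_of_le hf (hN a ha), mul_zero]

/-- Witt vectors with all coefficients in `𝔟_k` are mapped by Frobenius to Witt vectors with all
coefficients in `𝔟_{k+1}`. -/
theorem frobenius_coeff_mem (φ : S →+* R) (k : ℕ) (x : WittVector p S)
    (hx : ∀ n, x.coeff n ∈ bIdeal p φ k) (n : ℕ) :
    (WittVector.frobenius x).coeff n ∈ bIdeal p φ (k + 1) := by
  rw [WittVector.coeff_frobenius, WittVector.frobeniusPoly, map_add, map_mul, map_pow,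
    MvPolynomial.aeval_X, MvPolynomial.aeval_C]
  refine Ideal.add_mem _ (pow_p_mem_bIdeal φ k _ (hx n)) ?_
  have h1 := aeval_mem_of_constantCoeff_eq_zero (WittVector.frobeniusPolyAux p n)
    (constantCoeff_frobeniusPolyAux n) (bIdeal p φ k) x.coeff hx
  have h2 : (algebraMap ℤ S) (p : ℤ) = (p : S) := by simp
  rw [h2]
  exact p_mul_mem_bIdeal φ k _ h1

theorem iterate_frobenius_coeff_mem (φ : S →+* R) (x : WittVector p S)
    (hx : ∀ n, φ (x.coeff n) = 0) (k : ℕ) :
    ∀ n, ((WittVector.frobenius : WittVector p S →+* WittVector p S)^[k] x).coeff n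
      ∈ bIdeal p φ k := by
  induction k with
  | zero => intro n; exact ker_le_bIdeal_zero φ (hx n)
  | succ k ih =>
    intro n
    rw [Function.iterate_succ_apply']
    exact frobenius_coeff_mem φ k _ ih n

theorem mem_ker_map_iff (φ : S →+* R) (x : WittVector p S) :
    x ∈ RingHom.ker (WittVector.map (p := p) φ) ↔ ∀ n, φ (x.coeff n) = 0 := by
  rw [RingHom.mem_ker, WittVector.ext_iff]
  simp only [WittVector.map_coeff, WittVector.zero_coeff]

/-- Frobenius is nilpotent on `ker (W(S) → W(R))`. -/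
theorem iterate_frobenius_eq_zero (φ : S →+* R) (M N : ℕ) (hM : (p : S) ^ M = 0)
    (hN : ∀ a : S, φ a = 0 → a ^ N = 0) (x : WittVector p S)
    (hx : x ∈ RingHom.ker (WittVector.map (p := p) φ)) :
    ((WittVector.frobenius : WittVector p S →+* WittVector p S)^[M + N]) x = 0 := by
  rw [mem_ker_map_iff] at hx
  ext n
  have := iterate_frobenius_coeff_mem φ x hx (M + N) n
  rw [bIdeal_eq_bot φ M N hM hN (M + N) le_rfl, Ideal.mem_bot] at this
  rw [this, WittVector.zero_coeff]

end Groth.Agent.Lib.Helper60.WittNilFrob
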