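import Mathlib
import Groth.Agent.Lib.Helper60.WittNilFrob

/-!
# Witt vectors with components in a square-zero ideal (helper60)

* `wittAdd_sub_mem` : `wittAdd p n ≡ X (0,n) + X (1,n)` modulo the square of the ideal of variables.
* `coeff_add_sub_mem` : for Witt vectors `x y` with components in an ideal `a`,
  `(x + y)_n - x_n - y_n ∈ a ^ 2`.
* `mul_teichmuller_coeff` : `(x * [a])_n = x_n * a ^ p ^ n`.
-/

set_option autoImplicit false
set_option maxHeartbeats 400000

universe u

namespace Groth.Agent.Lib.Helper60.WittSqZero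

open MvPolynomial WittVector

variable (p : ℕ) [hp : Fact p.Prime]

theorem wittAdd_mem (n : ℕ) : wittAdd p n ∈ idealOfVars (Fin 2 × ℕ) ℤ := by
  have h := (mem_pow_idealOfVars_iff' (σ := Fin 2 × ℕ) (R := ℤ) 1 (wittAdd p n)).mpr ?_
  · rwa [pow_one] at h
  · intro x hx
    have hx0 : x = 0 := by
      have : Finsupp.degree x = 0 := by omega
      exact (Finsupp.degree_eq_zero_iff x).mp this
    rw [hx0]
    exact WittVector.constantCoeff_wittAdd p n

theorem X_mem (i : Fin 2 × ℕ) : (X i : MvPolynomial (Fin 2 × ℕ) ℤ) ∈ idealOfVars (Fin 2 × ℕ) ℤ :=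
  Ideal.subset_span ⟨i, rfl⟩

theorem pow_mem_sq {f : MvPolynomial (Fin 2 × ℕ) ℤ} (hf : f ∈ idealOfVars (Fin 2 × ℕ) ℤ) {k : ℕ}
    (hk : 2 ≤ k) : f ^ k ∈ idealOfVars (Fin 2 × ℕ) ℤ ^ 2 :=
  Ideal.pow_le_pow_right hk (Ideal.pow_mem_pow hf k)

theorem wittAdd_sub_mem (n : ℕ) :
    wittAdd p n - X (0, n) - X (1, n) ∈ idealOfVars (Fin 2 × ℕ) ℤ ^ 2 := by
  have hprop := wittStructureInt_prop p (X 0 + X 1 : MvPolynomial (Fin 2) ℤ) n
  rw [wittPolynomial_eq_sum_C_mul_X_pow] at hprop
  simp only [map_sum, map_mul, map_pow, bind₁_X_right, map_add, rename_X,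
    algHom_C, algebraMap_eq] at hprop
  rw [Finset.sum_range_succ, Finset.sum_range_succ, Finset.sum_range_succ, Nat.sub_self,
    pow_zero, pow_one, pow_one, pow_one] at hprop
  -- isolate the top terms
  have hpk : ∀ i ∈ Finset.range n, 2 ≤ p ^ (n - i) := by
    intro i hi
    have hi' : 0 < n - i := Nat.sub_pos_of_lt (Finset.mem_range.mp hi)
    calc 2 ≤ p := hp.1.two_le
      _ = p ^ 1 := (pow_one p).symm
      _ ≤ p ^ (n - i) := Nat.pow_le_pow_right hp.1.pos hi'
  have h1 : ∑ i ∈ Finset.range n, C (p : ℤ) ^ i * wittStructureInt p (X 0 + X 1) i ^ p ^ (n - i)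
      ∈ idealOfVars (Fin 2 × ℕ) ℤ ^ 2 :=
    Ideal.sum_mem _ (fun i hi => Ideal.mul_mem_left _ _ (pow_mem_sq (wittAdd_mem p i) (hpk i hi)))
  have h2 : ∀ j : Fin 2, ∑ i ∈ Finset.range n, C (p : ℤ) ^ i *
      (X (j, i) : MvPolynomial (Fin 2 × ℕ) ℤ) ^ p ^ (n - i) ∈ idealOfVars (Fin 2 × ℕ) ℤ ^ 2 :=
    fun j => Ideal.sum_mem _ (fun i hi => Ideal.mul_mem_left _ _ (pow_mem_sq (X_mem _) (hpk i hi)))
  have h3 : C (p : ℤ) ^ n * (wittAdd p n - X (0, n) - X (1, n)) ∈
      idealOfVars (Fin 2 × ℕ) ℤ ^ 2 := by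
    have : C (p : ℤ) ^ n * (wittAdd p n - X (0, n) - X (1, n)) =
        (∑ i ∈ Finset.range n, C (p : ℤ) ^ i * (X ((0 : Fin 2), i) : MvPolynomial (Fin 2 × ℕ) ℤ)
          ^ p ^ (n - i)) +
        (∑ i ∈ Finset.range n, C (p : ℤ) ^ i * (X ((1 : Fin 2), i) : MvPolynomial (Fin 2 × ℕ) ℤ)
          ^ p ^ (n - i)) -
        ∑ i ∈ Finset.range n, C (p : ℤ) ^ i * wittStructureInt p (X 0 + X 1) i ^ p ^ (n - i) := by
      have hw : wittAdd p n = wittStructureInt p (X 0 + X 1) n := rfl
      rw [hw]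
      linear_combination hprop
    rw [this]
    exact Ideal.sub_mem _ (Ideal.add_mem _ (h2 0) (h2 1)) h1
  rw [mem_pow_idealOfVars_iff'] at h3 ⊢
  intro x hx
  have := h3 x hx
  rw [← C_pow, coeff_C_mul] at this
  rcases mul_eq_zero.mp this with h | h
  · exact absurd h (pow_ne_zero n (by exact_mod_cast hp.1.ne_zero))
  · exact h


variable {p}
variable {R : Type u} [CommRing R]

/-- For Witt vectors with components in an ideal `a`, addition is componentwise modulo `a ^ 2`. -/
theorem coeff_add_sub_mem (a : Ideal R) (x y : WittVector p R) (hx : ∀ n, x.coeff n ∈ a)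
    (hy : ∀ n, y.coeff n ∈ a) (n : ℕ) :
    (x + y).coeff n - x.coeff n - y.coeff n ∈ a ^ 2 := by
  set v : Fin 2 × ℕ → R := Function.uncurry ![x.coeff, y.coeff] with hv
  have h0 : (x + y).coeff n - x.coeff n - y.coeff n =
      (aeval v : MvPolynomial (Fin 2 × ℕ) ℤ →ₐ[ℤ] R) (wittAdd p n - X (0, n) - X (1, n)) := by
    rw [map_sub, map_sub, aeval_X, aeval_X, WittVector.add_coeff]
    rfl
  rw [h0]
  have h1 : (idealOfVars (Fin 2 × ℕ) ℤ).map
      ((aeval v : MvPolynomial (Fin 2 × ℕ) ℤ →ₐ[ℤ] R) : MvPolynomial (Fin 2 × ℕ) ℤ →+* R) ≤ a := by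
    rw [idealOfVars, Ideal.map_span, Ideal.span_le]
    rintro _ ⟨_, ⟨i, rfl⟩, rfl⟩
    obtain ⟨j, k⟩ := i
    change (aeval v) (X (j, k)) ∈ a
    rw [aeval_X]
    fin_cases j
    · exact hx k
    · exact hy k
  have h2 := Ideal.mem_map_of_mem
    ((aeval v : MvPolynomial (Fin 2 × ℕ) ℤ →ₐ[ℤ] R) : MvPolynomial (Fin 2 × ℕ) ℤ →+* R)
    (wittAdd_sub_mem p n)
  rw [Ideal.map_pow] at h2
  exact Ideal.pow_right_mono h1 2 h2

/-- componentwise scaling by powers of `a` -/
def scaleFun (a : R) (x : WittVector p R) : WittVector p R :=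
  WittVector.mk p fun n => x.coeff n * a ^ p ^ n

theorem scaleFun_coeff (a : R) (x : WittVector p R) (n : ℕ) :
    (scaleFun a x).coeff n = x.coeff n * a ^ p ^ n := rfl

theorem ghostComponent_scaleFun (a : R) (x : WittVector p R) (n : ℕ) :
    WittVector.ghostComponent n (scaleFun a x) = WittVector.ghostComponent n x * a ^ p ^ n := by
  rw [WittVector.ghostComponent_apply, WittVector.ghostComponent_apply, aeval_wittPolynomial,
    aeval_wittPolynomial, Finset.sum_mul]
  refine Finset.sum_congr rfl (fun i hi => ?_)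
  have hi' : i ≤ n := Nat.lt_succ_iff.mp (Finset.mem_range.mp hi)
  rw [scaleFun_coeff, mul_pow, ← pow_mul, ← pow_add, Nat.add_sub_cancel' hi']
  ring

theorem map_scaleFun {S : Type*} [CommRing S] (f : R →+* S) (a : R) (x : WittVector p R) :
    WittVector.map f (scaleFun a x) = scaleFun (f a) (WittVector.map f x) := by
  ext n
  rw [WittVector.map_coeff, scaleFun_coeff, scaleFun_coeff, WittVector.map_coeff, map_mul, map_pow]

private theorem mul_teichmuller_aux₁ {σ : Type*} (a : MvPolynomial σ ℚ)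
    (x : WittVector p (MvPolynomial σ ℚ)) : x * WittVector.teichmuller p a = scaleFun a x := by
  apply (WittVector.ghostMap.bijective_of_invertible p (MvPolynomial σ ℚ)).1
  rw [map_mul]
  ext1 n
  simp only [Pi.mul_apply, WittVector.ghostMap_apply, WittVector.ghostComponent_teichmuller,
    ghostComponent_scaleFun]

private theorem mul_teichmuller_aux₂ {σ : Type*} (a : MvPolynomial σ ℤ)
    (x : WittVector p (MvPolynomial σ ℤ)) : x * WittVector.teichmuller p a = scaleFun a x := by
  refine WittVector.map_injective (MvPolynomial.map (Int.castRingHom ℚ))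
    (MvPolynomial.map_injective _ Int.cast_injective) ?_
  rw [map_mul, WittVector.map_teichmuller, map_scaleFun, mul_teichmuller_aux₁]

theorem mul_teichmuller (a : R) (x : WittVector p R) :
    x * WittVector.teichmuller p a = scaleFun a x := by
  obtain ⟨a', rfl⟩ := counit_surjective R a
  obtain ⟨x', rfl⟩ := WittVector.map_surjective (counit R) (counit_surjective R) x
  rw [← WittVector.map_teichmuller, ← map_mul, mul_teichmuller_aux₂, map_scaleFun]

theorem mul_teichmuller_coeff (a : R) (x : WittVector p R) (n : ℕ) :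
    (x * WittVector.teichmuller p a).coeff n = x.coeff n * a ^ p ^ n := by
  rw [mul_teichmuller, scaleFun_coeff]


/-! ### The ideal `W(a)` -/

variable (p) in
/-- `W(a)`: the Witt vectors all of whose components lie in the ideal `a`. -/
noncomputable def Jid (a : Ideal R) : Ideal (WittVector p R) :=
  RingHom.ker (WittVector.map (p := p) (Ideal.Quotient.mk a))

theorem mem_Jid_iff (a : Ideal R) (x : WittVector p R) : x ∈ Jid p a ↔ ∀ n, x.coeff n ∈ a := by
  rw [Jid, WittNilFrob.mem_ker_map_iff]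
  simp only [Ideal.Quotient.eq_zero_iff_mem]

theorem Jid_mono {a b : Ideal R} (h : a ≤ b) : Jid p a ≤ Jid p b := by
  intro x hx
  rw [mem_Jid_iff] at hx ⊢
  exact fun n => h (hx n)

theorem Jid_bot : Jid p (⊥ : Ideal R) = ⊥ := by
  rw [eq_bot_iff]
  intro x hx
  rw [mem_Jid_iff] at hx
  rw [Ideal.mem_bot]
  ext n
  rw [WittVector.zero_coeff]
  exact hx n

theorem verschiebung_mem_Jid (a : Ideal R) (x : WittVector p R) (hx : x ∈ Jid p a) :
    WittVector.verschiebung x ∈ Jid p a := by
  rw [mem_Jid_iff] at hx ⊢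
  intro n
  cases n with
  | zero => rw [WittVector.verschiebung_coeff_zero]; exact a.zero_mem
  | succ n => rw [WittVector.verschiebung_coeff_succ]; exact hx n

theorem shift_mem_Jid (a : Ideal R) (x : WittVector p R) (hx : x ∈ Jid p a) :
    x.shift 1 ∈ Jid p a := by
  rw [mem_Jid_iff] at hx ⊢
  intro n
  rw [WittVector.shift_coeff]
  exact hx _

theorem teichmuller_mem_Jid (a : Ideal R) (r : R) (hr : r ∈ a) :
    WittVector.teichmuller p r ∈ Jid p a := by
  rw [mem_Jid_iff]
  intro n
  cases n with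
  | zero => rw [WittVector.teichmuller_coeff_zero]; exact hr
  | succ n => rw [WittVector.teichmuller_coeff_pos p r _ (Nat.succ_pos n)]; exact a.zero_mem

theorem map_shift {S : Type*} [CommRing S] (f : R →+* S) (x : WittVector p R) :
    WittVector.map f (x.shift 1) = (WittVector.map f x).shift 1 := by
  ext n
  rw [WittVector.map_coeff, WittVector.shift_coeff, WittVector.shift_coeff, WittVector.map_coeff]

theorem shift_verschiebung (x : WittVector p R) : (WittVector.verschiebung x).shift 1 = x := by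
  ext k
  rw [WittVector.shift_coeff, add_comm, WittVector.verschiebung_coeff_succ]

/-! ### absolute statements: `a ^ 2 = 0`, `p a = 0` -/

section absolute

variable (a : Ideal R) (ha : a ^ 2 = ⊥)

include ha in
theorem coeff_add_of_sq_zero (x y : WittVector p R) (hx : x ∈ Jid p a) (hy : y ∈ Jid p a) (n : ℕ) :
    (x + y).coeff n = x.coeff n + y.coeff n := by
  have h := coeff_add_sub_mem a x y ((mem_Jid_iff a x).mp hx) ((mem_Jid_iff a y).mp hy) n
  rw [ha, Ideal.mem_bot] at h
  linear_combination h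

include ha in
theorem shift_add_of_sq_zero (x y : WittVector p R) (hx : x ∈ Jid p a) (hy : y ∈ Jid p a) :
    (x + y).shift 1 = x.shift 1 + y.shift 1 := by
  ext n
  rw [WittVector.shift_coeff, coeff_add_of_sq_zero a ha x y hx hy,
    coeff_add_of_sq_zero a ha _ _ (shift_mem_Jid a x hx) (shift_mem_Jid a y hy),
    WittVector.shift_coeff, WittVector.shift_coeff]

variable (hpa : Ideal.span {(p : R)} * a = ⊥)

include ha hpa in
theorem frobenius_eq_zero_of (x : WittVector p R) (hx : x ∈ Jid p a) :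
    WittVector.frobenius x = 0 := by
  rw [mem_Jid_iff] at hx
  ext n
  rw [WittVector.zero_coeff, WittVector.coeff_frobenius, WittVector.frobeniusPoly, map_add, map_mul,
    map_pow, MvPolynomial.aeval_X, MvPolynomial.aeval_C]
  have h1 : x.coeff n ^ p = 0 := by
    have : x.coeff n ^ p ∈ a ^ 2 :=
      Ideal.pow_le_pow_right hp.1.two_le (Ideal.pow_mem_pow (hx n) p)
    rwa [ha, Ideal.mem_bot] at this
  have h2 : (algebraMap ℤ R) (p : ℤ) * (MvPolynomial.aeval x.coeff) (WittVector.frobeniusPolyAux p n)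
      = 0 := by
    have hmem := WittNilFrob.aeval_mem_of_constantCoeff_eq_zero (WittVector.frobeniusPolyAux p n)
      (WittNilFrob.constantCoeff_frobeniusPolyAux n) a x.coeff hx
    have : (algebraMap ℤ R) (p : ℤ) * (MvPolynomial.aeval x.coeff)
        (WittVector.frobeniusPolyAux p n) ∈ Ideal.span {(p : R)} * a := by
      refine Ideal.mul_mem_mul ?_ hmem
      rw [eq_intCast, Int.cast_natCast]
      exact Ideal.subset_span rfl
    rwa [hpa, Ideal.mem_bot] at this
  rw [h1, h2, add_zero]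

include ha hpa in
theorem mul_eq_teichmuller_mul (c x : WittVector p R) (hx : x ∈ Jid p a) :
    c * x = x * WittVector.teichmuller p (c.coeff 0) := by
  set z := c - WittVector.teichmuller p (c.coeff 0) with hz
  have hz0 : z.coeff 0 = 0 := by
    have : WittVector.constantCoeff (p := p) (R := R) z = 0 := by
      rw [hz, map_sub]
      change c.coeff 0 - (WittVector.teichmuller p (c.coeff 0)).coeff 0 = 0
      rw [WittVector.teichmuller_coeff_zero, sub_self]
    exact this
  have hzV : z = WittVector.verschiebung (z.shift 1) := by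
    have := WittVector.eq_iterate_verschiebung (x := z) (n := 1) (by
      intro i hi
      have : i = 0 := by omega
      rw [this]; exact hz0)
    exact this
  have hc : c = z + WittVector.teichmuller p (c.coeff 0) := by rw [hz]; ring
  conv_lhs => rw [hc]
  rw [add_mul, hzV, ← WittVector.verschiebung_mul_frobenius, frobenius_eq_zero_of a ha hpa x hx,
    mul_zero, map_zero, zero_add, mul_comm]

include ha hpa in
theorem mul_coeff_of_sq_zero (c x : WittVector p R) (hx : x ∈ Jid p a) (n : ℕ) :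
    (c * x).coeff n = x.coeff n * c.coeff 0 ^ p ^ n := by
  rw [mul_eq_teichmuller_mul a ha hpa c x hx, mul_teichmuller_coeff]

include ha hpa in
theorem shift_mul_of_sq_zero (c x : WittVector p R) (hx : x ∈ Jid p a) :
    (c * x).shift 1 = WittVector.frobenius c * x.shift 1 := by
  have hx' := (mem_Jid_iff a x).mp hx
  ext n
  rw [WittVector.shift_coeff, mul_coeff_of_sq_zero a ha hpa c x hx,
    mul_coeff_of_sq_zero a ha hpa _ _ (shift_mem_Jid a x hx), WittVector.shift_coeff]
  -- `(σ c)_0 = c_0 ^ p + p * t`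
  have h0 : (WittVector.frobenius c).coeff 0 = c.coeff 0 ^ p +
      (p : R) * (MvPolynomial.aeval c.coeff) (WittVector.frobeniusPolyAux p 0) := by
    rw [WittVector.coeff_frobenius, WittVector.frobeniusPoly, map_add, map_mul, map_pow,
      MvPolynomial.aeval_X, MvPolynomial.aeval_C, eq_intCast, Int.cast_natCast]
  set t := (MvPolynomial.aeval c.coeff) (WittVector.frobeniusPolyAux p 0) with ht
  set u := c.coeff 0 ^ p with hu
  obtain ⟨s, hs⟩ := sub_dvd_pow_sub_pow (u + (p : R) * t) u (p ^ n)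
  have h1 : (u + (p : R) * t) ^ p ^ n = u ^ p ^ n + (p : R) * (t * s) := by
    have : (u + (p : R) * t) - u = (p : R) * t := by ring
    rw [this] at hs
    linear_combination hs
  have h2 : x.coeff (1 + n) * ((p : R) * (t * s)) = 0 := by
    have : (p : R) * (x.coeff (1 + n) * (t * s)) ∈ Ideal.span {(p : R)} * a :=
      Ideal.mul_mem_mul (Ideal.subset_span rfl) (Ideal.mul_mem_right _ _ (hx' _))
    rw [hpa, Ideal.mem_bot] at this
    linear_combination this
  rw [h0, h1, mul_add, h2, add_zero, hu, ← pow_mul, ← pow_succ']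
  congr 2
  rw [add_comm]

end absolute


/-! ### relative statements: `a ^ 2 + p a ⊆ b` -/

section relative

variable (a b : Ideal R) (hab : a ^ 2 ⊔ Ideal.span {(p : R)} * a ≤ b)

include hab in
theorem map_sq_eq_bot : (a.map (Ideal.Quotient.mk b)) ^ 2 = ⊥ := by
  rw [← Ideal.map_pow, Ideal.map_eq_bot_iff_le_ker, Ideal.mk_ker]
  exact le_trans le_sup_left hab

include hab in
theorem map_p_mul_eq_bot :
    Ideal.span {(p : R ⧸ b)} * a.map (Ideal.Quotient.mk b) = ⊥ := by
  have : Ideal.span {(p : R ⧸ b)} = (Ideal.span {(p : R)}).map (Ideal.Quotient.mk b) := by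
    rw [Ideal.map_span, Set.image_singleton, map_natCast]
  rw [this, ← Ideal.map_mul, Ideal.map_eq_bot_iff_le_ker, Ideal.mk_ker]
  exact le_trans le_sup_right hab

theorem map_mem_Jid (x : WittVector p R) (hx : x ∈ Jid p a) :
    WittVector.map (Ideal.Quotient.mk b) x ∈ Jid p (a.map (Ideal.Quotient.mk b)) := by
  rw [mem_Jid_iff] at hx ⊢
  intro n
  rw [WittVector.map_coeff]
  exact Ideal.mem_map_of_mem _ (hx n)

theorem mem_Jid_of_map_eq_zero (z : WittVector p R)
    (h : WittVector.map (Ideal.Quotient.mk b) z = 0) : z ∈ Jid p b := h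

include hab in
theorem frobenius_mem_Jid (x : WittVector p R) (hx : x ∈ Jid p a) :
    WittVector.frobenius x ∈ Jid p b := by
  apply mem_Jid_of_map_eq_zero
  rw [(WittVector.frobenius_isPoly p).map (Ideal.Quotient.mk b) x]
  exact frobenius_eq_zero_of _ (map_sq_eq_bot a b hab) (map_p_mul_eq_bot a b hab) _
    (map_mem_Jid a b x hx)

include hab in
theorem shift_add_sub_mem (x y : WittVector p R) (hx : x ∈ Jid p a) (hy : y ∈ Jid p a) :
    (x + y).shift 1 - x.shift 1 - y.shift 1 ∈ Jid p b := by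
  apply mem_Jid_of_map_eq_zero
  rw [map_sub, map_sub, map_shift, map_shift, map_shift, map_add,
    shift_add_of_sq_zero _ (map_sq_eq_bot a b hab) _ _ (map_mem_Jid a b x hx)
      (map_mem_Jid a b y hy)]
  ring

include hab in
theorem shift_mul_sub_mem (c x : WittVector p R) (hx : x ∈ Jid p a) :
    (c * x).shift 1 - WittVector.frobenius c * x.shift 1 ∈ Jid p b := by
  apply mem_Jid_of_map_eq_zero
  rw [map_sub, map_mul, map_shift, map_shift, map_mul,
    (WittVector.frobenius_isPoly p).map (Ideal.Quotient.mk b) c,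
    shift_mul_of_sq_zero _ (map_sq_eq_bot a b hab) (map_p_mul_eq_bot a b hab) _ _
      (map_mem_Jid a b x hx), sub_self]

include hab in
theorem verschiebung_mul_mem (w x : WittVector p R) (hx : x ∈ Jid p a) :
    WittVector.verschiebung w * x ∈ Jid p b := by
  rw [← WittVector.verschiebung_mul_frobenius]
  exact verschiebung_mem_Jid b _ (Ideal.mul_mem_left _ _ (frobenius_mem_Jid a b hab x hx))

include hab in
theorem p_mul_mem (x : WittVector p R) (hx : x ∈ Jid p a) :
    (p : WittVector p R) * x ∈ Jid p b := by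
  rw [mul_comm, ← WittVector.frobenius_verschiebung]
  exact frobenius_mem_Jid a b hab _ (verschiebung_mem_Jid a x hx)

end relative

/-! ### a chain of ideals -/

/-- the chain `a (a + p)^k` -/
noncomputable def chain (p : ℕ) (a : Ideal R) (k : ℕ) : Ideal R :=
  a * (a ⊔ Ideal.span {(p : R)}) ^ k

theorem chain_zero (a : Ideal R) : chain p a 0 = a := by
  rw [chain, pow_zero, mul_one]

theorem chain_step (a : Ideal R) (k : ℕ) :
    (chain p a k) ^ 2 ⊔ Ideal.span {(p : R)} * chain p a k ≤ chain p a (k + 1) := by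
  have hle : a ≤ a ⊔ Ideal.span {(p : R)} := le_sup_left
  have hple : Ideal.span {(p : R)} ≤ a ⊔ Ideal.span {(p : R)} := le_sup_right
  apply sup_le
  · rw [chain, chain, pow_two, pow_succ]
    calc a * (a ⊔ Ideal.span {(p : R)}) ^ k * (a * (a ⊔ Ideal.span {(p : R)}) ^ k)
        ≤ a * (a ⊔ Ideal.span {(p : R)}) ^ k * (a * ⊤) :=
          Ideal.mul_mono le_rfl (Ideal.mul_mono le_rfl le_top)
      _ = a * (a ⊔ Ideal.span {(p : R)}) ^ k * a := by rw [Ideal.mul_top]
      _ ≤ a * (a ⊔ Ideal.span {(p : R)}) ^ k * (a ⊔ Ideal.span {(p : R)}) :=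
          Ideal.mul_mono le_rfl hle
      _ = a * ((a ⊔ Ideal.span {(p : R)}) ^ k * (a ⊔ Ideal.span {(p : R)})) := mul_assoc _ _ _
  · rw [chain, chain, pow_succ]
    calc Ideal.span {(p : R)} * (a * (a ⊔ Ideal.span {(p : R)}) ^ k)
        = a * ((a ⊔ Ideal.span {(p : R)}) ^ k * Ideal.span {(p : R)}) := by
          rw [mul_comm (Ideal.span {(p : R)}), mul_assoc]
      _ ≤ a * ((a ⊔ Ideal.span {(p : R)}) ^ k * (a ⊔ Ideal.span {(p : R)})) :=
          Ideal.mul_mono le_rfl (Ideal.mul_mono le_rfl hple)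

theorem chain_eq_bot (a : Ideal R) (ha : IsNilpotent a) (hp' : IsNilpotent (p : R)) :
    ∃ k, chain p a k = ⊥ := by
  obtain ⟨n, hn⟩ := ha
  obtain ⟨m, hm⟩ := hp'
  refine ⟨n + m, ?_⟩
  rw [chain, eq_bot_iff]
  have h1 : (a ⊔ Ideal.span {(p : R)}) ^ (n + m) ≤ a ^ n ⊔ Ideal.span {(p : R)} ^ m :=
    Ideal.sup_pow_add_le_pow_sup_pow
  have h2 : Ideal.span {(p : R)} ^ m = ⊥ := by
    rw [Ideal.span_singleton_pow, hm]
    exact Ideal.span_singleton_eq_bot.mpr rfl
  rw [hn, h2] at h1
  calc a * (a ⊔ Ideal.span {(p : R)}) ^ (n + m) ≤ a * (0 ⊔ ⊥) := Ideal.mul_mono le_rfl h1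
    _ = ⊥ := by simp

end Groth.Agent.Lib.Helper60.WittSqZero
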