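import Mathlib
import Groth.Agent.Lib.Helper60.WittSqZero
import Groth.Agent.Lib.Helper60.LocalCrit

/-!
# Dieudonné modules over a perfect ring: `M/VM` is projective

helper60.
-/

set_option autoImplicit false
set_option maxHeartbeats 400000

namespace Groth.Agent.Lib.Helper60.DieuFibre

open Groth.Agent.Lib.Helper60.WittSqZero

section general

/-- torsion in projective modules, relative to a surjection of rings -/
theorem tors_of_projective {W A M : Type*} [CommRing W] [CommRing A] [Algebra W A]
    [AddCommGroup M] [Module W M] [Module A M] [IsScalarTower W A M] [Module.Projective A M]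
    (hsurj : Function.Surjective (algebraMap W A)) (J J' : Ideal W) (c : W)
    (hc : ∀ a : W, algebraMap W A (c * a) ∈ J.map (algebraMap W A) →
      algebraMap W A a ∈ J'.map (algebraMap W A))
    (z : M) (hz : c • z ∈ J • (⊤ : Submodule W M)) : z ∈ J' • (⊤ : Submodule W M) := by
  classical
  obtain ⟨s, hs⟩ := (Module.projective_def' (R := A) (P := M)).mp inferInstance
  have hcoord : ∀ u : M, u ∈ J • (⊤ : Submodule W M) → ∀ m : M, (s u) m ∈ J.map (algebraMap W A) := by
    intro u hu
    refine Submodule.smul_induction_on hu ?_ ?_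
    · intro j hj m' _ m
      rw [← algebraMap_smul A j m', map_smul, Finsupp.smul_apply, smul_eq_mul]
      exact Ideal.mul_mem_right _ _ (Ideal.mem_map_of_mem _ hj)
    · intro x y hx hy m
      rw [map_add, Finsupp.add_apply]
      exact add_mem (hx m) (hy m)
  have h1 : ∀ m : M, (s z) m ∈ J'.map (algebraMap W A) := by
    intro m
    obtain ⟨a, ha⟩ := hsurj ((s z) m)
    rw [← ha]
    apply hc
    have := hcoord _ hz m
    rw [← algebraMap_smul A c z, map_smul, Finsupp.smul_apply, smul_eq_mul] at this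
    rw [map_mul, ha]
    exact this
  have h2 : z = Finsupp.linearCombination A id (s z) := by
    have := congrArg (fun f => f z) hs
    simpa using this.symm
  rw [h2, Finsupp.linearCombination_apply, Finsupp.sum]
  apply Submodule.sum_mem
  intro m _
  obtain ⟨j, hj, hjm⟩ := (Ideal.mem_map_iff_of_surjective _ hsurj).mp (h1 m)
  rw [← hjm, id, algebraMap_smul]
  exact Submodule.smul_mem_smul hj Submodule.mem_top

/-- elements of `𝔪 • ⊤` in `M / I M` lift to `(comap 𝔪) • ⊤` -/
theorem exists_lift_of_mem_smul_top {R M : Type*} [CommRing R] [AddCommGroup M] [Module R M]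
    (I : Ideal R) (𝔪 : Ideal (R ⧸ I)) (y : M ⧸ (I • (⊤ : Submodule R M)))
    (hy : y ∈ 𝔪 • (⊤ : Submodule (R ⧸ I) (M ⧸ (I • (⊤ : Submodule R M))))) :
    ∃ z : M, z ∈ (𝔪.comap (Ideal.Quotient.mk I)) • (⊤ : Submodule R M) ∧
      (I • (⊤ : Submodule R M)).mkQ z = y := by
  refine Submodule.smul_induction_on hy ?_ ?_
  · intro a ha t _
    obtain ⟨a', rfl⟩ := Ideal.Quotient.mk_surjective a
    obtain ⟨t', rfl⟩ := Submodule.Quotient.mk_surjective _ t
    exact ⟨a' • t', Submodule.smul_mem_smul (Ideal.mem_comap.mpr ha) Submodule.mem_top, rfl⟩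
  · rintro x y ⟨zx, hzx, rfl⟩ ⟨zy, hzy, rfl⟩
    exact ⟨zx + zy, add_mem hzx hzy, map_add _ _ _⟩

/-- `M / I M` is projective over `R / I` -/
theorem projective_quotient_smul_top {R M : Type*} [CommRing R] [AddCommGroup M] [Module R M]
    [Module.Projective R M] (I : Ideal R) :
    Module.Projective (R ⧸ I) (M ⧸ (I • (⊤ : Submodule R M))) :=
  Module.Projective.of_equiv
    ((TensorProduct.quotTensorEquivQuotSMul M I).extendScalarsOfSurjective
      Ideal.Quotient.mk_surjective)

/-- `M / I' M` is projective over `W / I'` if `M` is projective over `W / I`, `I ≤ I'` -/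
theorem projective_quotient_smul_top' {W M : Type*} [CommRing W] [AddCommGroup M] [Module W M]
    (I I' : Ideal W) (hII' : I ≤ I') [Module (W ⧸ I) M] [IsScalarTower W (W ⧸ I) M]
    [Module.Projective (W ⧸ I) M] :
    Module.Projective (W ⧸ I') (M ⧸ (I' • (⊤ : Submodule W M))) := by
  classical
  obtain ⟨s, hs⟩ := (Module.projective_def' (R := W ⧸ I) (P := M)).mp inferInstance
  let φ : (W ⧸ I) →ₗ[W] (W ⧸ I') := (Ideal.Quotient.factorₐ W hII').toLinearMap
  have hφ : ∀ w : W, φ (Ideal.Quotient.mk I w) = Ideal.Quotient.mk I' w := fun w => rfl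
  let q : (M →₀ (W ⧸ I)) →ₗ[W] (M →₀ (W ⧸ I')) := Finsupp.mapRange.linearMap φ
  let sW : M →ₗ[W] (M →₀ (W ⧸ I)) := s.restrictScalars W
  have hkill : I' • (⊤ : Submodule W M) ≤ LinearMap.ker (q ∘ₗ sW) := by
    rw [Submodule.smul_le]
    intro r hr m _
    rw [LinearMap.mem_ker, map_smul]
    have : (Ideal.Quotient.mk I' r) • ((q ∘ₗ sW) m) = 0 := by
      rw [Ideal.Quotient.eq_zero_iff_mem.mpr hr, zero_smul]
    rw [← this, ← Ideal.Quotient.algebraMap_eq, algebraMap_smul]
  let i₀ : (M ⧸ (I' • (⊤ : Submodule W M))) →ₗ[W] (M →₀ (W ⧸ I')) :=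
    Submodule.liftQ _ (q ∘ₗ sW) hkill
  have hi₀ : ∀ x : M, i₀ (Submodule.Quotient.mk x) = q (s x) := fun x => rfl
  let i : (M ⧸ (I' • (⊤ : Submodule W M))) →ₗ[W ⧸ I'] (M →₀ (W ⧸ I')) :=
    LinearMap.extendScalarsOfSurjective Ideal.Quotient.mk_surjective i₀
  have hi : ∀ x, i x = i₀ x := fun x => rfl
  let π : (M →₀ (W ⧸ I')) →ₗ[W ⧸ I'] (M ⧸ (I' • (⊤ : Submodule W M))) :=
    Finsupp.linearCombination (W ⧸ I') (fun m : M => (Submodule.Quotient.mk m : M ⧸ (I' • (⊤ : Submodule W M))))
  have key : ∀ t : M →₀ (W ⧸ I), π (q t) =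
      Submodule.Quotient.mk (Finsupp.linearCombination (W ⧸ I) id t) := by
    intro t
    induction t using Finsupp.induction_linear with
    | zero => simp
    | add f g hf hg => rw [map_add, map_add, hf, hg, map_add, Submodule.Quotient.mk_add]
    | single m a =>
      obtain ⟨w, rfl⟩ := Ideal.Quotient.mk_surjective a
      have h1 : q (Finsupp.single m (Ideal.Quotient.mk I w)) =
          Finsupp.single m (Ideal.Quotient.mk I' w) := by
        show Finsupp.mapRange φ (map_zero φ) _ = _
        rw [Finsupp.mapRange_single, hφ]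
      rw [h1, Finsupp.linearCombination_single, Finsupp.linearCombination_single, id,
        ← Ideal.Quotient.algebraMap_eq, algebraMap_smul, ← Ideal.Quotient.algebraMap_eq,
        algebraMap_smul, Submodule.Quotient.mk_smul]
  have hsplit : π ∘ₗ i = LinearMap.id := by
    apply LinearMap.ext
    intro x
    obtain ⟨x, rfl⟩ := Submodule.Quotient.mk_surjective _ x
    have hx : Finsupp.linearCombination (W ⧸ I) id (s x) = x := by
      have := congrArg (fun f => f x) hs
      simpa using this
    rw [LinearMap.comp_apply, hi, hi₀, key, hx, LinearMap.id_apply]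
  haveI : Module.Free (W ⧸ I') (M →₀ (W ⧸ I')) := Module.Free.finsupp _ _ _
  haveI : Module.Projective (W ⧸ I') (M →₀ (W ⧸ I')) := Module.Projective.of_free
  exact Module.Projective.of_split i π hsplit

end general


section witt

variable (p : ℕ) [hp : Fact p.Prime]

/-- Witt vectors of a reduced ring of characteristic `p` have no `p`-torsion. -/
theorem eq_zero_of_p_mul' {R : Type*} [CommRing R] [IsReduced R] [CharP R p]
    (x : WittVector p R) (h : (p : WittVector p R) * x = 0) : x = 0 := by
  rw [mul_comm, ← WittVector.verschiebung_frobenius] at h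
  have h1 : WittVector.frobenius x = 0 :=
    (WittVector.verschiebung_injective p R) (h.trans (map_zero _).symm)
  rw [WittVector.frobenius_eq_map_frobenius] at h1
  exact WittVector.map_injective _ (frobenius_inj R p) (h1.trans (map_zero _).symm)

variable {k : Type*} [CommRing k] [CharP k p]

theorem mem_Jid_of_p_mul_mem (𝔞 : Ideal k) [h𝔞 : 𝔞.IsPrime] (x : WittVector p k)
    (h : (p : WittVector p k) * x ∈ Jid p 𝔞) : x ∈ Jid p 𝔞 := by
  have hp0 : ((p : ℕ) : k ⧸ 𝔞) = 0 := by
    rw [← map_natCast (Ideal.Quotient.mk 𝔞), CharP.cast_eq_zero, map_zero]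
  haveI : CharP (k ⧸ 𝔞) p := (CharP.charP_iff_prime_eq_zero hp.1).mpr hp0
  change WittVector.map (Ideal.Quotient.mk 𝔞) x = 0
  apply eq_zero_of_p_mul' p
  have h' : WittVector.map (Ideal.Quotient.mk 𝔞) ((p : WittVector p k) * x) = 0 := h
  rw [map_mul, map_natCast] at h'
  exact h'

theorem frobenius_mem_Jid_charP (𝔞 : Ideal k) (x : WittVector p k) (hx : x ∈ Jid p 𝔞) :
    WittVector.frobenius x ∈ Jid p 𝔞 := by
  rw [mem_Jid_iff] at hx ⊢
  intro n
  rw [WittVector.coeff_frobenius_charP]
  exact Ideal.pow_mem_of_mem _ (hx n) _ hp.1.pos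

/-- Witt vectors with zeroth component in `𝔞` -/
noncomputable def nn (𝔞 : Ideal k) : Ideal (WittVector p k) :=
  𝔞.comap (WittVector.constantCoeff : WittVector p k →+* k)

omit [CharP k p] in
theorem mem_nn_iff (𝔞 : Ideal k) (x : WittVector p k) : x ∈ nn p 𝔞 ↔ x.coeff 0 ∈ 𝔞 := Iff.rfl

theorem p_mem_nn (𝔞 : Ideal k) : (p : WittVector p k) ∈ nn p 𝔞 := by
  rw [nn, Ideal.mem_comap, map_natCast, CharP.cast_eq_zero]
  exact zero_mem _

omit [CharP k p] in
theorem Jid_le_nn (𝔞 : Ideal k) : Jid p 𝔞 ≤ nn p 𝔞 :=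
  fun x hx => (mem_Jid_iff 𝔞 x).mp hx 0

variable [PerfectRing k p]

theorem verschiebung_eq (x : WittVector p k) :
    WittVector.verschiebung x =
      (p : WittVector p k) * (WittVector.frobeniusEquiv p k).symm x := by
  have h : WittVector.frobenius ((WittVector.frobeniusEquiv p k).symm x) = x :=
    (WittVector.frobeniusEquiv p k).apply_symm_apply x
  conv_lhs => rw [← h]
  rw [WittVector.verschiebung_frobenius, mul_comm]

theorem exists_verschiebung_of_coeff_zero (x : WittVector p k) (hx : x.coeff 0 = 0) :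
    ∃ w : WittVector p k, x = (p : WittVector p k) * w := by
  have := WittVector.eq_iterate_verschiebung (x := x) (n := 1) (by
    intro i hi
    obtain rfl : i = 0 := by omega
    exact hx)
  rw [Function.iterate_one, verschiebung_eq] at this
  exact ⟨_, this⟩

theorem exists_decomp (𝔞 : Ideal k) (x : WittVector p k) (hx : x ∈ nn p 𝔞) :
    ∃ j ∈ Jid p 𝔞, ∃ w : WittVector p k, x = j + (p : WittVector p k) * w := by
  refine ⟨WittVector.teichmuller p (x.coeff 0), teichmuller_mem_Jid 𝔞 _ hx, ?_⟩
  have h0 : (x - WittVector.teichmuller p (x.coeff 0)).coeff 0 = 0 := by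
    have : WittVector.constantCoeff (x - WittVector.teichmuller p (x.coeff 0)) = 0 := by
      rw [map_sub]
      simp [WittVector.constantCoeff_apply, WittVector.teichmuller_coeff_zero]
    exact this
  obtain ⟨w, hw⟩ := exists_verschiebung_of_coeff_zero p _ h0
  exact ⟨w, by rw [← hw]; ring⟩

theorem symm_mem_nn (𝔞 : Ideal k) (h𝔞 : 𝔞.IsRadical) (x : WittVector p k) (hx : x ∈ nn p 𝔞) :
    (WittVector.frobeniusEquiv p k).symm x ∈ nn p 𝔞 := by
  rw [mem_nn_iff] at hx ⊢
  apply h𝔞
  refine ⟨p, ?_⟩
  rw [← WittVector.coeff_frobenius_charP]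
  have h : WittVector.frobenius ((WittVector.frobeniusEquiv p k).symm x) = x :=
    (WittVector.frobeniusEquiv p k).apply_symm_apply x
  rw [h]
  exact hx

variable {M : Type*} [AddCommGroup M] [Module (WittVector p k) M]

theorem nn_smul_top_le (𝔞 : Ideal k) :
    nn p 𝔞 • (⊤ : Submodule (WittVector p k) M) ≤
      Jid p 𝔞 • (⊤ : Submodule (WittVector p k) M) ⊔
        Ideal.span {(p : WittVector p k)} • (⊤ : Submodule (WittVector p k) M) := by
  rw [Submodule.smul_le]
  intro r hr m _
  obtain ⟨j, hj, w, rfl⟩ := exists_decomp p 𝔞 r hr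
  rw [add_smul]
  exact Submodule.add_mem_sup (Submodule.smul_mem_smul hj Submodule.mem_top)
    (Submodule.smul_mem_smul (Ideal.mul_mem_right _ _ (Ideal.subset_span rfl)) Submodule.mem_top)

omit [CharP k p] [PerfectRing k p] in
theorem mem_span_p_smul_top (x : M) :
    x ∈ Ideal.span {(p : WittVector p k)} • (⊤ : Submodule (WittVector p k) M) ↔
      ∃ y : M, (p : WittVector p k) • y = x := by
  rw [Submodule.ideal_span_singleton_smul, Submodule.mem_smul_pointwise_iff_exists]
  simp

/-- fibrewise exactness -/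
theorem fibre_exact (𝔞 : Ideal k)
    (F : M →ₛₗ[(WittVector.frobenius : WittVector p k →+* WittVector p k)] M)
    (V : M →ₛₗ[((WittVector.frobeniusEquiv p k).symm : WittVector p k →+* WittVector p k)] M)
    (hFV : ∀ m : M, F (V m) = (p : WittVector p k) • m)
    (hT : ∀ z : M, (p : WittVector p k) • z ∈ Jid p 𝔞 • (⊤ : Submodule (WittVector p k) M) →
      z ∈ nn p 𝔞 • (⊤ : Submodule (WittVector p k) M))
    (x : M) (hx : V x ∈ nn p 𝔞 • (⊤ : Submodule (WittVector p k) M)) :
    ∃ y : M, x - F y ∈ nn p 𝔞 • (⊤ : Submodule (WittVector p k) M) := by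
  obtain ⟨u, hu, v, hv, huv⟩ := Submodule.mem_sup.mp (nn_smul_top_le p 𝔞 hx)
  obtain ⟨y, rfl⟩ := (mem_span_p_smul_top p v).mp hv
  refine ⟨y, hT _ ?_⟩
  have hFu : F u ∈ Jid p 𝔞 • (⊤ : Submodule (WittVector p k) M) := by
    refine Submodule.smul_induction_on hu ?_ ?_
    · intro j hj m _
      rw [map_smulₛₗ]
      exact Submodule.smul_mem_smul (frobenius_mem_Jid_charP p 𝔞 j hj) Submodule.mem_top
    · intro a b ha hb
      rw [map_add]
      exact add_mem ha hb
  have : (p : WittVector p k) • (x - F y) = F u := by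
    rw [smul_sub, ← hFV x, ← huv, map_add, map_smulₛₗ, map_natCast]
    abel
  rw [this]
  exact hFu

/-- the main theorem: `M/VM` is projective -/
theorem projective_coker [Module.Finite (WittVector p k) M]
    [Module.Projective (WittVector p k ⧸ Ideal.span {(p : WittVector p k)})
      (M ⧸ (Ideal.span {(p : WittVector p k)} • (⊤ : Submodule (WittVector p k) M)))]
    (F : M →ₛₗ[(WittVector.frobenius : WittVector p k →+* WittVector p k)] M)
    (V : M →ₛₗ[((WittVector.frobeniusEquiv p k).symm : WittVector p k →+* WittVector p k)] M)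
    (hFV : ∀ m : M, F (V m) = (p : WittVector p k) • m)
    (hVF : ∀ m : M, V (F m) = (p : WittVector p k) • m)
    (hT : ∀ (𝔞 : Ideal k), 𝔞.IsPrime → ∀ z : M,
      (p : WittVector p k) • z ∈ Jid p 𝔞 • (⊤ : Submodule (WittVector p k) M) →
        z ∈ nn p 𝔞 • (⊤ : Submodule (WittVector p k) M)) :
    Module.Projective (WittVector p k ⧸ Ideal.span {(p : WittVector p k)})
      ((M ⧸ (Ideal.span {(p : WittVector p k)} • (⊤ : Submodule (WittVector p k) M))) ⧸
        Submodule.span (WittVector p k ⧸ Ideal.span {(p : WittVector p k)})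
          (Set.range fun m : M =>
            (Ideal.span {(p : WittVector p k)} • (⊤ : Submodule (WittVector p k) M)).mkQ (V m))) := by
  classical
  set Ip : Ideal (WittVector p k) := Ideal.span {(p : WittVector p k)} with hIp
  set pM : Submodule (WittVector p k) M := Ip • (⊤ : Submodule (WittVector p k) M) with hpM
  have hmk_smul : ∀ (w : WittVector p k) (y : M),
      pM.mkQ (w • y) = Ideal.Quotient.mk Ip w • pM.mkQ y := fun w y => rfl
  have hVsmul : ∀ (w : WittVector p k) (y : M),
      V (w • y) = (WittVector.frobeniusEquiv p k).symm w • V y := fun w y => map_smulₛₗ V w y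
  apply LocalCrit.projective_quotient
  · -- finitely generated
    obtain ⟨s, hs⟩ := (Module.Finite.fg_top : (⊤ : Submodule (WittVector p k) M).FG)
    refine ⟨s.image (fun m => pM.mkQ (V m)), ?_⟩
    apply le_antisymm
    · apply Submodule.span_mono
      rw [Finset.coe_image]
      rintro _ ⟨m, _, rfl⟩
      exact ⟨m, rfl⟩
    · rw [Submodule.span_le]
      rintro _ ⟨m, rfl⟩
      have hm : m ∈ Submodule.span (WittVector p k) (s : Set M) := hs ▸ Submodule.mem_top
      induction hm using Submodule.span_induction with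
      | mem x hx =>
        apply Submodule.subset_span
        rw [Finset.coe_image]
        exact ⟨x, hx, rfl⟩
      | zero => simp
      | add x y _ _ hx hy =>
        simp only [map_add]
        exact add_mem hx hy
      | smul a x _ hx =>
        have h1 : pM.mkQ (V (a • x)) =
            Ideal.Quotient.mk Ip ((WittVector.frobeniusEquiv p k).symm a) • pM.mkQ (V x) := by
          rw [hVsmul, hmk_smul]
        change pM.mkQ (V (a • x)) ∈ _
        rw [h1]
        exact Submodule.smul_mem _ _ hx
  · intro 𝔪 h𝔪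
    rintro y ⟨hyY, hy𝔪⟩
    -- Step 1
    have hrange : ∀ y ∈ Submodule.span (WittVector p k ⧸ Ip)
        (Set.range fun m : M => pM.mkQ (V m)), ∃ x : M, pM.mkQ (V x) = y := by
      intro y hy
      induction hy using Submodule.span_induction with
      | mem x hx => exact hx
      | zero => exact ⟨0, by simp⟩
      | add a b _ _ ha hb =>
        obtain ⟨xa, rfl⟩ := ha
        obtain ⟨xb, rfl⟩ := hb
        exact ⟨xa + xb, by simp only [map_add]⟩
      | smul a b _ hb =>
        obtain ⟨xb, rfl⟩ := hb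
        obtain ⟨w, rfl⟩ := Ideal.Quotient.mk_surjective a
        refine ⟨WittVector.frobenius w • xb, ?_⟩
        rw [hVsmul, ← hmk_smul]
        congr 2
        exact (WittVector.frobeniusEquiv p k).symm_apply_apply w
    obtain ⟨x, rfl⟩ := hrange y hyY
    -- Step 2
    set 𝔫 : Ideal (WittVector p k) := 𝔪.comap (Ideal.Quotient.mk Ip) with h𝔫def
    haveI h𝔫prime : 𝔫.IsPrime := Ideal.comap_isPrime _ _
    obtain ⟨z, hz, hzy⟩ := exists_lift_of_mem_smul_top Ip 𝔪 _ hy𝔪
    have hp𝔫 : (p : WittVector p k) ∈ 𝔫 := by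
      rw [h𝔫def, Ideal.mem_comap]
      have : Ideal.Quotient.mk Ip (p : WittVector p k) = 0 :=
        Ideal.Quotient.eq_zero_iff_mem.mpr (Ideal.subset_span rfl)
      rw [this]
      exact zero_mem _
    have hIp𝔫 : Ip ≤ 𝔫 := by
      rw [hIp, Ideal.span_le]
      rintro _ rfl
      exact hp𝔫
    have hVx : V x ∈ 𝔫 • (⊤ : Submodule (WittVector p k) M) := by
      have h1 : V x - z ∈ pM := by
        rw [← Submodule.Quotient.mk_eq_zero, Submodule.Quotient.mk_sub, sub_eq_zero]
        exact hzy.symm
      have h2 : V x = z + (V x - z) := by abel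
      rw [h2]
      exact add_mem hz (Submodule.smul_mono_left hIp𝔫 h1)
    -- the ideal of k
    set 𝔞 : Ideal k := 𝔫.map (WittVector.constantCoeff : WittVector p k →+* k) with h𝔞def
    have hsurj : Function.Surjective (WittVector.constantCoeff : WittVector p k →+* k) :=
      WittVector.constantCoeff_surjective p
    have hker : RingHom.ker (WittVector.constantCoeff : WittVector p k →+* k) ≤ 𝔫 := by
      intro w hw
      obtain ⟨w', rfl⟩ := exists_verschiebung_of_coeff_zero p w hw
      exact Ideal.mul_mem_right _ _ hp𝔫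
    have h𝔫eq : 𝔫 = nn p 𝔞 := by
      rw [nn, h𝔞def, Ideal.comap_map_of_surjective _ hsurj]
      exact (sup_eq_left.mpr hker).symm
    have h𝔞prime : 𝔞.IsPrime := Ideal.map_isPrime_of_surjective hsurj hker
    rw [h𝔫eq] at hVx
    obtain ⟨y', hy'⟩ := fibre_exact p 𝔞 F V hFV (hT 𝔞 h𝔞prime) x hVx
    have hmkV : pM.mkQ (V x) = pM.mkQ (V (x - F y')) := by
      rw [map_sub V, hVF, map_sub]
      have : pM.mkQ ((p : WittVector p k) • y') = 0 := by
        rw [Submodule.mkQ_apply, Submodule.Quotient.mk_eq_zero]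
        exact Submodule.smul_mem_smul (Ideal.subset_span rfl) Submodule.mem_top
      rw [this, sub_zero]
    rw [hmkV]
    refine Submodule.smul_induction_on hy' ?_ ?_
    · intro r hr m _
      rw [hVsmul, hmk_smul]
      apply Submodule.smul_mem_smul
      · have := symm_mem_nn p 𝔞 h𝔞prime.isRadical r hr
        rw [← h𝔫eq] at this
        exact this
      · exact Submodule.subset_span ⟨m, rfl⟩
    · intro a b ha hb
      simp only [map_add]
      exact add_mem ha hb

end witt

end Groth.Agent.Lib.Helper60.DieuFibre
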