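import Groth.Agent.Lib.Helper43.PosetDim
import Groth.Agent.Lib.Helper43.PtCatLocal
import Mathlib.Topology.NoetherianSpace

/-!
# A Noetherian sober catenary space locally has a dimension function (Stacks 02IC)
-/

set_option autoImplicit false
universe u

namespace Groth.Agent.Lib.Helper60.DimFun

open TopologicalSpace Groth.Agent.Lib.Helper43.PosetCodim Groth.Agent.Lib.Helper43.PosetDim
open Groth.Agent.Lib.Helper43

section Transport

variable {A B : Type*} [TopologicalSpace A] [TopologicalSpace B]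

lemma isDimensionFunction_comp (φ : A → B) (hinj : Function.Injective φ)
    (hsurj : Function.Surjective φ) (hsp : ∀ a a' : A, a ⤳ a' ↔ φ a ⤳ φ a')
    (δ : B → ℤ) (hδ : PtTop.IsDimensionFunction δ) : PtTop.IsDimensionFunction (δ ∘ φ) := by
  refine ⟨fun x y h hne => hδ.1 _ _ ((hsp _ _).mp h) (fun e => hne (hinj e)), ?_⟩
  rintro x y ⟨h1, h2, h3⟩
  refine hδ.2 _ _ ⟨(hsp _ _).mp h1, fun e => h2 (hinj e), ?_⟩
  intro z' hz1 hz2
  obtain ⟨z, rfl⟩ := hsurj z'
  rcases h3 z ((hsp _ _).mpr hz1) ((hsp _ _).mpr hz2) with e | e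
  · left; rw [e]
  · right; rw [e]

end Transport

variable {X : Type u} [TopologicalSpace X]

lemma exists_finite_cover [NoetherianSpace X] (C : Set X) (hC : IsClosed C) :
    ∃ T : Set (IrreducibleCloseds X), T.Finite ∧ C = ⋃ t ∈ T, (t : Set X) := by
  obtain ⟨S, hSf, hSc, hSi, hSU⟩ := NoetherianSpace.exists_finite_set_isClosed_irreducible hC
  refine ⟨{t | (t : Set X) ∈ S}, ?_, ?_⟩
  · exact hSf.preimage (fun a _ b _ h => IrreducibleCloseds.ext h)
  · rw [hSU]
    ext y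
    simp only [Set.mem_sUnion, Set.mem_iUnion, exists_prop]
    constructor
    · rintro ⟨s, hs, hy⟩
      exact ⟨⟨s, hSi s hs, hSc s hs⟩, hs, hy⟩
    · rintro ⟨t, ht, hy⟩
      exact ⟨_, ht, hy⟩

variable [QuasiSober X] [T0Space X]

lemma cl_le_iff (y : X) (Z : IrreducibleCloseds X) : cl y ≤ Z ↔ y ∈ (Z : Set X) := by
  rw [← SetLike.coe_subset_coe]
  change closure {y} ⊆ (Z : Set X) ↔ _
  rw [Z.isClosed.closure_subset_iff, Set.singleton_subset_iff]

/-- integer valued codimension -/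
noncomputable def c (a b : IrreducibleCloseds X) : ℤ := ((cP a b).toNat : ℤ)

lemma one_le_cP {a b : IrreducibleCloseds X} (h : a < b) : 1 ≤ cP a b := by
  have := le_cP (a := a) (b := b)
    ((RelSeries.singleton _ a).snoc b (by simpa using h) : LTSeries _) (by simp) (by simp)
  simpa [RelSeries.snoc] using this

section Cat

variable (hfin : ∀ Y Y' : IrreducibleCloseds X, Y ≤ Y' → cP Y Y' ≠ ⊤)
  (hadd : ∀ Y Y' Y'' : IrreducibleCloseds X, Y ≤ Y' → Y' ≤ Y'' → cP Y Y'' = cP Y Y' + cP Y' Y'')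

include hfin hadd in
lemma c_add {a b d : IrreducibleCloseds X} (h1 : a ≤ b) (h2 : b ≤ d) : c a d = c a b + c b d := by
  unfold c
  have e1 := ENat.natCast_toNat (hfin a b h1)
  have e2 := ENat.natCast_toNat (hfin b d h2)
  have e3 := ENat.natCast_toNat (hfin a d (h1.trans h2))
  have := hadd a b d h1 h2
  rw [← e1, ← e2, ← e3] at this
  have : (cP a d).toNat = (cP a b).toNat + (cP b d).toNat := by exact_mod_cast this
  rw [this]; push_cast; rfl

include hfin in
lemma c_pos {a b : IrreducibleCloseds X} (h : a < b) : 0 < c a b := by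
  unfold c
  have e1 := ENat.natCast_toNat (hfin a b h.le)
  have := one_le_cP h
  rw [← e1] at this
  have : 1 ≤ (cP a b).toNat := by exact_mod_cast this
  omega

lemma c_covBy {a b : IrreducibleCloseds X} (h : a ⋖ b) : c a b = 1 := by
  unfold c
  rw [cP_covBy h]; rfl

end Cat

theorem exists_dimFun [NoetherianSpace X] (hX : PtTop.IsCatenarySpace X) (x : X) :
    ∃ U : Opens X, x ∈ U ∧ ∃ δ : U → ℤ, PtTop.IsDimensionFunction δ := by
  obtain ⟨hfin, hadd⟩ := PtCodim.isCatenarySpace_iff_additive.mp hX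
  obtain ⟨T₀, hT₀f, hT₀⟩ := exists_finite_cover (Set.univ : Set X) isClosed_univ
  choose T₁ hT₁f hT₁ using fun (Z Z' : IrreducibleCloseds X) =>
    exists_finite_cover ((Z : Set X) ∩ Z') (Z.isClosed.inter Z'.isClosed)
  set All : Set (IrreducibleCloseds X) := T₀ ∪ ⋃ Z ∈ T₀, ⋃ Z' ∈ T₀, T₁ Z Z' with hAll
  have hAllf : All.Finite :=
    hT₀f.union (hT₀f.biUnion fun Z _ => hT₀f.biUnion fun Z' _ => hT₁f Z Z')
  set Bad : Set (IrreducibleCloseds X) := {t ∈ All | x ∉ (t : Set X)} with hBad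
  have hBadf : Bad.Finite := hAllf.subset (Set.sep_subset _ _)
  set B : Set X := ⋃ t ∈ Bad, (t : Set X) with hBdef
  have hB : IsClosed B := hBadf.isClosed_biUnion fun t _ => t.isClosed
  let U : Opens X := ⟨Bᶜ, hB.isOpen_compl⟩
  have hxU : x ∈ U := by
    change x ∉ B
    simp only [hBdef, Set.mem_iUnion, not_exists]
    intro t ht hx
    exact ht.2 hx
  -- (a)
  have ha : ∀ y : X, ∃ Z ∈ T₀, y ∈ (Z : Set X) := by
    intro y
    have : y ∈ (Set.univ : Set X) := Set.mem_univ y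
    rw [hT₀] at this
    simpa only [Set.mem_iUnion, exists_prop] using this
  -- (b)
  have hb : ∀ y ∈ U, ∀ t ∈ All, y ∈ (t : Set X) → x ∈ (t : Set X) := by
    intro y hy t ht hyt
    by_contra hx
    apply hy
    simp only [hBdef, Set.mem_iUnion, exists_prop]
    exact ⟨t, ⟨ht, hx⟩, hyt⟩
  -- (c)
  have hc : ∀ y : X, ∀ Z ∈ T₀, ∀ Z' ∈ T₀, y ∈ (Z : Set X) → y ∈ (Z' : Set X) →
      ∃ W ∈ All, y ∈ (W : Set X) ∧ W ≤ Z ∧ W ≤ Z' := by
    intro y Z hZ Z' hZ' hyZ hyZ'
    have : y ∈ (Z : Set X) ∩ Z' := ⟨hyZ, hyZ'⟩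
    have hsub : ∀ W ∈ T₁ Z Z', (W : Set X) ⊆ (Z : Set X) ∩ Z' := by
      intro W hW
      rw [hT₁ Z Z']
      exact Set.subset_biUnion_of_mem (u := fun t : IrreducibleCloseds X => (t : Set X)) hW
    rw [hT₁ Z Z'] at this
    simp only [Set.mem_iUnion, exists_prop] at this
    obtain ⟨W, hW, hyW⟩ := this
    refine ⟨W, ?_, hyW, ?_, ?_⟩
    · right
      simp only [Set.mem_iUnion, exists_prop]
      exact ⟨Z, hZ, Z', hZ', hW⟩
    · exact SetLike.coe_subset_coe.mp ((hsub W hW).trans Set.inter_subset_left)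
    · exact SetLike.coe_subset_coe.mp ((hsub W hW).trans Set.inter_subset_right)
  -- (d) independence
  have hd : ∀ y ∈ U, ∀ Z ∈ T₀, ∀ Z' ∈ T₀, y ∈ (Z : Set X) → y ∈ (Z' : Set X) →
      c (cl x) Z - c (cl y) Z = c (cl x) Z' - c (cl y) Z' := by
    intro y hy Z hZ Z' hZ' hyZ hyZ'
    obtain ⟨W, hW, hyW, hWZ, hWZ'⟩ := hc y Z hZ Z' hZ' hyZ hyZ'
    have hxW := hb y hy W hW hyW
    have e1 := c_add hfin hadd ((cl_le_iff x W).mpr hxW) hWZ
    have e2 := c_add hfin hadd ((cl_le_iff y W).mpr hyW) hWZ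
    have e3 := c_add hfin hadd ((cl_le_iff x W).mpr hxW) hWZ'
    have e4 := c_add hfin hadd ((cl_le_iff y W).mpr hyW) hWZ'
    omega
  choose Zc hZc hZcmem using ha
  refine ⟨U, hxU, fun y => c (cl x) (Zc y.1) - c (cl y.1) (Zc y.1), ?_⟩
  -- key: difference formula
  have key : ∀ y y' : U, y ⤳ y' →
      (c (cl x) (Zc y.1) - c (cl y.1) (Zc y.1)) - (c (cl x) (Zc y'.1) - c (cl y'.1) (Zc y'.1))
        = c (cl y'.1) (cl y.1) := by
    intro y y' h
    have h' : y.1 ⤳ y'.1 := (subtype_specializes_iff _ _).mp h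
    have hy'Z : y'.1 ∈ (Zc y.1 : Set X) := h'.mem_closed (Zc y.1).isClosed (hZcmem y.1)
    have e1 := hd y'.1 y'.2 (Zc y'.1) (hZc _) (Zc y.1) (hZc _) (hZcmem _) hy'Z
    have e2 := c_add hfin hadd (cl_le_cl.mpr h') ((cl_le_iff y.1 _).mpr (hZcmem y.1))
    omega
  constructor
  · intro y y' h hne
    have h' : y.1 ⤳ y'.1 := (subtype_specializes_iff _ _).mp h
    have hlt : cl y'.1 < cl y.1 := by
      refine lt_of_le_of_ne (cl_le_cl.mpr h') ?_
      intro e
      apply hne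
      apply Subtype.ext
      rw [← gp_cl y.1, ← gp_cl y'.1, e]
    have := c_pos hfin hlt
    have := key y y' h
    change c (cl x) (Zc y'.1) - c (cl y'.1) (Zc y'.1) < c (cl x) (Zc y.1) - c (cl y.1) (Zc y.1)
    omega
  · rintro y y' ⟨h, hne, himm⟩
    have h' : y.1 ⤳ y'.1 := (subtype_specializes_iff _ _).mp h
    have hlt : cl y'.1 < cl y.1 := by
      refine lt_of_le_of_ne (cl_le_cl.mpr h') ?_
      intro e
      apply hne
      apply Subtype.ext
      rw [← gp_cl y.1, ← gp_cl y'.1, e]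
    have hcov : cl y'.1 ⋖ cl y.1 := by
      refine ⟨hlt, ?_⟩
      intro Z hZ1 hZ2
      have s1 : y.1 ⤳ gp Z := by
        rw [← cl_le_cl, cl_gp]; exact hZ2.le
      have s2 : gp Z ⤳ y'.1 := by
        rw [← cl_le_cl, cl_gp]; exact hZ1.le
      have hzU : gp Z ∈ U := s2.mem_open U.isOpen y'.2
      rcases himm ⟨gp Z, hzU⟩ ((subtype_specializes_iff _ _).mpr s1) ((subtype_specializes_iff _ _).mpr s2)
        with e | e
      · have : gp Z = y.1 := congrArg Subtype.val e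
        rw [← cl_gp Z, this] at hZ2
        exact lt_irrefl _ hZ2
      · have : gp Z = y'.1 := congrArg Subtype.val e
        rw [← cl_gp Z, this] at hZ1
        exact lt_irrefl _ hZ1
    have := c_covBy hcov
    have := key y y' h
    change c (cl x) (Zc y.1) - c (cl y.1) (Zc y.1) = c (cl x) (Zc y'.1) - c (cl y'.1) (Zc y'.1) + 1
    omega

end Groth.Agent.Lib.Helper60.DimFun
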