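import Mathlib
import Groth.Prelude.Def_Disp2

/-!
# Witt vectors over a ring in which `p` is nilpotent (helper60)

* `isUnit_of_truncate`: a Witt vector all of whose truncations are units is a unit.
* `pow_mem_ker`: if `p^e = 0` in `R` then `p^(e*n)` dies in `W_n(R)`.
* `isUnit_one_add_p_mul`: `1 + p w` is a unit of `W(R)` when `p` is nilpotent in `R`.
* `p_mem_of_isMaximal`, `verschiebung_mem_of_isMaximal`: every maximal ideal of `W(R)` contains
  `p` and the image of `V`.
* `frobenius_sub_pow_mem`: `F x - x^p ∈ I_R + pW` (any ring `R`).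
* `comap_frobenius_eq`: `F⁻¹(𝔪) = 𝔪` for every maximal ideal `𝔪` of `W(R)`.
-/

set_option autoImplicit false
set_option maxHeartbeats 400000

universe u

namespace Groth.Agent.Lib.Helper60.WittJac

variable {p : ℕ} [Fact p.Prime] {R : Type u} [CommRing R]

local notation "σ" => (WittVector.frobenius : WittVector p R →+* WittVector p R)

theorem isUnit_of_truncate_aux (a : WittVector p R)
    (h : ∀ k, IsUnit (WittVector.truncate (p := p) (R := R) k a))
    (S : Type u) [CommRing S] [Algebra (WittVector p R) S] [IsLocalization.Away a S] :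
    IsUnit a := by
  have hex : ∀ k : ℕ, ∃ f : S →+* TruncatedWittVector p k R,
      f.comp (algebraMap (WittVector p R) S) = WittVector.truncate k := by
    intro k
    exact ⟨IsLocalization.Away.lift a (h k), IsLocalization.Away.lift_comp a (h k)⟩
  choose f hf using hex
  have f_compat : ∀ (k₁ k₂ : ℕ) (hk : k₁ ≤ k₂),
      (TruncatedWittVector.truncate hk).comp (f k₂) = f k₁ := by
    intro k₁ k₂ hk
    apply IsLocalization.ringHom_ext (Submonoid.powers a)
    rw [RingHom.comp_assoc, hf, hf, TruncatedWittVector.truncate_comp_wittVector_truncate]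
  have hg : (WittVector.lift f f_compat).comp (algebraMap (WittVector p R) S) = RingHom.id _ := by
    apply WittVector.hom_ext
    intro k
    rw [← RingHom.comp_assoc, WittVector.truncate_comp_lift, hf, RingHom.comp_id]
  have ha : a = (WittVector.lift f f_compat) (algebraMap (WittVector p R) S a) := by
    have := congrArg (fun φ : WittVector p R →+* WittVector p R => φ a) hg
    exact this.symm
  rw [ha]
  exact (IsLocalization.Away.algebraMap_isUnit a).map (WittVector.lift f f_compat)

/-- A Witt vector all of whose truncations are units is a unit. -/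
theorem isUnit_of_truncate (a : WittVector p R)
    (h : ∀ k, IsUnit (WittVector.truncate (p := p) (R := R) k a)) : IsUnit a :=
  isUnit_of_truncate_aux a h (Localization.Away a)

/-- If `p^e = 0` in `R` then `p^e • I_m ⊆ I_{m+1}`. -/
theorem pow_mul_mem_ker (e : ℕ) (he : (p : R) ^ e = 0) (m : ℕ) (x : WittVector p R)
    (hx : x ∈ RingHom.ker (WittVector.truncate (p := p) (R := R) m)) :
    (p : WittVector p R) ^ e * x ∈ RingHom.ker (WittVector.truncate (p := p) (R := R) (m + 1)) := by
  rw [WittVector.mem_ker_truncate] at hx ⊢
  have hx' := WittVector.eq_iterate_verschiebung hx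
  set y := x.shift m
  have h1 : (p : WittVector p R) ^ e * x
      = (WittVector.verschiebung^[m]) (y * (p : WittVector p R) ^ e) := by
    rw [hx', mul_comm, WittVector.iterate_verschiebung_mul_left]
    congr 2
    clear hx' hx
    induction m with
    | zero => rfl
    | succ m ih => rw [Function.iterate_succ_apply', ih, map_pow, map_natCast]
  intro i hi
  rw [h1]
  rcases Nat.lt_succ_iff_lt_or_eq.mp hi with h | h
  · exact WittVector.iterate_verschiebung_coeff_eq_zero _ h
  · subst h
    have := WittVector.iterate_verschiebung_coeff (p := p) (y * (p : WittVector p R) ^ e) i 0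
    rw [zero_add] at this
    rw [this, WittVector.mul_coeff_zero]
    have h2 : ((p : WittVector p R) ^ e).coeff 0 = (p : R) ^ e := by
      have := map_pow (WittVector.constantCoeff (p := p) (R := R)) (p : WittVector p R) e
      rw [map_natCast] at this
      exact this
    rw [h2, he, mul_zero]

theorem pow_mem_ker (e : ℕ) (he : (p : R) ^ e = 0) (n : ℕ) :
    (p : WittVector p R) ^ (e * n) ∈ RingHom.ker (WittVector.truncate (p := p) (R := R) n) := by
  induction n with
  | zero =>
    rw [WittVector.mem_ker_truncate]
    intro i hi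
    exact absurd hi (Nat.not_lt_zero i)
  | succ n ih =>
    rw [Nat.mul_succ, pow_add, mul_comm]
    exact pow_mul_mem_ker e he n _ ih

theorem isUnit_one_add_p_mul (hp : IsNilpotent (p : R)) (w : WittVector p R) :
    IsUnit (1 + (p : WittVector p R) * w) := by
  obtain ⟨e, he⟩ := hp
  apply isUnit_of_truncate
  intro k
  rw [map_add, map_one, map_mul]
  apply IsNilpotent.isUnit_one_add
  apply Commute.isNilpotent_mul_right (Commute.all _ _)
  refine ⟨e * k, ?_⟩
  rw [← map_pow]
  exact pow_mem_ker e he k

theorem p_mem_of_isMaximal (hp : IsNilpotent (p : R)) (m : Ideal (WittVector p R))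
    [hm : m.IsMaximal] : (p : WittVector p R) ∈ m := by
  by_contra hnot
  obtain ⟨y, i, hi, hyi⟩ := hm.exists_inv hnot
  have hunit : IsUnit i := by
    have : i = 1 + (p : WittVector p R) * (-y) := by
      rw [← hyi]; ring
    rw [this]
    exact isUnit_one_add_p_mul hp _
  exact hm.ne_top (Ideal.eq_top_of_isUnit_mem _ hi hunit)

theorem verschiebung_mem_of_isMaximal (hp : IsNilpotent (p : R)) (m : Ideal (WittVector p R))
    [hm : m.IsMaximal] (w : WittVector p R) : WittVector.verschiebung w ∈ m := by
  have h2 : WittVector.verschiebung w * WittVector.verschiebung w ∈ m := by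
    have : WittVector.verschiebung w * WittVector.verschiebung w
        = WittVector.verschiebung (w * w) * (p : WittVector p R) := by
      rw [← WittVector.verschiebung_mul_frobenius, WittVector.frobenius_verschiebung,
        ← WittVector.verschiebung_mul_frobenius, map_natCast, mul_assoc]
    rw [this]
    exact Ideal.mul_mem_left _ _ (p_mem_of_isMaximal hp m)
  rcases hm.isPrime.mem_or_mem h2 with h | h <;> exact h

theorem J_le_of_isMaximal (hp : IsNilpotent (p : R)) (m : Ideal (WittVector p R))
    [hm : m.IsMaximal] :
    W4c1extbt610.IV p R ⊔ Ideal.span {(p : WittVector p R)} ≤ m := by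
  rw [sup_le_iff]
  constructor
  · rw [W4c1extbt610.IV, Ideal.span_le]
    rintro _ ⟨w, rfl⟩
    exact verschiebung_mem_of_isMaximal hp m w
  · rw [Ideal.span_le]
    rintro _ rfl
    exact p_mem_of_isMaximal hp m

/-- `F x ≡ x^p` modulo `I_R + pW`. -/
theorem frobenius_sub_pow_mem (x : WittVector p R) :
    σ x - x ^ p ∈ W4c1extbt610.IV p R ⊔ Ideal.span {(p : WittVector p R)} := by
  set a : R := MvPolynomial.aeval x.coeff (WittVector.frobeniusPolyAux p 0) with ha
  set z : WittVector p R := σ x - x ^ p - (p : WittVector p R) * WittVector.teichmuller p a with hz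
  have hz0 : z.coeff 0 = 0 := by
    have h1 : WittVector.constantCoeff (p := p) (R := R) z = 0 := by
      rw [hz, map_sub, map_sub, map_mul, map_pow, map_natCast]
      change (σ x).coeff 0 - (x.coeff 0) ^ p - (p : R) * (WittVector.teichmuller p a).coeff 0 = 0
      rw [WittVector.teichmuller_coeff_zero, WittVector.coeff_frobenius, WittVector.frobeniusPoly,
        map_add, map_mul, map_pow, MvPolynomial.aeval_X, MvPolynomial.aeval_C, ← ha]
      simp
    exact h1
  have hzV : z = WittVector.verschiebung (z.shift 1) := by
    have := WittVector.eq_iterate_verschiebung (x := z) (n := 1) (by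
      intro i hi
      have : i = 0 := by omega
      rw [this]; exact hz0)
    exact this
  have : σ x - x ^ p = z + (p : WittVector p R) * WittVector.teichmuller p a := by
    rw [hz]; ring
  rw [this]
  refine Ideal.add_mem _ (Ideal.mem_sup_left ?_) (Ideal.mem_sup_right ?_)
  · rw [hzV]; exact W4c1extbt610.verschiebung_mem_IV p R _
  · exact Ideal.mul_mem_right _ _ (Ideal.subset_span rfl)

theorem comap_frobenius_eq (hp : IsNilpotent (p : R)) (m : Ideal (WittVector p R))
    [hm : m.IsMaximal] : m.comap σ = m := by
  ext x
  rw [Ideal.mem_comap]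
  have h1 : σ x - x ^ p ∈ m := J_le_of_isMaximal hp m (frobenius_sub_pow_mem x)
  have hpne : p ≠ 0 := (Fact.out : p.Prime).ne_zero
  constructor
  · intro h
    have : x ^ p ∈ m := by
      have := Ideal.sub_mem _ h h1
      rwa [sub_sub_cancel] at this
    exact hm.isPrime.mem_of_pow_mem p this
  · intro h
    have : x ^ p ∈ m := Ideal.pow_mem_of_mem _ h p (Nat.pos_of_ne_zero hpne)
    have := Ideal.add_mem _ h1 this
    rwa [sub_add_cancel] at this

end Groth.Agent.Lib.Helper60.WittJac
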