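import Mathlib
import Groth.Agent.S16538

/-!
# A constructor for 3n-displays (helper60)

`exists_display` : let `N` be a finitely generated projective `W(R)`-module, `e` an idempotent
endomorphism of `N` and `Φ : N → N` a Frobenius-semilinear map whose image generates `N`.  Then
there is a 3n-display structure on `N` with `Q = im e + I_R ker e`, `V⁻¹ = Φ` on `im e` and
`V⁻¹ (V(w) y) = w Φ(y)` for `y ∈ ker e`.
-/

set_option autoImplicit false
set_option maxHeartbeats 400000

universe u v

namespace Groth.Agent.Lib.Helper60.DispMk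

open Groth.Agent.S16538 Groth.Agent.Lib.Helper60

variable {p : ℕ} [Fact p.Prime] {R : Type u} [CommRing R]
variable {N : Type v} [AddCommGroup N] [Module (WittVector p R) N]

local notation "σ" => (WittVector.frobenius : WittVector p R →+* WittVector p R)
local notation "IW" => W4c1extbt610.IV p R

theorem form_mem (g : N →ₗ[WittVector p R] WittVector p R) (y : N)
    (hy : y ∈ IW • (⊤ : Submodule (WittVector p R) N)) : g y ∈ IW := by
  refine Submodule.smul_induction_on hy (fun r hr n _ => ?_) (fun x y hx hy => ?_)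
  · rw [map_smul, smul_eq_mul]; exact Ideal.mul_mem_right _ _ hr
  · rw [map_add]; exact Ideal.add_mem _ hx hy

section VF

variable {n : ℕ} (b : Fin n → N) (g : Fin n → (N →ₗ[WittVector p R] WittVector p R))
variable {N' : Type v} [AddCommGroup N'] [Module (WittVector p R) N'] (Φ : N →ₛₗ[(WittVector.frobenius : WittVector p R →+* WittVector p R)] N')

/-- the operator `V(w) z ↦ w Φ z`, as a plain function -/
noncomputable def VF (z : N) : N' := ∑ i, vi (g i z) • Φ (b i)

theorem VF_add (z z' : N) (hz : z ∈ IW • (⊤ : Submodule (WittVector p R) N))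
    (hz' : z' ∈ IW • (⊤ : Submodule (WittVector p R) N)) :
    VF b g Φ (z + z') = VF b g Φ z + VF b g Φ z' := by
  rw [VF, VF, VF, ← Finset.sum_add_distrib]
  refine Finset.sum_congr rfl (fun i _ => ?_)
  rw [map_add, vi_add _ _ (form_mem _ z hz) (form_mem _ z' hz'), add_smul]

theorem VF_smul (c : WittVector p R) (z : N)
    (hz : z ∈ IW • (⊤ : Submodule (WittVector p R) N)) :
    VF b g Φ (c • z) = σ c • VF b g Φ z := by
  rw [VF, VF, Finset.smul_sum]
  refine Finset.sum_congr rfl (fun i _ => ?_)
  rw [map_smul, smul_eq_mul, vi_mul _ _ (form_mem _ z hz), mul_smul]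

theorem VF_zero : VF b g Φ 0 = 0 := by
  rw [VF]
  refine Finset.sum_eq_zero (fun i _ => ?_)
  rw [map_zero, vi_zero, zero_smul]

theorem VF_verschiebung_smul (hd : ∀ x, x = ∑ i, g i x • b i) (w : WittVector p R) (z : N) :
    VF b g Φ (WittVector.verschiebung w • z) = w • Φ z := by
  conv_rhs => rw [hd z]
  rw [VF, map_sum, Finset.smul_sum]
  refine Finset.sum_congr rfl (fun i _ => ?_)
  rw [map_smul, smul_eq_mul, ← WittVector.verschiebung_mul_frobenius, vi_verschiebung,
    LinearMap.map_smulₛₗ, mul_smul]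

end VF

section Mk

variable {n : ℕ} (b : Fin n → N) (g : Fin n → (N →ₗ[WittVector p R] WittVector p R))
variable (e : N →ₗ[WittVector p R] N)
  (Φ : N →ₛₗ[(WittVector.frobenius : WittVector p R →+* WittVector p R)] N)

/-- the candidate `V⁻¹`, as a plain function -/
noncomputable def V0 (z : N) : N := Φ (e z) + VF b g Φ (z - e z)

theorem sub_mem (he : ∀ x, e (e x) = e x) (z : N)
    (hz : z ∈ LinearMap.range e ⊔ IW • LinearMap.ker e) :
    z - e z ∈ IW • (⊤ : Submodule (WittVector p R) N) := by
  obtain ⟨a, ha, c, hc, rfl⟩ := Submodule.mem_sup.mp hz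
  obtain ⟨a', rfl⟩ := ha
  have hc0 : e c = 0 := LinearMap.mem_ker.mp (Submodule.smul_le_right hc)
  rw [map_add, he, hc0, add_zero, add_sub_cancel_left]
  exact Submodule.smul_mono le_rfl le_top hc

theorem V0_add (he : ∀ x, e (e x) = e x) (z z' : N)
    (hz : z ∈ LinearMap.range e ⊔ IW • LinearMap.ker e)
    (hz' : z' ∈ LinearMap.range e ⊔ IW • LinearMap.ker e) :
    V0 b g e Φ (z + z') = V0 b g e Φ z + V0 b g e Φ z' := by
  have h : z + z' - e (z + z') = (z - e z) + (z' - e z') := by rw [map_add]; abel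
  rw [V0, V0, V0, h, VF_add b g Φ _ _ (sub_mem e he z hz) (sub_mem e he z' hz'), map_add, map_add]
  abel

theorem V0_smul (he : ∀ x, e (e x) = e x) (c : WittVector p R) (z : N)
    (hz : z ∈ LinearMap.range e ⊔ IW • LinearMap.ker e) :
    V0 b g e Φ (c • z) = σ c • V0 b g e Φ z := by
  have h : c • z - e (c • z) = c • (z - e z) := by rw [map_smul, smul_sub]
  rw [V0, V0, h, VF_smul b g Φ _ _ (sub_mem e he z hz), map_smul, LinearMap.map_smulₛₗ, smul_add]

theorem V0_verschiebung_smul (hd : ∀ x, x = ∑ i, g i x • b i) (w : WittVector p R) (z : N) :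
    V0 b g e Φ (WittVector.verschiebung w • z) =
      w • ((p : WittVector p R) • Φ (e z) + Φ (z - e z)) := by
  have h : WittVector.verschiebung w • z - e (WittVector.verschiebung w • z) =
      WittVector.verschiebung w • (z - e z) := by rw [map_smul, smul_sub]
  rw [V0, h, VF_verschiebung_smul b g Φ hd, map_smul, LinearMap.map_smulₛₗ,
    WittVector.frobenius_verschiebung, smul_add, smul_smul]

theorem V0_of_fixed (z : N) (hz : e z = z) : V0 b g e Φ z = Φ z := by
  rw [V0, hz, sub_self, VF_zero, add_zero]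

end Mk

/-- The constructor. -/
theorem exists_display [Module.Finite (WittVector p R) N] [Module.Projective (WittVector p R) N]
    (e : N →ₗ[WittVector p R] N) (he : ∀ x, e (e x) = e x) (Φ : N →ₛₗ[σ] N)
    (hΦ : Submodule.span (WittVector p R) (Set.range Φ) = ⊤) :
    ∃ E : W4c1extbt610.Display3n p R N,
      E.Q = LinearMap.range e ⊔ IW • LinearMap.ker e ∧
      (∀ (x : N) (hx : x ∈ E.Q), e x = x → E.Vinv ⟨x, hx⟩ = Φ x) ∧
      (∀ (w : WittVector p R) (y : N) (h : WittVector.verschiebung w • y ∈ E.Q), e y = 0 →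
        E.Vinv ⟨WittVector.verschiebung w • y, h⟩ = w • Φ y) := by
  obtain ⟨n, b, g, hd⟩ := BCSem.exists_dual (WittVector p R) N
  have hle : IW • (⊤ : Submodule (WittVector p R) N) ≤
      LinearMap.range e ⊔ IW • LinearMap.ker e := by
    rw [Submodule.smul_le]
    intro c hc x _
    have hx : c • x = e (c • x) + c • (x - e x) := by rw [map_smul, smul_sub]; abel
    rw [hx]
    refine Submodule.add_mem _ (Submodule.mem_sup_left ⟨_, rfl⟩)
      (Submodule.mem_sup_right (Submodule.smul_mem_smul hc ?_))
    rw [LinearMap.mem_ker, map_sub, he, sub_self]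
  let Vinv : ↥(LinearMap.range e ⊔ IW • LinearMap.ker e) →ₛₗ[σ] N :=
    { toFun := fun z => V0 b g e Φ z.1
      map_add' := fun z z' => V0_add b g e Φ he _ _ z.2 z'.2
      map_smul' := fun c z => V0_smul b g e Φ he c _ z.2 }
  have hVinv : ∀ (z : N) (hz : z ∈ LinearMap.range e ⊔ IW • LinearMap.ker e),
      Vinv ⟨z, hz⟩ = V0 b g e Φ z := fun _ _ => rfl
  let F : N →ₛₗ[σ] N := (p : WittVector p R) • Φ.comp e + Φ.comp (LinearMap.id - e)
  have hF : ∀ x, F x = (p : WittVector p R) • Φ (e x) + Φ (x - e x) := fun x => rfl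
  have hVs : ∀ (w : WittVector p R) (x : N),
      Vinv ⟨WittVector.verschiebung w • x, hle (Submodule.smul_mem_smul
        (W4c1extbt610.verschiebung_mem_IV p R w) Submodule.mem_top)⟩ = w • F x := by
    intro w x
    rw [hVinv, V0_verschiebung_smul b g e Φ hd, hF]
  refine ⟨{ Q := LinearMap.range e ⊔ IW • LinearMap.ker e
            F := F
            Vinv := Vinv
            finite := inferInstance
            projective := inferInstance
            IV_smul_le := hle
            exists_normal := ⟨LinearMap.range e, LinearMap.ker e, ?_, rfl⟩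
            span_range_Vinv := ?_
            Vinv_verschiebung_smul := hVs }, rfl, ?_, ?_⟩
  · exact LinearMap.IsProj.isCompl ⟨fun x => ⟨x, rfl⟩, fun x ⟨y, hy⟩ => by rw [← hy, he]⟩
  · rw [eq_top_iff, ← hΦ, Submodule.span_le]
    rintro _ ⟨y, rfl⟩
    have h1 : Φ y = Vinv ⟨e y, Submodule.mem_sup_left ⟨y, rfl⟩⟩ +
        Vinv ⟨WittVector.verschiebung 1 • (y - e y), hle (Submodule.smul_mem_smul
          (W4c1extbt610.verschiebung_mem_IV p R 1) Submodule.mem_top)⟩ := by
      rw [hVs, hF, hVinv, V0_of_fixed b g e Φ _ (he y), one_smul, map_sub, he, sub_self, map_zero,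
        smul_zero, zero_add, sub_zero, ← map_add, add_sub_cancel]
    rw [h1]
    exact Submodule.add_mem _ (Submodule.subset_span ⟨_, rfl⟩) (Submodule.subset_span ⟨_, rfl⟩)
  · intro x hx hex
    exact V0_of_fixed b g e Φ x hex
  · intro w y h hey
    have := hVs w y
    rw [hF, hey, map_zero, smul_zero, zero_add, sub_zero] at this
    exact this

end Groth.Agent.Lib.Helper60.DispMk
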