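import Mathlib
import Groth.Agent.S16538
import Groth.Agent.Lib.Helper60.WittSqZero

/-!
# Rigidity of homomorphisms of displays (Zink, Prop. 40, injectivity) (helper60)

`hom_eq_zero` : let `S` be a ring in which `p` is nilpotent, `a` a nilpotent ideal, `D` a display
and `D'` a 3n-display over `S`. A homomorphism of 3n-displays `ω : P → P'` with
`ω(P) ⊆ W(a) P'` is zero.
-/

set_option autoImplicit false
set_option maxHeartbeats 400000

universe u v

namespace Groth.Agent.Lib.Helper60.DispRigid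

open Dieu Groth.Agent.S16538 WittSqZero

variable {p : ℕ} [Fact p.Prime] {S : Type u} [CommRing S]
variable {P : Type v} [AddCommGroup P] [Module (WittVector p S) P]
variable {P' : Type v} [AddCommGroup P'] [Module (WittVector p S) P']

/-! ### general lemmas on `I • ⊤` -/

theorem map_mem_smul_top {N N' : Type*} [AddCommGroup N] [Module (WittVector p S) N]
    [AddCommGroup N'] [Module (WittVector p S) N'] (I : Ideal (WittVector p S))
    (ψ : N →ₗ[WittVector p S] N') (y : N)
    (hy : y ∈ I • (⊤ : Submodule (WittVector p S) N)) :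
    ψ y ∈ I • (⊤ : Submodule (WittVector p S) N') := by
  refine Submodule.smul_induction_on hy (fun r hr n _ => ?_) (fun x y hx hy => ?_)
  · rw [map_smul]; exact Submodule.smul_mem_smul hr Submodule.mem_top
  · rw [map_add]; exact Submodule.add_mem _ hx hy

theorem form_mem {N : Type*} [AddCommGroup N] [Module (WittVector p S) N]
    (I : Ideal (WittVector p S)) (g : N →ₗ[WittVector p S] WittVector p S) (y : N)
    (hy : y ∈ I • (⊤ : Submodule (WittVector p S) N)) : g y ∈ I := by
  refine Submodule.smul_induction_on hy (fun r hr n _ => ?_) (fun x y hx hy => ?_)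
  · rw [map_smul, smul_eq_mul]; exact Ideal.mul_mem_right _ _ hr
  · rw [map_add]; exact Ideal.add_mem _ hx hy

/-! ### the operator `VF'` on `P'` -/

variable (D' : W4c1extbt610.Display3n p S P') (X' : Aux D')

/-- `z ↦ ∑ V⁻¹(g_i z) F'(e_i)` -/
noncomputable def VFp (z : P') : P' := ∑ i, vi (X'.g i z) • D'.F (X'.e i)

theorem VFp_add (z z' : P')
    (hz : z ∈ W4c1extbt610.IV p S • (⊤ : Submodule (WittVector p S) P'))
    (hz' : z' ∈ W4c1extbt610.IV p S • (⊤ : Submodule (WittVector p S) P')) :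
    VFp D' X' (z + z') = VFp D' X' z + VFp D' X' z' := by
  rw [VFp, VFp, VFp, ← Finset.sum_add_distrib]
  refine Finset.sum_congr rfl (fun i _ => ?_)
  rw [map_add, vi_add _ _ (form_mem _ _ z hz) (form_mem _ _ z' hz'), add_smul]

theorem VFp_verschiebung_smul (w : WittVector p S) (x : P') :
    VFp D' X' (WittVector.verschiebung w • x) = w • D'.F x := by
  conv_rhs => rw [X'.dual x]
  rw [VFp, map_sum, Finset.smul_sum]
  refine Finset.sum_congr rfl (fun i _ => ?_)
  rw [map_smul, smul_eq_mul, ← WittVector.verschiebung_mul_frobenius, vi_verschiebung,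
    map_smulₛₗ, mul_smul]

theorem Vinv_eq_VFp (z : P')
    (hz : z ∈ W4c1extbt610.IV p S • (⊤ : Submodule (WittVector p S) P')) :
    ∀ h : z ∈ D'.Q, D'.Vinv ⟨z, h⟩ = VFp D' X' z := by
  refine Submodule.smul_induction_on' (p := fun z _ => ∀ h : z ∈ D'.Q,
    D'.Vinv ⟨z, h⟩ = VFp D' X' z) hz (fun r hr n _ => ?_) (fun x hx y hy ihx ihy => ?_)
  · intro h
    obtain ⟨u, rfl⟩ := S16535.exists_eq_verschiebung r hr
    rw [VFp_verschiebung_smul]
    exact D'.Vinv_verschiebung_smul u n
  · intro h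
    have hmx : x ∈ D'.Q := D'.IV_smul_le hx
    have hmy : y ∈ D'.Q := D'.IV_smul_le hy
    have h0 : (⟨x + y, h⟩ : D'.Q) = ⟨x, hmx⟩ + ⟨y, hmy⟩ := Subtype.ext rfl
    rw [h0, map_add, ihx hmx, ihy hmy, VFp_add D' X' _ _ hx hy]

/-- the extension `𝒱̃` of `V'⁻¹` -/
noncomputable def Vt (y : P') : P' := VFp D' X' (prT D' X' y)

theorem prT_mem_IV (y : P') (hy : y ∈ D'.Q) :
    prT D' X' y ∈ W4c1extbt610.IV p S • (⊤ : Submodule (WittVector p S) P') := by
  rw [X'.hQ] at hy
  obtain ⟨l, hl, z, hz, rfl⟩ := Submodule.mem_sup.mp hy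
  have hzT : z ∈ X'.T := Submodule.smul_le_right hz
  rw [map_add, prT_of_mem_L D' X' l hl, zero_add, prT_of_mem_T D' X' z hzT]
  exact Submodule.smul_mono le_rfl le_top hz


/-! ### congruence properties of `𝒱̃` -/

section congr

variable (a b : Ideal S) (hab : a ^ 2 ⊔ Ideal.span {(p : S)} * a ≤ b)

local notation "𝔄" => (Jid p a • (⊤ : Submodule (WittVector p S) P'))
local notation "𝔅" => (Jid p b • (⊤ : Submodule (WittVector p S) P'))

theorem Vt_mem (c : Ideal S) (y : P')
    (hy : y ∈ Jid p c • (⊤ : Submodule (WittVector p S) P')) :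
    Vt D' X' y ∈ Jid p c • (⊤ : Submodule (WittVector p S) P') := by
  rw [Vt, VFp]
  refine Submodule.sum_mem _ (fun i _ => ?_)
  refine Submodule.smul_mem_smul ?_ Submodule.mem_top
  exact shift_mem_Jid c _ (form_mem _ _ _ (map_mem_smul_top _ (prT D' X') y hy))

include hab in
theorem Vt_add (y y' : P') (hy : y ∈ 𝔄) (hy' : y' ∈ 𝔄) :
    Vt D' X' (y + y') - Vt D' X' y - Vt D' X' y' ∈ 𝔅 := by
  rw [Vt, Vt, Vt, VFp, VFp, VFp, ← Finset.sum_sub_distrib, ← Finset.sum_sub_distrib]
  refine Submodule.sum_mem _ (fun i _ => ?_)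
  rw [← sub_smul, ← sub_smul, map_add, map_add]
  refine Submodule.smul_mem_smul ?_ Submodule.mem_top
  exact shift_add_sub_mem a b hab _ _
    (form_mem _ _ _ (map_mem_smul_top _ (prT D' X') y hy))
    (form_mem _ _ _ (map_mem_smul_top _ (prT D' X') y' hy'))

include hab in
theorem Vt_smul (c : WittVector p S) (y : P') (hy : y ∈ 𝔄) :
    Vt D' X' (c • y) - WittVector.frobenius c • Vt D' X' y ∈ 𝔅 := by
  rw [Vt, Vt, VFp, VFp, Finset.smul_sum, ← Finset.sum_sub_distrib]
  refine Submodule.sum_mem _ (fun i _ => ?_)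
  rw [smul_smul, ← sub_smul, map_smul, map_smul, smul_eq_mul]
  refine Submodule.smul_mem_smul ?_ Submodule.mem_top
  exact shift_mul_sub_mem a b hab _ _
    (form_mem _ _ _ (map_mem_smul_top _ (prT D' X') y hy))

include hab in
theorem Vinv_prL_mem (y : P') (hy : y ∈ 𝔄) :
    ∀ h : prL D' X' y ∈ D'.Q, D'.Vinv ⟨prL D' X' y, h⟩ ∈ 𝔅 := by
  refine Submodule.smul_induction_on' (p := fun y _ => ∀ h : prL D' X' y ∈ D'.Q,
    D'.Vinv ⟨prL D' X' y, h⟩ ∈ 𝔅) hy (fun r hr n _ => ?_) (fun x hx y hy ihx ihy => ?_)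
  · intro h
    have hn : prL D' X' n ∈ D'.Q := X'.hLQ D' (prL_mem D' X' n)
    have h0 : (⟨prL D' X' (r • n), h⟩ : D'.Q) = r • ⟨prL D' X' n, hn⟩ :=
      Subtype.ext (map_smul _ _ _)
    rw [h0, map_smulₛₗ]
    exact Submodule.smul_mem_smul (frobenius_mem_Jid a b hab r hr) Submodule.mem_top
  · intro h
    have hmx : prL D' X' x ∈ D'.Q := X'.hLQ D' (prL_mem D' X' x)
    have hmy : prL D' X' y ∈ D'.Q := X'.hLQ D' (prL_mem D' X' y)
    have h0 : (⟨prL D' X' (x + y), h⟩ : D'.Q) = ⟨prL D' X' x, hmx⟩ + ⟨prL D' X' y, hmy⟩ :=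
      Subtype.ext (map_add _ _ _)
    rw [h0, map_add]
    exact Submodule.add_mem _ (ihx hmx) (ihy hmy)

include hab in
theorem Vinv_sub_Vt_mem (y : P') (hy : y ∈ 𝔄) (h : y ∈ D'.Q) :
    D'.Vinv ⟨y, h⟩ - Vt D' X' y ∈ 𝔅 := by
  have hL : prL D' X' y ∈ D'.Q := X'.hLQ D' (prL_mem D' X' y)
  have hT : prT D' X' y ∈ D'.Q := D'.IV_smul_le (prT_mem_IV D' X' y h)
  have h0 : (⟨y, h⟩ : D'.Q) = ⟨prL D' X' y, hL⟩ + ⟨prT D' X' y, hT⟩ :=
    Subtype.ext (prL_add_prT D' X' y).symm
  rw [h0, map_add, Vinv_eq_VFp D' X' _ (prT_mem_IV D' X' y h) hT, Vt, add_sub_cancel_right]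
  exact Vinv_prL_mem D' X' a b hab y hy hL

include hab in
theorem J_smul_mem (r : WittVector p S)
    (hr : r ∈ W4c1extbt610.IV p S ⊔ Ideal.span {(p : WittVector p S)}) (y : P') (hy : y ∈ 𝔄) :
    r • y ∈ 𝔅 := by
  have hmul : ∀ ξ ∈ Jid p a, r * ξ ∈ Jid p b := by
    intro ξ hξ
    obtain ⟨v, hv, q, hq, rfl⟩ := Submodule.mem_sup.mp hr
    obtain ⟨w, rfl⟩ := S16535.exists_eq_verschiebung v hv
    obtain ⟨s, rfl⟩ := Ideal.mem_span_singleton'.mp hq
    rw [add_mul, mul_assoc]
    exact Ideal.add_mem _ (verschiebung_mul_mem a b hab w ξ hξ)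
      (Ideal.mul_mem_left _ _ (p_mul_mem a b hab ξ hξ))
  refine Submodule.smul_induction_on hy (fun ξ hξ n _ => ?_) (fun x y hx hy => ?_)
  · rw [smul_smul]
    exact Submodule.smul_mem_smul (hmul ξ hξ) Submodule.mem_top
  · rw [smul_add]; exact Submodule.add_mem _ hx hy

end congr


/-! ### iterating a fixed-point equation -/

section iterate

variable {M : Type*} [AddCommGroup M] [Module (WittVector p S) M]

theorem iterate_add
    (𝒱 : M →ₛₗ[(WittVector.frobenius : WittVector p S →+* WittVector p S)] M) (n : ℕ) (x y : M) :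
    𝒱^[n] (x + y) = 𝒱^[n] x + 𝒱^[n] y := by
  induction n with
  | zero => rfl
  | succ n ih =>
    rw [Function.iterate_succ_apply' 𝒱 n (x + y), ih, map_add,
      Function.iterate_succ_apply' 𝒱 n x, Function.iterate_succ_apply' 𝒱 n y]

theorem iterate_smul
    (𝒱 : M →ₛₗ[(WittVector.frobenius : WittVector p S →+* WittVector p S)] M) (n : ℕ)
    (c : WittVector p S) (x : M) :
    𝒱^[n] (c • x) =
      ((WittVector.frobenius : WittVector p S →+* WittVector p S) ^ n) c • 𝒱^[n] x := by
  induction n with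
  | zero => rfl
  | succ n ih =>
    rw [Function.iterate_succ_apply' 𝒱 n (c • x), ih, map_smulₛₗ,
      Function.iterate_succ_apply' 𝒱 n x, pow_succ' _ n]
    rfl

/-- the iterates of a `σ`-semilinear endomorphism, as `σ^(n+1)`-semilinear maps -/
noncomputable def iterSL
    (𝒱 : M →ₛₗ[(WittVector.frobenius : WittVector p S →+* WittVector p S)] M) (n : ℕ) :
    M →ₛₗ[(WittVector.frobenius : WittVector p S →+* WittVector p S) ^ (n + 1)] M where
  toFun := 𝒱^[n + 1]
  map_add' x y := iterate_add 𝒱 (n + 1) x y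
  map_smul' c x := iterate_smul 𝒱 (n + 1) c x

theorem iterSL_apply
    (𝒱 : M →ₛₗ[(WittVector.frobenius : WittVector p S →+* WittVector p S)] M) (n : ℕ) (x : M) :
    iterSL 𝒱 n x = 𝒱^[n + 1] x := rfl

variable (𝒱 : M →ₛₗ[(WittVector.frobenius : WittVector p S →+* WittVector p S)] M)
  (ωb : P →ₗ[WittVector p S] M)
  (Vs : P →ₗ[WittVector p S] BC (WittVector.frobenius : WittVector p S →+* WittVector p S) P)

theorem lift_map_cast_zero
    (t : BC (WittVector.frobenius : WittVector p S →+* WittVector p S) P) :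
    BC.lift ((WittVector.frobenius : WittVector p S →+* WittVector p S) ^ (0 + 1)) (iterSL 𝒱 0)
      (BC.map _ ωb (BC.castHom
        (pow_one (WittVector.frobenius : WittVector p S →+* WittVector p S)).symm t)) =
    BC.lift (WittVector.frobenius : WittVector p S →+* WittVector p S) 𝒱 (BC.map _ ωb t) := by
  induction t using BC.induction_on (WittVector.frobenius : WittVector p S →+* WittVector p S) with
  | zero => rw [map_zero, map_zero, map_zero, map_zero, map_zero]
  | tmul b x =>
    rw [BC.castHom_tmul, BC.map_tmul, BC.map_tmul, BC.lift_tmul, BC.lift_tmul]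
    rfl
  | add z₁ z₂ h₁ h₂ => rw [map_add, map_add, map_add, map_add, map_add, h₁, h₂]

theorem lift_map_push (n : ℕ)
    (z : BC ((WittVector.frobenius : WittVector p S →+* WittVector p S) ^ (n + 1)) P) :
    BC.lift ((WittVector.frobenius : WittVector p S →+* WittVector p S) ^ (n + 1 + 1))
      (iterSL 𝒱 (n + 1))
      (BC.map _ ωb (BC.castHom
        (comp_pow_eq_pow_succ (WittVector.frobenius : WittVector p S →+* WittVector p S) (n + 1))
        (BC.push _ (WittVector.frobenius : WittVector p S →+* WittVector p S) z))) =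
    𝒱 (BC.lift ((WittVector.frobenius : WittVector p S →+* WittVector p S) ^ (n + 1))
      (iterSL 𝒱 n) (BC.map _ ωb z)) := by
  induction z using BC.induction_on
    ((WittVector.frobenius : WittVector p S →+* WittVector p S) ^ (n + 1)) with
  | zero => rw [map_zero, map_zero, map_zero, map_zero, map_zero, map_zero, map_zero]
  | tmul c x =>
    rw [BC.push_tmul, BC.castHom_tmul, BC.map_tmul, BC.map_tmul, BC.lift_tmul, BC.lift_tmul,
      map_smulₛₗ, iterSL_apply, iterSL_apply, Function.iterate_succ_apply' 𝒱 (n + 1)]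
  | add z₁ z₂ h₁ h₂ =>
    rw [map_add, map_add, map_add, map_add, map_add, map_add, map_add, h₁, h₂]

variable (hfix : ∀ u : P, ωb u =
    BC.lift (WittVector.frobenius : WittVector p S →+* WittVector p S) 𝒱 (BC.map _ ωb (Vs u)))

include hfix in
theorem fix_iterate (n : ℕ) : ∀ u : P, ωb u =
    BC.lift ((WittVector.frobenius : WittVector p S →+* WittVector p S) ^ (n + 1)) (iterSL 𝒱 n)
      (BC.map _ ωb (vSharpPow Vs n u)) := by
  induction n with
  | zero =>
    intro u
    rw [vSharpPow_zero_apply, lift_map_cast_zero, ← hfix u]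
  | succ n ih =>
    intro u
    have key : ∀ t : BC (WittVector.frobenius : WittVector p S →+* WittVector p S) P,
        BC.lift ((WittVector.frobenius : WittVector p S →+* WittVector p S) ^ (n + 1 + 1))
          (iterSL 𝒱 (n + 1))
          (BC.map _ ωb (BC.castHom
            (comp_pow_eq_pow_succ (WittVector.frobenius : WittVector p S →+* WittVector p S)
              (n + 1))
            (BC.lift (WittVector.frobenius : WittVector p S →+* WittVector p S)
              (BC.push ((WittVector.frobenius : WittVector p S →+* WittVector p S) ^ (n + 1))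
                (WittVector.frobenius : WittVector p S →+* WittVector p S))
              (BC.map (WittVector.frobenius : WittVector p S →+* WittVector p S)
                (vSharpPow Vs n) t)))) =
        BC.lift (WittVector.frobenius : WittVector p S →+* WittVector p S) 𝒱 (BC.map _ ωb t) := by
      intro t
      induction t using BC.induction_on
        (WittVector.frobenius : WittVector p S →+* WittVector p S) with
      | zero => simp only [map_zero]
      | tmul b x =>
        rw [BC.map_tmul, BC.lift_tmul, map_smul, map_smul, map_smul, lift_map_push, ← ih x,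
          BC.map_tmul, BC.lift_tmul]
      | add z₁ z₂ h₁ h₂ => simp only [map_add, h₁, h₂]
    rw [vSharpPow_succ_apply, key, ← hfix u]

include hfix in
theorem eq_zero_of_nilpotent (hnil : IsVNilpotent Vs)
    (hM : ∀ r ∈ W4c1extbt610.IV p S ⊔ Ideal.span {(p : WittVector p S)}, ∀ m : M, r • m = 0)
    (u : P) : ωb u = 0 := by
  obtain ⟨n, hn⟩ := hnil
  rw [fix_iterate 𝒱 ωb Vs hfix n u]
  have h := hn u
  refine Submodule.smul_induction_on h (fun r hr t _ => ?_) (fun x y hx hy => ?_)
  · rw [map_smul, map_smul]; exact hM r hr _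
  · rw [map_add, map_add, hx, hy, add_zero]

end iterate


/-! ### the quotient `W(a)P' / W(b)P'` and the step -/

section step

variable (a b : Ideal S) (hab : a ^ 2 ⊔ Ideal.span {(p : S)} * a ≤ b)

variable (p P') in
/-- `W(a) P'` -/
noncomputable def Asub : Submodule (WittVector p S) P' :=
  Jid p a • (⊤ : Submodule (WittVector p S) P')

variable (p P') in
/-- `W(b) P' ∩ W(a) P'` inside `W(a) P'` -/
noncomputable def Bsub : Submodule (WittVector p S) ↥(Asub p P' a) :=
  (Jid p b • (⊤ : Submodule (WittVector p S) P')).comap (Asub p P' a).subtype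

theorem mem_Bsub_iff (y : ↥(Asub p P' a)) :
    y ∈ Bsub p P' a b ↔ (y : P') ∈ Jid p b • (⊤ : Submodule (WittVector p S) P') :=
  Iff.rfl

/-- `𝒱̃` on `W(a) P'` -/
noncomputable def VtA (y : ↥(Asub p P' a)) : ↥(Asub p P' a) :=
  ⟨Vt D' X' (y : P'), Vt_mem D' X' a _ y.2⟩

/-- `𝒱̃` as a semilinear map to the quotient -/
noncomputable def V0 :
    ↥(Asub p P' a) →ₛₗ[(WittVector.frobenius : WittVector p S →+* WittVector p S)]
      (↥(Asub p P' a) ⧸ Bsub p P' a b) where
  toFun y := (Bsub p P' a b).mkQ (VtA D' X' a y)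
  map_add' y y' := by
    rw [← map_add, ← sub_eq_zero, ← map_sub, Submodule.mkQ_apply, Submodule.Quotient.mk_eq_zero,
      mem_Bsub_iff]
    have := Vt_add D' X' a b hab (y : P') (y' : P') y.2 y'.2
    have h2 : ((VtA D' X' a (y + y') - (VtA D' X' a y + VtA D' X' a y') :
        ↥(Asub p P' a)) : P') =
        Vt D' X' ((y : P') + (y' : P')) - Vt D' X' (y : P') - Vt D' X' (y' : P') := by
      rw [Submodule.coe_sub, Submodule.coe_add]
      change Vt D' X' ((y + y' : ↥(Asub p P' a)) : P') - (Vt D' X' (y : P') +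
        Vt D' X' (y' : P')) = _
      rw [Submodule.coe_add]
      abel
    rw [h2]
    exact this
  map_smul' c y := by
    rw [← map_smul, ← sub_eq_zero, ← map_sub, Submodule.mkQ_apply, Submodule.Quotient.mk_eq_zero,
      mem_Bsub_iff]
    have := Vt_smul D' X' a b hab c (y : P') y.2
    have h2 : ((VtA D' X' a (c • y) - WittVector.frobenius c • VtA D' X' a y :
        ↥(Asub p P' a)) : P') =
        Vt D' X' (c • (y : P')) - WittVector.frobenius c • Vt D' X' (y : P') := by
      rw [Submodule.coe_sub, Submodule.coe_smul]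
      rfl
    rw [h2]
    exact this

theorem V0_apply (y : ↥(Asub p P' a)) :
    V0 D' X' a b hab y = (Bsub p P' a b).mkQ (VtA D' X' a y) := rfl

/-- `𝒱̄` on the quotient -/
noncomputable def Vbar :
    (↥(Asub p P' a) ⧸ Bsub p P' a b)
      →ₛₗ[(WittVector.frobenius : WittVector p S →+* WittVector p S)]
      (↥(Asub p P' a) ⧸ Bsub p P' a b) :=
  (Bsub p P' a b).liftQ (V0 D' X' a b hab) (by
    intro y hy
    rw [LinearMap.mem_ker, V0_apply, Submodule.mkQ_apply, Submodule.Quotient.mk_eq_zero,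
      mem_Bsub_iff]
    exact Vt_mem D' X' b _ ((mem_Bsub_iff a b y).mp hy))

theorem Vbar_mk (y : ↥(Asub p P' a)) :
    Vbar D' X' a b hab ((Bsub p P' a b).mkQ y) =
      (Bsub p P' a b).mkQ (VtA D' X' a y) := rfl

include hab in
theorem J_smul_quot (r : WittVector p S)
    (hr : r ∈ W4c1extbt610.IV p S ⊔ Ideal.span {(p : WittVector p S)})
    (m : ↥(Asub p P' a) ⧸ Bsub p P' a b) : r • m = 0 := by
  obtain ⟨y, rfl⟩ := Submodule.mkQ_surjective _ m
  rw [← map_smul, Submodule.mkQ_apply, Submodule.Quotient.mk_eq_zero, mem_Bsub_iff,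
    Submodule.coe_smul]
  exact J_smul_mem a b hab r hr _ y.2

variable (D : W4c1extbt610.Display3n p S P)
  (Vs : P →ₗ[WittVector p S] BC (WittVector.frobenius : WittVector p S →+* WittVector p S) P)
  (hVs : IsVSharp D Vs) (hnil : IsVNilpotent Vs)
  (ω : P →ₗ[WittVector p S] P') (hω : W4c1extbt610.IsHom D D' ω)
  (hωA : ∀ u, ω u ∈ Jid p a • (⊤ : Submodule (WittVector p S) P'))

/-- `ω` modulo `W(b) P'` -/
noncomputable def omegaBar : P →ₗ[WittVector p S] (↥(Asub p P' a) ⧸ Bsub p P' a b) :=
  (Bsub p P' a b).mkQ.comp (ω.codRestrict (Asub p P' a) hωA)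

include hVs hω in
theorem omegaBar_fix (u : P) : omegaBar a b ω hωA u =
    BC.lift (WittVector.frobenius : WittVector p S →+* WittVector p S) (Vbar D' X' a b hab)
      (BC.map _ (omegaBar a b ω hωA) (Vs u)) := by
  have : omegaBar a b ω hωA =
      ((BC.lift (WittVector.frobenius : WittVector p S →+* WittVector p S)
        (Vbar D' X' a b hab)).comp
        (BC.map _ (omegaBar a b ω hωA))).comp Vs := by
    apply LinearMap.ext_on_range D.span_range_Vinv
    intro y
    have h1 := hVs.app_smul_Vinv 1 y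
    rw [one_smul] at h1
    rw [LinearMap.comp_apply, LinearMap.comp_apply, h1, BC.map_tmul, BC.lift_tmul, one_smul]
    change (Bsub p P' a b).mkQ (ω.codRestrict (Asub p P' a) hωA (D.Vinv y)) =
      Vbar D' X' a b hab ((Bsub p P' a b).mkQ
        (ω.codRestrict (Asub p P' a) hωA (y : P)))
    rw [Vbar_mk, ← sub_eq_zero, ← map_sub, Submodule.mkQ_apply, Submodule.Quotient.mk_eq_zero,
      mem_Bsub_iff, Submodule.coe_sub]
    change ω (D.Vinv y) - Vt D' X' (ω (y : P)) ∈ _
    rw [hω.comm_Vinv y]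
    exact Vinv_sub_Vt_mem D' X' a b hab _ (hωA _) _
  exact congrArg (fun ψ : P →ₗ[WittVector p S] _ => ψ u) this

include hab hVs hnil hω hωA X' in
theorem step (u : P) : ω u ∈ Jid p b • (⊤ : Submodule (WittVector p S) P') := by
  have h := eq_zero_of_nilpotent (Vbar D' X' a b hab) (omegaBar a b ω hωA) Vs
    (omegaBar_fix D' X' a b hab D Vs hVs ω hω hωA) hnil (J_smul_quot a b hab) u
  rw [omegaBar, LinearMap.comp_apply, Submodule.mkQ_apply, Submodule.Quotient.mk_eq_zero,
    mem_Bsub_iff] at h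
  exact h

end step

/-- **Rigidity**: a homomorphism from a display to a 3n-display which vanishes modulo a nilpotent
ideal `a` (with `p` nilpotent) is zero. -/
theorem hom_eq_zero (hp : IsNilpotent (p : S)) (a : Ideal S) (ha : IsNilpotent a)
    (D : W4c1extbt610.Display3n p S P) (hD : IsDisplay D)
    (D' : W4c1extbt610.Display3n p S P')
    (ω : P →ₗ[WittVector p S] P') (hω : W4c1extbt610.IsHom D D' ω)
    (hωA : ∀ u, ω u ∈ Jid p a • (⊤ : Submodule (WittVector p S) P')) : ω = 0 := by
  obtain ⟨Vs, hVs, hnil⟩ := hD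
  obtain ⟨X'⟩ := nonempty_aux D'
  have hk : ∀ k : ℕ, ∀ u, ω u ∈ Jid p (chain p a k) • (⊤ : Submodule (WittVector p S) P') := by
    intro k
    induction k with
    | zero => rw [chain_zero]; exact hωA
    | succ k ih =>
      exact step D' X' (chain p a k) (chain p a (k + 1)) (chain_step a k) D Vs hVs hnil ω hω ih
  obtain ⟨k, hk0⟩ := chain_eq_bot a ha hp
  ext u
  have := hk k u
  rw [hk0, Jid_bot, Submodule.bot_smul, Submodule.mem_bot] at this
  rw [this, LinearMap.zero_apply]

end Groth.Agent.Lib.Helper60.DispRigid
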