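import Mathlib

/-!
# Exterior powers of a module with a rank-one complement (helper60)

General linear algebra over a commutative ring `A`:

* `map_add_smul_const` : an alternating map evaluated at `l i + c i • t`.
* `extSemi` : the exterior power of a semilinear map.
* For `P = L ⊕ T` with `T` spanned by `t`, an ideal `I` and `Q = L + I T`: the span of the wedges of
  elements of `Q` in `⋀^r P` is `im e + I ker e`, where `e = ⋀^r (projection to L)`.
-/

set_option autoImplicit false
set_option maxHeartbeats 400000

universe u v

namespace Groth.Agent.Lib.Helper60.ExtDisp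

section LemmaX

variable {A : Type*} [CommRing A] {M : Type*} [AddCommGroup M] [Module A M]
variable {N : Type*} [AddCommGroup N] [Module A N] {r : ℕ}

theorem map_add_smul_const_aux (f : M [⋀^Fin r]→ₗ[A] N) (c : Fin r → A) (t : M)
    (S : Finset (Fin r)) : ∀ l : Fin r → M,
    f (fun i => if i ∈ S then l i + c i • t else l i) =
      f l + ∑ k ∈ S, c k • f (Function.update l k t) := by
  classical
  induction S using Finset.induction_on with
  | empty => intro l; simp
  | insert j S hj ih =>
    intro l
    set v : Fin r → M := fun i => if i ∈ S then l i + c i • t else l i with hv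
    have hvj : v j = l j := by simp [hv, hj]
    have h1 : (fun i => if i ∈ insert j S then l i + c i • t else l i) =
        Function.update v j (l j + c j • t) := by
      funext i
      by_cases hij : i = j
      · subst hij; simp
      · simp [Function.update_of_ne hij, hv, Finset.mem_insert, hij]
    have h2 : Function.update v j t =
        fun i => if i ∈ S then (Function.update l j t) i + c i • t else (Function.update l j t) i := by
      funext i
      by_cases hij : i = j
      · subst hij; simp [hj]
      · simp [Function.update_of_ne hij, hv]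
    have h3 : ∀ k ∈ S, f (Function.update (Function.update l j t) k t) = 0 := by
      intro k hk
      have hkj : k ≠ j := fun h => hj (h ▸ hk)
      refine f.map_eq_zero_of_eq _ (i := j) (j := k) ?_ (Ne.symm hkj)
      rw [Function.update_of_ne (Ne.symm hkj), Function.update_self, Function.update_self]
    have h4 : ∑ k ∈ S, c k • f (Function.update (Function.update l j t) k t) = 0 :=
      Finset.sum_eq_zero (fun k hk => by rw [h3 k hk, smul_zero])
    rw [h1, f.map_update_add, f.map_update_smul, ← hvj, Function.update_eq_self, ih l, h2,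
      ih (Function.update l j t), Finset.sum_insert hj, h4, add_zero]
    abel

/-- Lemma X: an alternating map evaluated at `l i + c i • t`. -/
theorem map_add_smul_const (f : M [⋀^Fin r]→ₗ[A] N) (l : Fin r → M) (c : Fin r → A) (t : M) :
    f (fun i => l i + c i • t) = f l + ∑ k, c k • f (Function.update l k t) := by
  have := map_add_smul_const_aux f c t Finset.univ l
  simpa using this

end LemmaX

section Semi

variable {A : Type u} [CommRing A] (σ : A →+* A)
variable {P : Type v} [AddCommGroup P] [Module A P] {P' : Type v} [AddCommGroup P'] [Module A P']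

/-- `N` with scalars acting through `σ`. -/
def Tw (_σ : A →+* A) (N : Type v) : Type v := N

instance (N : Type v) [AddCommGroup N] : AddCommGroup (Tw σ N) := inferInstanceAs (AddCommGroup N)

instance (N : Type v) [AddCommGroup N] [Module A N] : Module A (Tw σ N) := Module.compHom N σ

theorem Tw.smul_def (N : Type v) [AddCommGroup N] [Module A N] (a : A) (x : Tw σ N) :
    a • x = (show N from (σ a • (show N from x))) := rfl

/-- the alternating map `(x_i) ↦ Φ x_1 ∧ ⋯ ∧ Φ x_r` into the twisted exterior power -/
noncomputable def extSemiAlt (Φ : P →ₛₗ[σ] P') (r : ℕ) :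
    P [⋀^Fin r]→ₗ[A] Tw σ (⋀[A]^r P') where
  toFun x := (exteriorPower.ιMulti A r (fun i => Φ (x i)) : ⋀[A]^r P')
  map_update_add' := by
    intro _ x k y z
    have h : ∀ v : P, (fun i => Φ (Function.update x k v i)) =
        Function.update (fun i => Φ (x i)) k (Φ v) := by
      intro v; funext i
      by_cases hik : i = k
      · subst hik; simp
      · simp [Function.update_of_ne hik]
    rw [h, h, h, map_add]
    exact (exteriorPower.ιMulti A r).map_update_add _ _ _ _
  map_update_smul' := by
    intro _ x k a y
    have h : ∀ v : P, (fun i => Φ (Function.update x k v i)) =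
        Function.update (fun i => Φ (x i)) k (Φ v) := by
      intro v; funext i
      by_cases hik : i = k
      · subst hik; simp
      · simp [Function.update_of_ne hik]
    rw [h, h, LinearMap.map_smulₛₗ]
    exact (exteriorPower.ιMulti A r).map_update_smul _ _ _ _
  map_eq_zero_of_eq' := by
    intro x i j hij hne
    exact (exteriorPower.ιMulti A r).map_eq_zero_of_eq _ (by rw [hij]) hne

/-- The exterior power of a semilinear map. -/
noncomputable def extSemi (Φ : P →ₛₗ[σ] P') (r : ℕ) : ⋀[A]^r P →ₛₗ[σ] ⋀[A]^r P' where
  toFun x := exteriorPower.alternatingMapLinearEquiv (extSemiAlt σ Φ r) x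
  map_add' x y := map_add _ x y
  map_smul' a x := map_smul (exteriorPower.alternatingMapLinearEquiv (extSemiAlt σ Φ r)) a x

theorem extSemi_ιMulti (Φ : P →ₛₗ[σ] P') (r : ℕ) (x : Fin r → P) :
    extSemi σ Φ r (exteriorPower.ιMulti A r x) = exteriorPower.ιMulti A r (fun i => Φ (x i)) :=
  exteriorPower.alternatingMapLinearEquiv_apply_ιMulti (extSemiAlt σ Φ r) x

theorem span_range_extSemi (Φ : P →ₛₗ[σ] P') (r : ℕ)
    (hΦ : Submodule.span A (Set.range Φ) = ⊤) :
    Submodule.span A (Set.range (extSemi σ Φ r)) = ⊤ := by
  rw [eq_top_iff, ← exteriorPower.ιMulti_span_of_span A r P' hΦ, Submodule.span_le]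
  rintro _ ⟨a, ha, rfl⟩
  choose x hx using fun i => ha ⟨i, rfl⟩
  have : a = fun i => Φ (x i) := funext fun i => (hx i).symm
  rw [this, ← extSemi_ιMulti]
  exact Submodule.subset_span ⟨_, rfl⟩

end Semi

section Decomp

variable {A : Type u} [CommRing A] {P : Type v} [AddCommGroup P] [Module A P]
variable (L T : Submodule A P) (hLT : IsCompl L T) (t : P) (I : Ideal A) (r : ℕ)

/-- the span of the wedges of elements of `Q` -/
def wedgeSpan (Q : Submodule A P) (r : ℕ) : Submodule A (⋀[A]^r P) :=
  Submodule.span A (Set.range fun q : Fin r → Q => exteriorPower.ιMulti A r (fun i => (q i : P)))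

theorem ιMulti_mem_wedgeSpan (Q : Submodule A P) (v : Fin r → P) (hv : ∀ i, v i ∈ Q) :
    exteriorPower.ιMulti A r v ∈ wedgeSpan Q r :=
  Submodule.subset_span ⟨fun i => ⟨v i, hv i⟩, rfl⟩

/-- projection to `L` along `T` -/
noncomputable def prL : P →ₗ[A] P := L.projection T hLT

theorem prL_mem (x : P) : prL L T hLT x ∈ L := by
  rw [prL, Submodule.projection_apply]; exact (L.projectionOnto T hLT x).2

theorem prL_of_mem_L (l : P) (hl : l ∈ L) : prL L T hLT l = l := by
  rw [prL, Submodule.projection_apply, Submodule.projectionOnto_apply_of_mem_left hLT hl]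

theorem prL_of_mem_T (y : P) (hy : y ∈ T) : prL L T hLT y = 0 := by
  rw [prL, Submodule.projection_apply, Submodule.projectionOnto_apply_of_mem_right hLT hy,
    Submodule.coe_zero]

theorem prL_prL (x : P) : prL L T hLT (prL L T hLT x) = prL L T hLT x :=
  prL_of_mem_L L T hLT _ (prL_mem L T hLT x)

theorem sub_prL_mem (x : P) : x - prL L T hLT x ∈ T := by
  have h := Submodule.projection_add_projection_eq_self hLT x
  have h2 : x - prL L T hLT x = T.projection L hLT.symm x := by
    rw [prL, sub_eq_iff_eq_add, add_comm]; exact h.symm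
  rw [h2, Submodule.projection_apply]
  exact (T.projectionOnto L hLT.symm x).2

theorem exists_eq_prL_add (hT : T = Submodule.span A {t}) (x : P) :
    ∃ a : A, x = prL L T hLT x + a • t := by
  have h : x - prL L T hLT x ∈ Submodule.span A {t} := by
    rw [← hT]; exact sub_prL_mem L T hLT x
  rw [Submodule.mem_span_singleton] at h
  obtain ⟨a, ha⟩ := h
  exact ⟨a, by rw [ha]; abel⟩

/-- the idempotent `⋀^r (projection to L)` -/
noncomputable def eL : ⋀[A]^r P →ₗ[A] ⋀[A]^r P := exteriorPower.map r (prL L T hLT)

theorem eL_ιMulti (v : Fin r → P) :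
    eL L T hLT r (exteriorPower.ιMulti A r v) =
      exteriorPower.ιMulti A r (fun i => prL L T hLT (v i)) :=
  exteriorPower.map_apply_ιMulti _ _

theorem eL_eL (x : ⋀[A]^r P) : eL L T hLT r (eL L T hLT r x) = eL L T hLT r x := by
  have h : (prL L T hLT) ∘ₗ (prL L T hLT) = prL L T hLT :=
    LinearMap.ext fun x => prL_prL L T hLT x
  have := exteriorPower.map_comp (n := r) (prL L T hLT) (prL L T hLT)
  rw [h] at this
  exact (LinearMap.congr_fun this x).symm

theorem eL_ιMulti_of_mem_L (l : Fin r → P) (hl : ∀ i, l i ∈ L) :
    eL L T hLT r (exteriorPower.ιMulti A r l) = exteriorPower.ιMulti A r l := by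
  rw [eL_ιMulti]
  congr 1
  funext i
  exact prL_of_mem_L L T hLT _ (hl i)

theorem eL_ιMulti_update (l : Fin r → P) (k : Fin r) (y : P) (hy : y ∈ T) :
    eL L T hLT r (exteriorPower.ιMulti A r (Function.update l k y)) = 0 := by
  rw [eL_ιMulti]
  refine (exteriorPower.ιMulti A r).map_coord_zero k ?_
  rw [Function.update_self]
  exact prL_of_mem_T L T hLT y hy

/-- decomposition of a wedge of elements `l i + c i • t` -/
theorem ιMulti_add_smul (l : Fin r → P) (c : Fin r → A) :
    exteriorPower.ιMulti A r (fun i => l i + c i • t) =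
      exteriorPower.ιMulti A r l +
        ∑ k, c k • exteriorPower.ιMulti A r (Function.update l k t) :=
  map_add_smul_const (exteriorPower.ιMulti A r) l c t

theorem mem_Q_iff (hT : T = Submodule.span A {t}) (q : P) (hq : q ∈ L ⊔ I • T) :
    ∃ l ∈ L, ∃ c ∈ I, q = l + c • t := by
  obtain ⟨l, hl, z, hz, rfl⟩ := Submodule.mem_sup.mp hq
  rw [hT, Submodule.mem_smul_span_singleton] at hz
  obtain ⟨c, hc, rfl⟩ := hz
  exact ⟨l, hl, c, hc, rfl⟩

theorem wedgeSpan_le (hT : T = Submodule.span A {t}) :
    wedgeSpan (L ⊔ I • T) r ≤ LinearMap.range (eL L T hLT r) ⊔ I • LinearMap.ker (eL L T hLT r) := by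
  have ht : t ∈ T := by rw [hT]; exact Submodule.mem_span_singleton_self t
  rw [wedgeSpan, Submodule.span_le]
  rintro _ ⟨q, rfl⟩
  choose l hl c hc hq using fun i => mem_Q_iff L T t I hT (q i : P) (q i).2
  have : (fun i => (q i : P)) = fun i => l i + c i • t := funext hq
  change exteriorPower.ιMulti A r (fun i => (q i : P)) ∈ _
  rw [this, ιMulti_add_smul]
  refine Submodule.add_mem _ (Submodule.mem_sup_left ⟨_, eL_ιMulti_of_mem_L L T hLT r l hl⟩)
    (Submodule.sum_mem _ fun k _ => Submodule.mem_sup_right
      (Submodule.smul_mem_smul (hc k) ?_))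
  rw [LinearMap.mem_ker]
  exact eL_ιMulti_update L T hLT r l k t ht

theorem le_wedgeSpan (hT : T = Submodule.span A {t}) :
    LinearMap.range (eL L T hLT r) ⊔ I • LinearMap.ker (eL L T hLT r) ≤ wedgeSpan (L ⊔ I • T) r := by
  have ht : t ∈ T := by rw [hT]; exact Submodule.mem_span_singleton_self t
  have hLQ : L ≤ L ⊔ I • T := le_sup_left
  refine sup_le ?_ ?_
  · rw [LinearMap.range_eq_map, ← exteriorPower.ιMulti_span A r P, Submodule.map_span,
      Submodule.span_le]
    rintro _ ⟨_, ⟨v, rfl⟩, rfl⟩
    rw [eL_ιMulti]
    exact ιMulti_mem_wedgeSpan r _ _ (fun i => hLQ (prL_mem L T hLT (v i)))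
  · rw [Submodule.smul_le]
    intro c hc y hy
    have key : ∀ x : ⋀[A]^r P, c • (x - eL L T hLT r x) ∈ wedgeSpan (L ⊔ I • T) r := by
      intro x
      have hx : x ∈ Submodule.span A (Set.range (exteriorPower.ιMulti A r (M := P))) := by
        rw [exteriorPower.ιMulti_span]; exact Submodule.mem_top
      induction hx using Submodule.span_induction with
      | mem x hx =>
        obtain ⟨v, rfl⟩ := hx
        choose a ha using fun i => exists_eq_prL_add L T hLT t hT (v i)
        have hv : v = fun i => prL L T hLT (v i) + a i • t := funext ha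
        have h1 : exteriorPower.ιMulti A r v - eL L T hLT r (exteriorPower.ιMulti A r v) =
            ∑ k, a k • exteriorPower.ιMulti A r
              (Function.update (fun i => prL L T hLT (v i)) k t) := by
          rw [eL_ιMulti]
          conv_lhs => rw [hv]
          rw [ιMulti_add_smul]
          simp only [← ha]
          abel
        rw [h1, Finset.smul_sum]
        refine Submodule.sum_mem _ fun k _ => ?_
        rw [smul_comm, ← (exteriorPower.ιMulti A r).map_update_smul]
        refine Submodule.smul_mem _ _ (ιMulti_mem_wedgeSpan r _ _ fun i => ?_)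
        by_cases hik : i = k
        · subst hik
          rw [Function.update_self]
          exact Submodule.mem_sup_right (Submodule.smul_mem_smul hc ht)
        · rw [Function.update_of_ne hik]
          exact hLQ (prL_mem L T hLT (v i))
      | zero => simp
      | add x y _ _ hx hy =>
        have : c • (x + y - eL L T hLT r (x + y)) =
            c • (x - eL L T hLT r x) + c • (y - eL L T hLT r y) := by
          rw [map_add, ← smul_add]; congr 1; abel
        rw [this]; exact Submodule.add_mem _ hx hy
      | smul b x _ hx =>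
        have : c • (b • x - eL L T hLT r (b • x)) = b • (c • (x - eL L T hLT r x)) := by
          rw [map_smul]; module
        rw [this]; exact Submodule.smul_mem _ _ hx
    have := key y
    rwa [LinearMap.mem_ker.mp hy, sub_zero] at this

theorem wedgeSpan_eq (hT : T = Submodule.span A {t}) :
    wedgeSpan (L ⊔ I • T) r =
      LinearMap.range (eL L T hLT r) ⊔ I • LinearMap.ker (eL L T hLT r) :=
  le_antisymm (wedgeSpan_le L T hLT t I r hT) (le_wedgeSpan L T hLT t I r hT)

theorem isCompl_eL : IsCompl (LinearMap.range (eL L T hLT r)) (LinearMap.ker (eL L T hLT r)) :=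
  LinearMap.IsProj.isCompl ⟨fun x => ⟨x, rfl⟩, fun x ⟨y, hy⟩ => by rw [← hy, eL_eL]⟩

end Decomp

end Groth.Agent.Lib.Helper60.ExtDisp
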