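import Mathlib
import Groth.Agent.Lib.Helper60.ExtDisp

/-!
# Rank of the kernel of `⋀^r (projection to L)` for `P = L ⊕ T`, `T` free of rank one (helper60)
-/

set_option autoImplicit false
set_option maxHeartbeats 400000

universe u v

namespace Groth.Agent.Lib.Helper60.ExtDisp

open Module

section Diag

variable {A : Type u} [CommRing A] {N : Type v} [AddCommGroup N] [Module A N]

theorem ker_eq_span_of_diag {κ : Type*} (B : Basis κ A N) (e : N →ₗ[A] N) (S : Set κ)
    (h0 : ∀ s ∈ S, e (B s) = 0) (h1 : ∀ s ∉ S, e (B s) = B s) :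
    LinearMap.ker e = Submodule.span A (B '' S) := by
  classical
  apply le_antisymm
  · intro x hx
    rw [Basis.mem_span_image]
    intro s hs
    by_contra hsS
    have hc : B.coord s ∘ₗ e = B.coord s := by
      apply B.ext
      intro s'
      by_cases hs' : s' ∈ S
      · have hne : s' ≠ s := fun h => hsS (h ▸ hs')
        rw [LinearMap.comp_apply, h0 s' hs', map_zero, Basis.coord_apply, Basis.repr_self,
          Finsupp.single_eq_of_ne hne.symm]
      · rw [LinearMap.comp_apply, h1 s' hs']
    have h2 : B.repr x s = 0 := by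
      have := LinearMap.congr_fun hc x
      rw [LinearMap.comp_apply, LinearMap.mem_ker.mp hx, map_zero, Basis.coord_apply] at this
      exact this.symm
    exact (Finsupp.mem_support_iff.mp hs) h2
  · rw [Submodule.span_le]
    rintro _ ⟨s, hs, rfl⟩
    exact LinearMap.mem_ker.mpr (h0 s hs)

/-- a basis of the span of part of a basis -/
noncomputable def spanImageBasis {κ : Type*} (B : Basis κ A N) (S : Set κ) :
    Basis S A (Submodule.span A (Set.range fun s : S => B s)) :=
  Basis.span (B.linearIndependent.comp _ Subtype.val_injective)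

theorem image_eq_range {κ : Type*} (B : Basis κ A N) (S : Set κ) :
    B '' S = Set.range fun s : S => B s := by
  ext x; simp

end Diag

section Rank

variable {A : Type u} [CommRing A] {P : Type v} [AddCommGroup P] [Module A P]
variable (L T : Submodule A P) (hLT : IsCompl L T) (r : ℕ)

/-- the action of `eL` on the basis of `⋀^r P` induced by a basis of `P` adapted to `L ⊕ T` -/
theorem eL_basis {ι : Type*} [LinearOrder ι] (b : Basis ι A P) (t₀ : ι)
    (hbL : ∀ j, j ≠ t₀ → b j ∈ L) (hbT : b t₀ ∈ T) (s : Set.powersetCard ι r) :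
    (t₀ ∈ s → eL L T hLT r (b.exteriorPower r s) = 0) ∧
    (t₀ ∉ s → eL L T hLT r (b.exteriorPower r s) = b.exteriorPower r s) := by
  rw [exteriorPower.basis_apply, exteriorPower.ιMulti_family, eL_ιMulti]
  constructor
  · intro ht
    obtain ⟨k, hk⟩ := (Set.powersetCard.mem_range_ofFinEmbEquiv_symm_iff_mem s t₀).mpr ht
    refine (exteriorPower.ιMulti A r).map_coord_zero k ?_
    rw [Function.comp_apply, hk]
    exact prL_of_mem_T L T hLT _ hbT
  · intro ht
    congr 1
    funext i
    rw [Function.comp_apply]
    refine prL_of_mem_L L T hLT _ (hbL _ ?_)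
    rintro h
    exact ht ((Set.powersetCard.mem_range_ofFinEmbEquiv_symm_iff_mem s t₀).mp ⟨i, h⟩)

end Rank

end Groth.Agent.Lib.Helper60.ExtDisp
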