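import Mathlib

/-!
# Lifting homomorphisms commuting with Frobenius-semilinear isomorphisms (helper60)

`W` a commutative ring with an endomorphism `σ`, `P₁` free with basis `b₁`, `F₁ : P₁ → P₁`
`σ`-semilinear carrying `b₁` to a basis, `F₂ : P₂ → P₂` `σ`-semilinear. The operator `U` on
`Hom(P₁, P₂)` with `U β ∘ F₁ = F₂ ∘ β`; solving `α = U α` near `α₀` when `σ` is nilpotent on an
ideal `𝔠` (Zink, *The display of a formal p-divisible group*, Lemma 42).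
-/

set_option autoImplicit false
set_option maxHeartbeats 400000

universe u v w z

namespace Groth.Agent.Lib.Helper60.FrobLift

variable {W : Type u} [CommRing W] {σ : W →+* W}
variable {P₁ : Type v} [AddCommGroup P₁] [Module W P₁]
variable {P₂ : Type w} [AddCommGroup P₂] [Module W P₂]
variable {ι₁ : Type z}
variable (b₁ : Module.Basis ι₁ W P₁) (F₁ : P₁ →ₛₗ[σ] P₁) (F₂ : P₂ →ₛₗ[σ] P₂)
variable (hli : LinearIndependent W (fun i => F₁ (b₁ i)))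
variable (hsp : Submodule.span W (Set.range fun i => F₁ (b₁ i)) = ⊤)

/-- The basis `F₁ b₁`. -/
noncomputable def basis' : Module.Basis ι₁ W P₁ := Module.Basis.mk hli hsp.ge

theorem basis'_apply (i : ι₁) : basis' b₁ F₁ hli hsp i = F₁ (b₁ i) := by
  rw [basis', Module.Basis.mk_apply]

/-- The operator `U` with `U β (F₁ x) = F₂ (β x)`. -/
noncomputable def U : (P₁ →ₗ[W] P₂) →+ (P₁ →ₗ[W] P₂) where
  toFun β := (basis' b₁ F₁ hli hsp).constr W (fun i => F₂ (β (b₁ i)))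
  map_zero' := by
    have : (fun i => F₂ ((0 : P₁ →ₗ[W] P₂) (b₁ i))) = 0 := by
      funext i; rw [LinearMap.zero_apply, map_zero]; rfl
    rw [this, map_zero]
  map_add' β γ := by
    have : (fun i => F₂ ((β + γ) (b₁ i))) = (fun i => F₂ (β (b₁ i))) + (fun i => F₂ (γ (b₁ i))) := by
      funext i; rw [LinearMap.add_apply, map_add]; rfl
    rw [this, map_add]

theorem U_basis' (β : P₁ →ₗ[W] P₂) (i : ι₁) :
    U b₁ F₁ F₂ hli hsp β (F₁ (b₁ i)) = F₂ (β (b₁ i)) := by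
  rw [← basis'_apply b₁ F₁ hli hsp i]
  exact Module.Basis.constr_basis _ W _ i

theorem U_apply (β : P₁ →ₗ[W] P₂) (x : P₁) :
    U b₁ F₁ F₂ hli hsp β (F₁ x) = F₂ (β x) := by
  have h : (U b₁ F₁ F₂ hli hsp β).comp F₁ = F₂.comp β := by
    apply b₁.ext
    intro i
    rw [LinearMap.comp_apply, LinearMap.comp_apply, U_basis']
  exact LinearMap.congr_fun h x

theorem U_unique (β γ : P₁ →ₗ[W] P₂) (h : ∀ x, γ (F₁ x) = F₂ (β x)) :
    γ = U b₁ F₁ F₂ hli hsp β := by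
  apply (basis' b₁ F₁ hli hsp).ext
  intro i
  rw [basis'_apply, h, U_basis']

theorem F_mem (I : Ideal W) (y : P₂) (hy : y ∈ I • (⊤ : Submodule W P₂)) :
    F₂ y ∈ (I.map σ) • (⊤ : Submodule W P₂) := by
  refine Submodule.smul_induction_on hy (fun r hr n _ => ?_) (fun x y hx hy => ?_)
  · rw [map_smulₛₗ]
    exact Submodule.smul_mem_smul (Ideal.mem_map_of_mem σ hr) Submodule.mem_top
  · rw [map_add]; exact Submodule.add_mem _ hx hy

include hsp in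
/-- If a linear map takes values in `N` on the basis `F₁ b₁`, it does so everywhere. -/
theorem forall_mem_of_basis' (γ : P₁ →ₗ[W] P₂) (N : Submodule W P₂)
    (h : ∀ i, γ (F₁ (b₁ i)) ∈ N) (x : P₁) : γ x ∈ N := by
  have h1 : Submodule.map γ ⊤ ≤ N := by
    rw [← hsp, Submodule.map_span_le]
    rintro _ ⟨i, rfl⟩
    exact h i
  exact h1 (Submodule.mem_map_of_mem Submodule.mem_top)

theorem U_mem (I : Ideal W) (β : P₁ →ₗ[W] P₂)
    (hβ : ∀ x, β x ∈ I • (⊤ : Submodule W P₂)) (x : P₁) :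
    U b₁ F₁ F₂ hli hsp β x ∈ (I.map σ) • (⊤ : Submodule W P₂) := by
  apply forall_mem_of_basis' b₁ F₁ hsp
  intro i
  rw [U_basis']
  exact F_mem F₂ I _ (hβ _)

theorem iterate_U_mem (I : Ideal W) (β : P₁ →ₗ[W] P₂)
    (hβ : ∀ x, β x ∈ I • (⊤ : Submodule W P₂)) (k : ℕ) :
    ∀ x, ((U b₁ F₁ F₂ hli hsp)^[k] β) x ∈ (I.map (σ ^ k)) • (⊤ : Submodule W P₂) := by
  induction k with
  | zero =>
    intro x
    rw [pow_zero, Function.iterate_zero, id]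
    have : I.map (1 : W →+* W) = I := Ideal.map_id I
    rw [this]
    exact hβ x
  | succ k ih =>
    intro x
    rw [Function.iterate_succ_apply', pow_succ']
    have : I.map (σ * σ ^ k) = (I.map (σ ^ k)).map σ := (Ideal.map_map (σ ^ k) σ).symm
    rw [this]
    exact U_mem b₁ F₁ F₂ hli hsp _ _ ih x

theorem map_pow_le_self (𝔠 : Ideal W) (h𝔠 : ∀ x ∈ 𝔠, σ x ∈ 𝔠) (k : ℕ) : 𝔠.map (σ ^ k) ≤ 𝔠 := by
  induction k with
  | zero => rw [pow_zero]; exact (Ideal.map_id 𝔠).le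
  | succ k ih =>
    rw [pow_succ']
    have : 𝔠.map (σ * σ ^ k) = (𝔠.map (σ ^ k)).map σ := (Ideal.map_map (σ ^ k) σ).symm
    rw [this]
    refine (Ideal.map_mono ih).trans ?_
    rw [Ideal.map_le_iff_le_comap]
    exact fun x hx => h𝔠 x hx

theorem map_pow_eq_bot (𝔠 : Ideal W) (K : ℕ) (hK : ∀ x ∈ 𝔠, (σ^[K]) x = 0) :
    𝔠.map (σ ^ K) = ⊥ := by
  rw [eq_bot_iff, Ideal.map_le_iff_le_comap]
  intro x hx
  rw [Ideal.mem_comap, Ideal.mem_bot, RingHom.coe_pow]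
  exact hK x hx

/-- A linear map fixed by `U` with values in `𝔠 P₂` vanishes, if `σ^K` kills `𝔠`. -/
theorem eq_zero_of_U_eq (𝔠 : Ideal W) (K : ℕ) (hK : ∀ x ∈ 𝔠, (σ^[K]) x = 0)
    (δ : P₁ →ₗ[W] P₂) (hδ : ∀ x, δ x ∈ 𝔠 • (⊤ : Submodule W P₂))
    (hU : U b₁ F₁ F₂ hli hsp δ = δ) : δ = 0 := by
  have h1 : (U b₁ F₁ F₂ hli hsp)^[K] δ = δ := Function.iterate_fixed hU K
  apply LinearMap.ext
  intro x
  have h2 := iterate_U_mem b₁ F₁ F₂ hli hsp 𝔠 δ hδ K x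
  rw [h1, map_pow_eq_bot 𝔠 K hK, Submodule.bot_smul, Submodule.mem_bot] at h2
  rw [h2, LinearMap.zero_apply]

include b₁ hli hsp in
/-- Existence of the lift (Zink Lemma 42). -/
theorem exists_lift (𝔠 : Ideal W) (h𝔠 : ∀ x ∈ 𝔠, σ x ∈ 𝔠) (K : ℕ)
    (hK : ∀ x ∈ 𝔠, (σ^[K]) x = 0) (α₀ : P₁ →ₗ[W] P₂)
    (hα₀ : ∀ x : P₁, F₂ (α₀ x) - α₀ (F₁ x) ∈ 𝔠 • (⊤ : Submodule W P₂)) :
    ∃ α : P₁ →ₗ[W] P₂,
      (∀ x : P₁, α x - α₀ x ∈ 𝔠 • (⊤ : Submodule W P₂)) ∧ ∀ x : P₁, F₂ (α x) = α (F₁ x) := by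
  set Uh := U b₁ F₁ F₂ hli hsp with hUh
  set ρ : P₁ →ₗ[W] P₂ := Uh α₀ - α₀ with hρ
  have hρmem : ∀ x, ρ x ∈ 𝔠 • (⊤ : Submodule W P₂) := by
    apply forall_mem_of_basis' b₁ F₁ hsp
    intro i
    rw [hρ, LinearMap.sub_apply, hUh, U_basis']
    exact hα₀ (b₁ i)
  have hiter : ∀ k x, (Uh^[k] ρ) x ∈ 𝔠 • (⊤ : Submodule W P₂) := by
    intro k x
    exact Submodule.smul_mono_left (map_pow_le_self 𝔠 h𝔠 k)
      (iterate_U_mem b₁ F₁ F₂ hli hsp 𝔠 ρ hρmem k x)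
  have hK0 : Uh^[K] ρ = 0 := by
    apply LinearMap.ext
    intro x
    have h2 := iterate_U_mem b₁ F₁ F₂ hli hsp 𝔠 ρ hρmem K x
    rw [map_pow_eq_bot 𝔠 K hK, Submodule.bot_smul, Submodule.mem_bot] at h2
    rw [h2, LinearMap.zero_apply]
  set η : P₁ →ₗ[W] P₂ := ∑ k ∈ Finset.range K, Uh^[k] ρ with hη
  have hηU : η - Uh η = ρ := by
    rw [hη, map_sum, ← Finset.sum_sub_distrib]
    have : ∀ k ∈ Finset.range K, Uh^[k] ρ - Uh (Uh^[k] ρ) = -(Uh^[k + 1] ρ - Uh^[k] ρ) := by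
      intro k _
      rw [Function.iterate_succ_apply', neg_sub]
    rw [Finset.sum_congr rfl this, Finset.sum_neg_distrib,
      Finset.sum_range_sub (fun k => Uh^[k] ρ), hK0]
    simp
  refine ⟨α₀ + η, ?_, ?_⟩
  · intro x
    rw [LinearMap.add_apply, add_sub_cancel_left, hη, LinearMap.sum_apply]
    exact Submodule.sum_mem _ (fun k _ => hiter k x)
  · have hfix : Uh (α₀ + η) = α₀ + η := by
      have h1 : Uh α₀ = ρ + α₀ := by rw [hρ]; abel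
      have h2 : Uh η = η - ρ := by rw [← hηU]; abel
      rw [map_add, h1, h2]
      abel
    intro x
    rw [← U_apply b₁ F₁ F₂ hli hsp, ← hUh, hfix]

include b₁ hli hsp in
/-- Uniqueness of the lift. -/
theorem lift_unique (𝔠 : Ideal W) (K : ℕ) (hK : ∀ x ∈ 𝔠, (σ^[K]) x = 0)
    (α₀ α α' : P₁ →ₗ[W] P₂)
    (h1 : ∀ x : P₁, α x - α₀ x ∈ 𝔠 • (⊤ : Submodule W P₂)) (h2 : ∀ x : P₁, F₂ (α x) = α (F₁ x))
    (h1' : ∀ x : P₁, α' x - α₀ x ∈ 𝔠 • (⊤ : Submodule W P₂))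
    (h2' : ∀ x : P₁, F₂ (α' x) = α' (F₁ x)) : α = α' := by
  rw [← sub_eq_zero]
  apply eq_zero_of_U_eq b₁ F₁ F₂ hli hsp 𝔠 K hK
  · intro x
    have : (α - α') x = (α x - α₀ x) - (α' x - α₀ x) := by
      rw [LinearMap.sub_apply]; abel
    rw [this]
    exact Submodule.sub_mem _ (h1 x) (h1' x)
  · symm
    apply U_unique
    intro x
    rw [LinearMap.sub_apply, LinearMap.sub_apply, map_sub, h2, h2']

end Groth.Agent.Lib.Helper60.FrobLift
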