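import Groth.Agent.Lib.Helper43.GaGm
import Groth.Prelude.Def_Red2
import Mathlib.AlgebraicGeometry.Properties
import Mathlib.RingTheory.Polynomial.Nilpotent

/-!
# Homomorphisms `G_a → G_m` over a reduced base are trivial
-/

set_option autoImplicit false
set_option maxHeartbeats 400000
universe u
open CategoryTheory MonoidalCategory CartesianMonoidalCategory MonObj GrpObj AlgebraicGeometry CategoryTheory.Limits

namespace Groth.Agent.Lib.Helper60.GaGmRed

open Groth.Agent.Lib.Helper43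

section core

variable {S : Scheme.{u}} (φ : Red.Ga S ⟶ Red.Gm S) [IsMonHom φ]

/-- core: over `Spec D → Spec B → S` with `B` reduced -/
theorem gm_eq_one_Spec (B D : Type u) [CommRing B] [IsReduced B] [CommRing D] (ρ : B →+* D)
    (j : Spec (CommRingCat.of B) ⟶ S)
    (x : Over.mk (Spec.map (CommRingCat.ofHom ρ) ≫ j) ⟶ Red.Ga S) :
    Red.gmFn (x ≫ φ) = 1 := by
  let BT := Polynomial B
  let eD := Scheme.ΓSpecIso (CommRingCat.of D)
  let eBT := Scheme.ΓSpecIso (CommRingCat.of BT)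
  let X : Over S := Over.mk (Spec.map (CommRingCat.ofHom ρ) ≫ j)
  let Y : Over S := Over.mk (Spec.map (CommRingCat.ofHom (Polynomial.C : B →+* BT)) ≫ j)
  obtain ⟨τ, hτ⟩ : ∃ τ : Y ⟶ Red.Ga S, Red.gaFn τ = eBT.inv.hom (Polynomial.X : BT) :=
    gaFn_surjective _
  have hτ' : eBT.hom.hom (Red.gaFn τ) = (Polynomial.X : BT) := by
    rw [hτ]
    exact congrArg (fun ψ => ψ.hom (Polynomial.X : BT)) eBT.inv_hom_id
  have heBT_inj : Function.Injective eBT.hom.hom :=
    (ConcreteCategory.bijective_of_isIso eBT.hom).1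
  have heD_inj : Function.Injective eD.hom.hom :=
    (ConcreteCategory.bijective_of_isIso eD.hom).1
  -- sections `X ⟶ Y` from elements of `D`
  have hsec : ∀ d : D, ∃ σ : X ⟶ Y, ∀ r : Γ(Y.left, ⊤),
      eD.hom.hom (σ.left.appTop r) = Polynomial.eval₂ ρ d (eBT.hom.hom r) := by
    intro d
    let α : BT →+* D := Polynomial.eval₂RingHom ρ d
    have hα : α.comp Polynomial.C = ρ := by
      ext b
      exact Polynomial.eval₂_C ρ d
    refine ⟨Over.homMk (Spec.map (CommRingCat.ofHom α)) ?_, ?_⟩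
    · change Spec.map (CommRingCat.ofHom α) ≫ Spec.map (CommRingCat.ofHom Polynomial.C) ≫ j = _
      rw [← Category.assoc, ← Spec.map_comp, ← CommRingCat.ofHom_comp, hα]
      rfl
    · intro r
      have := Scheme.ΓSpecIso_naturality (CommRingCat.ofHom α)
      exact congrArg (fun ψ => ψ.hom r) this
  -- the unit `w` on `Y`
  let w := Red.gmFn (τ ≫ φ)
  have hw : IsUnit (eBT.hom.hom w) := (gmFn_isUnit (τ ≫ φ)).map eBT.hom.hom
  obtain ⟨b, hb⟩ : ∃ b : B, eBT.hom.hom w = Polynomial.C b := by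
    rw [Polynomial.isUnit_iff_coeff_isUnit_isNilpotent] at hw
    refine ⟨(eBT.hom.hom w).coeff 0, ?_⟩
    ext n
    rw [Polynomial.coeff_C]
    split_ifs with hn
    · rw [hn]
    · exact (hw.2 n hn).eq_zero
  -- evaluate at a point
  have heval : ∀ (d : D) (y : X ⟶ Red.Ga S), eD.hom.hom (Red.gaFn y) = d →
      eD.hom.hom (Red.gmFn (y ≫ φ)) = ρ b := by
    intro d y hy
    obtain ⟨σ, hσ⟩ := hsec d
    have h1 : σ ≫ τ = y := by
      apply gaFn_injective
      apply heD_inj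
      rw [gaFn_comp, hσ, hτ', Polynomial.eval₂_X, hy]
    rw [← h1, Category.assoc, gmFn_comp, hσ]
    change Polynomial.eval₂ ρ d (eBT.hom.hom w) = _
    rw [hb, Polynomial.eval₂_C]
  have h0 : ρ b = 1 := by
    have := heval 0 1 (by rw [gaFn_one, map_zero])
    rw [MonObj.one_comp φ, gmFn_one, map_one] at this
    exact this.symm
  apply heD_inj
  rw [heval _ x rfl, h0, map_one]

end core

section general

variable {S : Scheme.{u}} (φ : Red.Ga S ⟶ Red.Gm S) [IsMonHom φ]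

theorem gm_eq_one_affine (T : Scheme.{u}) [IsAffine T] [IsReduced T] (j : T ⟶ S)
    (W : Scheme.{u}) [IsAffine W] (g : W ⟶ T) (x : Over.mk (g ≫ j) ⟶ Red.Ga S) :
    Red.gmFn (x ≫ φ) = 1 := by
  let eW := W.isoSpec
  let eT := T.isoSpec
  let j' : Spec (CommRingCat.of Γ(T, ⊤)) ⟶ S := eT.inv ≫ j
  let g' : Spec (CommRingCat.of Γ(W, ⊤)) ⟶ Spec (CommRingCat.of Γ(T, ⊤)) := eW.inv ≫ g ≫ eT.hom
  let ρ : Γ(T, ⊤) →+* Γ(W, ⊤) := (Spec.preimage g').hom
  have hρ : Spec.map (CommRingCat.ofHom ρ) = g' := Spec.map_preimage g'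
  let gW : Over.mk (Spec.map (CommRingCat.ofHom ρ) ≫ j') ⟶ Over.mk (g ≫ j) :=
    Over.homMk eW.inv (by
      change eW.inv ≫ g ≫ j = Spec.map (CommRingCat.ofHom ρ) ≫ eT.inv ≫ j
      rw [hρ]
      simp [g'])
  have h0 := gm_eq_one_Spec φ Γ(T, ⊤) Γ(W, ⊤) ρ j' (gW ≫ x)
  rw [Category.assoc, gmFn_comp] at h0
  have h1 : eW.hom.appTop (eW.inv.appTop (Red.gmFn (x ≫ φ))) = Red.gmFn (x ≫ φ) := by
    have := congrArg (fun ψ => ψ.hom (Red.gmFn (x ≫ φ))) (Scheme.Hom.comp_appTop eW.hom eW.inv)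
    simp only [Iso.hom_inv_id] at this
    rw [CommRingCat.comp_apply] at this
    rw [← this]
    simp
  rw [← h1]
  have h2 : eW.inv.appTop (Red.gmFn (x ≫ φ)) = 1 := h0
  rw [h2, map_one]

theorem gm_eq_one_of_factors (T : Scheme.{u}) [IsAffine T] [IsReduced T] (j : T ⟶ S)
    (X : Over S) (g : X.left ⟶ T) (hg : g ≫ j = X.hom) (x : X ⟶ Red.Ga S) :
    Red.gmFn (x ≫ φ) = 1 := by
  have : Red.gmFn (x ≫ φ) - 1 = 0 := by
    apply Scheme.zero_of_zero_cover _ X.left.affineCover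
    intro i
    let Wi : Over S := Over.mk ((X.left.affineCover.f i ≫ g) ≫ j)
    let gi : Wi ⟶ X := Over.homMk (X.left.affineCover.f i) (by
      change X.left.affineCover.f i ≫ X.hom = (X.left.affineCover.f i ≫ g) ≫ j
      rw [Category.assoc, hg])
    have h2 := gm_eq_one_affine φ T j (X.left.affineCover.X i) (X.left.affineCover.f i ≫ g)
      (gi ≫ x)
    have h3 : (gi ≫ x) ≫ φ = gi ≫ (x ≫ φ) := Category.assoc _ _ _
    rw [h3, gmFn_comp] at h2
    rw [map_sub, map_one]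
    exact sub_eq_zero.mpr h2
  exact sub_eq_zero.mp this

theorem hom_Ga_Gm_eq_one [IsReduced S] : φ = 1 := by
  apply gmFn_injective
  rw [gmFn_one]
  have : Red.gmFn φ - 1 = 0 := by
    let 𝒰 := S.affineCover.pullback₁ (Red.Ga S).hom
    apply Scheme.zero_of_zero_cover _ 𝒰
    intro i
    let Xi : Over S := Over.mk (𝒰.f i ≫ (Red.Ga S).hom)
    let gi : Xi ⟶ Red.Ga S := Over.homMk (𝒰.f i) rfl
    haveI : IsReduced (S.affineCover.X i) := isReduced_of_isOpenImmersion (S.affineCover.f i)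
    have h2 := gm_eq_one_of_factors φ (S.affineCover.X i) (S.affineCover.f i) Xi
      (S.affineCover.pullbackHom (Red.Ga S).hom i)
      (S.affineCover.pullbackHom_map (Red.Ga S).hom i) gi
    rw [gmFn_comp] at h2
    rw [map_sub, map_one]
    exact sub_eq_zero.mpr h2
  exact sub_eq_zero.mp this

end general

end Groth.Agent.Lib.Helper60.GaGmRed
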