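import Mathlib
import Groth.Agent.Lib.Helper60.AbGen
import Groth.Agent.Lib.Helper24.GeomRedScheme
import Groth.Agent.Lib.Helper40.DensePts

/-!
# Closures of groups of rational points (helper60)
-/

universe u

open CategoryTheory MonoidalCategory CartesianMonoidalCategory MonObj GrpObj AlgebraicGeometry
  CategoryTheory.Limits
open scoped TensorProduct

namespace Groth.Agent.Lib.Helper60.RatClosure

variable {k : Type u} [Field k]

/-- If the `k`-algebra maps `R → k` separate the elements of `R`, then `K ⊗ R` is reduced for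
every field extension `K` of `k`. -/
lemma isReduced_tensor_of_points (R K : Type u) [CommRing R] [Algebra k R] [Field K] [Algebra k K]
    (hS : ∀ a : R, (∀ σ : R →ₐ[k] k, σ a = 0) → a = 0) : IsReduced (K ⊗[k] R) := by
  refine ⟨fun x hx => ?_⟩
  refine Groth.Agent.Lib.Helper40.DensePts.eq_zero_of_forall_lTensor (V := K) (K := k)
    {g | ∃ σ : R →ₐ[k] k, g = σ.toLinearMap} ?_ x ?_
  · intro a ha
    exact hS a (fun σ => ha _ ⟨σ, rfl⟩)
  · rintro _ ⟨σ, rfl⟩
    have hnil : IsNilpotent (Algebra.TensorProduct.map (AlgHom.id k K) σ x) := hx.map _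
    haveI : IsReduced (K ⊗[k] k) :=
      isReduced_of_injective (Algebra.TensorProduct.rid k k K).toRingEquiv.toRingHom
        (Algebra.TensorProduct.rid k k K).injective
    have h0 := hnil.eq_zero
    have hrel : ∀ y : K ⊗[k] R, LinearMap.lTensor K σ.toLinearMap y =
        Algebra.TensorProduct.map (AlgHom.id k K) σ y := by
      intro y
      induction y using TensorProduct.induction_on with
      | zero => simp
      | tmul a b => simp
      | add a b ha hb => rw [map_add, map_add, ha, hb]
    rw [hrel, h0]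

/-- If the `k`-algebra maps `R → k` separate the elements of `R`, then `Spec R` is geometrically
reduced over `k`. -/
lemma geometricallyReduced_SpecMap_of_points (R : Type u) [CommRing R] [Algebra k R]
    (hS : ∀ a : R, (∀ σ : R →ₐ[k] k, σ a = 0) → a = 0) :
    GeometricallyReduced (Spec.map (CommRingCat.ofHom (algebraMap k R))) := by
  rw [geometricallyReduced_iff, geometrically_iff_of_commRing_of_isClosedUnderIsomorphisms]
  intro K _ _
  have e := pullbackSpecIso k R K
  haveI : IsReduced (K ⊗[k] R) := isReduced_tensor_of_points R K hS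
  haveI : IsReduced (R ⊗[k] K) :=
    isReduced_of_injective (Algebra.TensorProduct.comm k R K).toRingEquiv.toRingHom
      (Algebra.TensorProduct.comm k R K).injective
  haveI : IsReduced (Spec (CommRingCat.of (R ⊗[k] K))) := inferInstance
  exact isReduced_of_isOpenImmersion e.hom

/-- A reduced scheme locally of finite type over a field with a dense set of rational points is
geometrically reduced. -/
theorem geometricallyReduced_of_dense_points {X : Scheme.{u}} (f : X ⟶ Spec (CommRingCat.of k))
    [LocallyOfFiniteType f] [IsReduced X] (D : Set X) (hD : Dense D)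
    (hrat : ∀ x ∈ D, ∃ s : Spec (CommRingCat.of k) ⟶ X, s ≫ f = 𝟙 _ ∧
      s (IsLocalRing.closedPoint k) = x) : GeometricallyReduced f := by
  refine Groth.Agent.Lib.Helper24.GeomRedScheme.geometricallyReduced_of_openCover f
    (fun i => X.affineOpenCover.openCover.X i) (fun i => X.affineOpenCover.openCover.f i)
    (fun x => X.affineOpenCover.openCover.exists_eq x) (fun i => ?_)
  let R : CommRingCat.{u} := X.affineOpenCover.X i
  let g : Spec R ⟶ X := X.affineOpenCover.f i
  obtain ⟨φ, hφ⟩ := Spec.map_surjective (g ≫ f)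
  algebraize [φ.hom]
  have halg : Spec.map (CommRingCat.ofHom (algebraMap k R)) = g ≫ f := hφ
  haveI : IsReduced (Spec R) := isReduced_of_isOpenImmersion g
  haveI : _root_.IsReduced R := (affine_isReduced_iff R).mp inferInstance
  have hS : ∀ a : R, (∀ σ : R →ₐ[k] k, σ a = 0) → a = 0 := by
    intro a ha
    by_contra hne
    have hnil : ¬ IsNilpotent a := fun h => hne (h.eq_zero)
    have hbo : (PrimeSpectrum.basicOpen a : Set (PrimeSpectrum R)).Nonempty := by
      rw [Set.nonempty_iff_ne_empty]
      intro h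
      apply hnil
      rw [← PrimeSpectrum.basicOpen_eq_bot_iff]
      exact TopologicalSpace.Opens.ext h
    have hopen : IsOpen (g '' (PrimeSpectrum.basicOpen a : Set (PrimeSpectrum R))) :=
      g.isOpenEmbedding.isOpenMap _ (PrimeSpectrum.basicOpen a).isOpen
    obtain ⟨x, ⟨𝔭, h𝔭, rfl⟩, hxD⟩ := hD.inter_open_nonempty _ hopen (hbo.image _)
    obtain ⟨s, hs, hsx⟩ := hrat _ hxD
    have hrange : Set.range s ⊆ Set.range g := by
      rintro _ ⟨y, rfl⟩
      rw [Subsingleton.elim (α := PrimeSpectrum k) y (IsLocalRing.closedPoint k), hsx]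
      exact ⟨𝔭, rfl⟩
    let t : Spec (CommRingCat.of k) ⟶ Spec R := IsOpenImmersion.lift g s hrange
    have ht : t ≫ g = s := IsOpenImmersion.lift_fac g s hrange
    have htp : t (IsLocalRing.closedPoint k) = 𝔭 := by
      apply g.isOpenEmbedding.injective
      rw [← hsx, ← ht]; rfl
    obtain ⟨τ, hτ⟩ := Spec.map_surjective t
    have hτφ : φ ≫ τ = 𝟙 _ := by
      apply Spec.map_injective
      rw [Spec.map_comp, hτ, hφ, ← Category.assoc, ht, hs, Spec.map_id]
    let σ : R →ₐ[k] k :=
      { τ.hom with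
        commutes' := fun c => by
          show τ.hom (φ.hom c) = c
          have := congrArg (fun m => m.hom c) hτφ
          exact this }
    have h0 : τ.hom a = 0 := ha σ
    have hmem : a ∈ 𝔭.asIdeal := by
      rw [← htp, ← hτ]
      show a ∈ Ideal.comap τ.hom (IsLocalRing.closedPoint k).asIdeal
      rw [Ideal.mem_comap, h0]
      exact Ideal.zero_mem _
    exact h𝔭 hmem
  show GeometricallyReduced (g ≫ f)
  rw [← halg]
  exact geometricallyReduced_SpecMap_of_points R hS

section Sect

variable (X Y : Over (Spec (CommRingCat.of k)))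

/-- The section `y ↦ (s, y)` of a rational point `s` is the fibre of the first projection. -/
lemma isPullback_sect (s : 𝟙_ (Over (Spec (CommRingCat.of k))) ⟶ X) :
    IsPullback (lift (toUnit Y ≫ s) (𝟙 Y)).left (toUnit Y).left (fst X Y).left s.left := by
  have hR : IsPullback (snd X Y).left (fst X Y).left Y.hom X.hom :=
    (IsPullback.of_hasPullback X.hom Y.hom).flip
  refine IsPullback.of_right ?_ ?_ hR
  · have h1 : (lift (toUnit Y ≫ s) (𝟙 Y)).left ≫ (snd X Y).left = 𝟙 Y.left := by
      rw [← Over.comp_left, lift_snd]; rfl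
    have h2 : s.left ≫ X.hom = 𝟙 _ := Over.w s
    rw [h1, h2]
    exact IsPullback.of_horiz_isIso ⟨by simp⟩
  · rw [← Over.comp_left, lift_fst]; rfl

lemma mem_range_sect (s : 𝟙_ (Over (Spec (CommRingCat.of k))) ⟶ X) (w : (X ⊗ Y).left)
    (hw : (fst X Y).left w = s.left (IsLocalRing.closedPoint k)) :
    w ∈ Set.range (lift (toUnit Y ≫ s) (𝟙 Y)).left := by
  have sq := isPullback_sect X Y s
  obtain ⟨z, hz1, -⟩ := Scheme.Pullback.exists_preimage_pullback (f := (fst X Y).left)
    (g := s.left) w (IsLocalRing.closedPoint k) hw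
  refine ⟨sq.isoPullback.inv z, ?_⟩
  rw [← Scheme.Hom.comp_apply, sq.isoPullback_inv_fst]; exact hz1

/-- Pairs of points from dense sets of rational points are dense in the product. -/
lemma dense_pairs (D₁ : Set X.left) (D₂ : Set Y.left) (hD₁ : Dense D₁) (hD₂ : Dense D₂)
    (h₁ : ∀ x ∈ D₁, ∃ s : 𝟙_ (Over (Spec (CommRingCat.of k))) ⟶ X,
      s.left (IsLocalRing.closedPoint k) = x) :
    Dense {w : (X ⊗ Y).left | (fst X Y).left w ∈ D₁ ∧ (snd X Y).left w ∈ D₂} := by
  haveI : Subsingleton ↥(Spec (CommRingCat.of k)) :=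
    inferInstanceAs (Subsingleton (PrimeSpectrum k))
  haveI : UniversallyOpen (fst X Y).left := by
    rw [Over.fst_left]; infer_instance
  rw [dense_iff_inter_open]
  intro O hO hOne
  have hop : IsOpen ((fst X Y).left '' O) := (fst X Y).left.isOpenMap _ hO
  obtain ⟨x, ⟨w₀, hw₀, rfl⟩, hxD⟩ := hD₁.inter_open_nonempty _ hop (hOne.image _)
  obtain ⟨s, hs⟩ := h₁ _ hxD
  obtain ⟨y₀, rfl⟩ := mem_range_sect X Y s w₀ hs.symm
  have hop2 : IsOpen ((lift (toUnit Y ≫ s) (𝟙 Y)).left ⁻¹' O) :=
    hO.preimage (lift (toUnit Y ≫ s) (𝟙 Y)).left.continuous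
  obtain ⟨y, hyO, hyD⟩ := hD₂.inter_open_nonempty _ hop2 ⟨y₀, hw₀⟩
  refine ⟨(lift (toUnit Y ≫ s) (𝟙 Y)).left y, hyO, ?_, ?_⟩
  · show ((lift (toUnit Y ≫ s) (𝟙 Y)).left ≫ (fst X Y).left) y ∈ D₁
    rw [← Over.comp_left, lift_fst, Over.comp_left]
    show s.left ((toUnit Y).left y) ∈ D₁
    have hpt : (toUnit Y).left y = IsLocalRing.closedPoint k :=
      Subsingleton.elim (α := ↥(Spec (CommRingCat.of k))) _ _
    rw [hpt, hs]
    have : (fst X Y).left ((lift (toUnit Y ≫ s) (𝟙 Y)).left y₀) = s.left (IsLocalRing.closedPoint k) :=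
      hs.symm ▸ rfl
    rw [hs] at this
    rw [← this]; exact hxD
  · show ((lift (toUnit Y ≫ s) (𝟙 Y)).left ≫ (snd X Y).left) y ∈ D₂
    rw [← Over.comp_left, lift_snd]; exact hyD

end Sect

end Groth.Agent.Lib.Helper60.RatClosure
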