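import Mathlib
import Groth.Agent.Lib.Helper60.RatClosure
import Groth.Agent.S7795

/-!
# The Zariski closure of a group of rational points is a smooth subgroup (helper60)
-/

universe u

open CategoryTheory MonoidalCategory CartesianMonoidalCategory MonObj GrpObj AlgebraicGeometry
  CategoryTheory.Limits

namespace Groth.Agent.Lib.Helper60.RatGroup

open Groth.Agent.Lib.Helper60.AbGen Groth.Agent.Lib.Helper60.RatClosure

variable {k : Type u} [Field k]

theorem exists_closure_subgroup (G : Over (Spec (CommRingCat.of k))) [GrpObj G]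
    [LocallyOfFiniteType G.hom]
    (S : Subgroup (𝟙_ (Over (Spec (CommRingCat.of k))) ⟶ G)) :
    ∃ (H : Over (Spec (CommRingCat.of k))) (_ : GrpObj H) (i : H ⟶ G), IsMonHom i ∧
      IsClosedImmersion i.left ∧ Smooth H.hom ∧
      Set.range i.left =
        closure ((fun s : (𝟙_ (Over (Spec (CommRingCat.of k))) ⟶ G) =>
          s.left (IsLocalRing.closedPoint k)) '' (S : Set _)) := by
  haveI : Subsingleton ↥(Spec (CommRingCat.of k)) :=
    inferInstanceAs (Subsingleton (PrimeSpectrum k))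
  let pt : (𝟙_ (Over (Spec (CommRingCat.of k))) ⟶ G) → G.left :=
    fun s => s.left (IsLocalRing.closedPoint k)
  let P : Set G.left := pt '' (S : Set _)
  let Z : Set G.left := closure P
  have hZcl : IsClosed Z := isClosed_closure
  let I := Scheme.IdealSheafData.vanishingIdeal (X := G.left) ⟨Z, hZcl⟩
  have hr : Set.range I.subschemeι = Z :=
    Groth.Agent.Lib.Helper21.RedSubscheme.range_subschemeι_vanishingIdeal ⟨Z, hZcl⟩
  haveI : IsReduced I.subscheme :=
    Groth.Agent.Lib.Helper21.RedSubscheme.isReduced_vanishingIdeal_subscheme ⟨Z, hZcl⟩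
  let H : Over (Spec (CommRingCat.of k)) := Over.mk (I.subschemeι ≫ G.hom)
  let incl : H ⟶ G := Over.homMk I.subschemeι rfl
  haveI : IsClosedImmersion incl.left := inferInstanceAs (IsClosedImmersion I.subschemeι)
  haveI : Mono incl := Over.mono_of_mono_left incl
  haveI : IsReduced H.left := inferInstanceAs (IsReduced I.subscheme)
  haveI : LocallyOfFiniteType H.hom := by
    show LocallyOfFiniteType (I.subschemeι ≫ G.hom); infer_instance
  haveI : IsLocallyNoetherian H.left := LocallyOfFiniteType.isLocallyNoetherian H.hom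
  have hrange : ∀ y : H.left, incl.left y ∈ Z := fun y => hr ▸ ⟨y, rfl⟩
  haveI : IsReduced (𝟙_ (Over (Spec (CommRingCat.of k)))).left :=
    inferInstanceAs (IsReduced (Spec (CommRingCat.of k)))
  -- lifting rational points
  have hlift : ∀ s : 𝟙_ (Over (Spec (CommRingCat.of k))) ⟶ G, s ∈ S →
      ∃ t : 𝟙_ (Over (Spec (CommRingCat.of k))) ⟶ H, t ≫ incl = s := by
    intro s hs
    obtain ⟨t', ht'⟩ := exists_lift_of_isReduced s.left I.subschemeι (by
      rintro _ ⟨y, rfl⟩
      rw [hr, Subsingleton.elim (α := ↥(Spec (CommRingCat.of k))) y (IsLocalRing.closedPoint k)]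
      exact subset_closure ⟨s, hs, rfl⟩)
    refine ⟨Over.homMk t' ?_, ?_⟩
    · show t' ≫ I.subschemeι ≫ G.hom = _
      rw [← Category.assoc, ht']; exact Over.w s
    · ext1; exact ht'
  let D : Set H.left := {x | ∃ s ∈ S, ∃ t : 𝟙_ (Over (Spec (CommRingCat.of k))) ⟶ H,
      t ≫ incl = s ∧ t.left (IsLocalRing.closedPoint k) = x}
  have hDimg : incl.left '' D = P := by
    ext x; constructor
    · rintro ⟨_, ⟨s, hs, t, hts, rfl⟩, rfl⟩
      refine ⟨s, hs, ?_⟩
      show s.left _ = incl.left (t.left _)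
      rw [← hts]; rfl
    · rintro ⟨s, hs, rfl⟩
      obtain ⟨t, ht⟩ := hlift s hs
      refine ⟨t.left (IsLocalRing.closedPoint k), ⟨s, hs, t, ht, rfl⟩, ?_⟩
      show incl.left (t.left _) = s.left _
      rw [← ht]; rfl
  have hD : Dense D := by
    have hind : Topology.IsInducing incl.left := incl.left.isEmbedding.isInducing
    rw [dense_iff_closure_eq, hind.closure_eq_preimage_closure_image, hDimg]
    ext y; simp only [Set.mem_preimage, Set.mem_univ, iff_true]
    exact hrange y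
  haveI : GeometricallyReduced H.hom :=
    geometricallyReduced_of_dense_points H.hom D hD (by
      rintro x ⟨s, hs, t, hts, rfl⟩
      exact ⟨t.left, Over.w t, rfl⟩)
  haveI : IsReduced (H ⊗ H).left := by
    show IsReduced (pullback H.hom H.hom); infer_instance
  -- unit
  have hη : η[G] = (1 : 𝟙_ (Over (Spec (CommRingCat.of k))) ⟶ G) := by
    rw [Hom.one_def, toUnit_unique (toUnit (𝟙_ (Over (Spec (CommRingCat.of k))))) (𝟙 _),
      Category.id_comp]
  obtain ⟨eB, heB⟩ := hlift η[G] (hη ▸ S.one_mem)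
  -- multiplication
  have hdp := dense_pairs H H D D hD hD (by
    rintro x ⟨s, hs, t, hts, rfl⟩
    exact ⟨t, rfl⟩)
  have hmulZ : ∀ w : (H ⊗ H).left, ((incl ⊗ₘ incl) ≫ μ[G]).left w ∈ Z := by
    have hcl : IsClosed (((incl ⊗ₘ incl) ≫ μ[G]).left ⁻¹' Z) :=
      hZcl.preimage ((incl ⊗ₘ incl) ≫ μ[G]).left.continuous
    have hsub : {w : (H ⊗ H).left | (fst H H).left w ∈ D ∧ (snd H H).left w ∈ D} ⊆
        ((incl ⊗ₘ incl) ≫ μ[G]).left ⁻¹' Z := by
      rintro w ⟨⟨s₁, hs₁, t₁, ht₁, hw₁⟩, ⟨s₂, hs₂, t₂, ht₂, hw₂⟩⟩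
      obtain ⟨y, rfl⟩ := mem_range_sect H H t₁ w hw₁.symm
      have hy : y = t₂.left (IsLocalRing.closedPoint k) := by
        rw [hw₂]
        show y = ((lift (toUnit H ≫ t₁) (𝟙 H)).left ≫ (snd H H).left) y
        rw [← Over.comp_left, lift_snd]; rfl
      subst hy
      have hcomp : t₂ ≫ lift (toUnit H ≫ t₁) (𝟙 H) = lift t₁ t₂ := by
        rw [comp_lift, Category.comp_id, ← Category.assoc,
          toUnit_unique (t₂ ≫ toUnit H) (𝟙 _), Category.id_comp]
      have hprod : lift t₁ t₂ ≫ (incl ⊗ₘ incl) ≫ μ[G] = s₁ * s₂ := by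
        rw [← Category.assoc, lift_map, ht₁, ht₂, Hom.mul_def]
      show ((incl ⊗ₘ incl) ≫ μ[G]).left ((lift (toUnit H ≫ t₁) (𝟙 H)).left
        (t₂.left (IsLocalRing.closedPoint k))) ∈ Z
      have : ((incl ⊗ₘ incl) ≫ μ[G]).left ((lift (toUnit H ≫ t₁) (𝟙 H)).left
          (t₂.left (IsLocalRing.closedPoint k))) =
          (s₁ * s₂).left (IsLocalRing.closedPoint k) := by
        rw [← hprod, ← hcomp]; rfl
      rw [this]
      exact subset_closure ⟨s₁ * s₂, S.mul_mem hs₁ hs₂, rfl⟩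
    intro w
    have := hdp.closure_eq ▸ (hcl.closure_subset_iff.mpr hsub)
    exact this (Set.mem_univ w)
  obtain ⟨m', hm'⟩ := exists_lift_of_isReduced ((incl ⊗ₘ incl) ≫ μ[G]).left I.subschemeι (by
    rintro _ ⟨y, rfl⟩
    rw [hr]; exact hmulZ y)
  let mB : H ⊗ H ⟶ H := Over.homMk m' (by
    show m' ≫ I.subschemeι ≫ G.hom = _
    rw [← Category.assoc, hm']; exact Over.w ((incl ⊗ₘ incl) ≫ μ[G]))
  have hmB : mB ≫ incl = (incl ⊗ₘ incl) ≫ μ[G] := by
    ext1; exact hm'
  -- inverse
  have hιZ : ∀ z ∈ Z, ι[G].left z ∈ Z := by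
    have hcl : IsClosed (ι[G].left ⁻¹' Z) := hZcl.preimage ι[G].left.continuous
    have hsub : P ⊆ ι[G].left ⁻¹' Z := by
      rintro _ ⟨s, hs, rfl⟩
      show ι[G].left (s.left (IsLocalRing.closedPoint k)) ∈ Z
      have : ι[G].left (s.left (IsLocalRing.closedPoint k)) =
          (s⁻¹).left (IsLocalRing.closedPoint k) := by
        rw [Hom.inv_def]; rfl
      rw [this]
      exact subset_closure ⟨s⁻¹, S.inv_mem hs, rfl⟩
    exact fun z hz => hcl.closure_subset_iff.mpr hsub hz
  obtain ⟨v', hv'⟩ := exists_lift_of_isReduced (incl ≫ ι[G]).left I.subschemeι (by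
    rintro _ ⟨y, rfl⟩
    rw [hr]
    exact hιZ _ (hrange y))
  let vB : H ⟶ H := Over.homMk v' (by
    show v' ≫ I.subschemeι ≫ G.hom = _
    rw [← Category.assoc, hv']; exact Over.w (incl ≫ ι[G]))
  have hvB : vB ≫ incl = incl ≫ ι[G] := by
    ext1; exact hv'
  letI instB : GrpObj H :=
    Groth.Agent.Lib.Helper23.GrpImage.grpObjOfMono incl eB mB vB heB hmB hvB
  haveI : LocallyOfFinitePresentation H.hom :=
    LocallyOfFinitePresentation.iff_locallyOfFiniteType.mpr inferInstance
  haveI : Flat H.hom := inferInstance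
  have hsm : Smooth H.hom := Groth.Agent.S7795.result H
  exact ⟨H, instB, incl, ⟨heB, hmB⟩, inferInstance, hsm, hr⟩

end Groth.Agent.Lib.Helper60.RatGroup
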