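import Mathlib

/-!
# `W(R)` is `p`-adically and `I_R`-adically complete for `p`-adically complete `R`

helper60.  Direct proof via the "product topology" `U n m = {x | x_i ∈ p^m R for i < n}`.
-/

set_option autoImplicit false
set_option maxHeartbeats 400000

namespace Groth.Agent.Lib.Helper60.WittComplete

open Finset

variable (p : ℕ) [hp : Fact p.Prime] {R : Type*} [CommRing R]

/-- coefficients of `p ^ N` in `W(ℤ)` -/
theorem coeff_p_pow_int (N : ℕ) : ∀ i : ℕ, i ≤ N →
    (p : ℤ) ^ (N - i) ∣ (((p : WittVector p ℤ)) ^ N).coeff i := by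
  intro i
  induction i using Nat.strong_induction_on with
  | _ i ih =>
    intro hi
    set x : WittVector p ℤ := (p : WittVector p ℤ) ^ N with hx
    have hg : WittVector.ghostComponent i x = (p : ℤ) ^ N := by
      rw [hx, map_pow, map_natCast]
    rw [WittVector.ghostComponent_apply, wittPolynomial_eq_sum_C_mul_X_pow, map_sum,
      Finset.sum_range_succ] at hg
    simp only [map_mul, map_pow, MvPolynomial.aeval_X, Nat.sub_self,
      pow_zero, pow_one, map_natCast] at hg
    have hterm : ∀ j ∈ range i, (p : ℤ) ^ N ∣ (p : ℤ) ^ j * x.coeff j ^ p ^ (i - j) := by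
      intro j hj
      have hji : j < i := Finset.mem_range.mp hj
      obtain ⟨c, hc⟩ := ih j hji (by omega)
      rw [hc, mul_pow, ← pow_mul, ← mul_assoc, ← pow_add]
      apply Dvd.dvd.mul_right
      apply pow_dvd_pow
      have h1 : 1 ≤ p ^ (i - j) := Nat.one_le_pow _ _ hp.out.pos
      calc N = j + (N - j) * 1 := by omega
        _ ≤ j + (N - j) * p ^ (i - j) := by gcongr
    have hsum : (p : ℤ) ^ N ∣ ∑ j ∈ range i, (p : ℤ) ^ j * x.coeff j ^ p ^ (i - j) :=
      Finset.dvd_sum hterm
    obtain ⟨t, ht⟩ := hsum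
    have h2 : (p : ℤ) ^ i * x.coeff i = (p : ℤ) ^ N * (1 - t) := by
      rw [ht] at hg
      linear_combination hg
    have h3 : (p : ℤ) ^ N = (p : ℤ) ^ i * (p : ℤ) ^ (N - i) := by
      rw [← pow_add]
      congr 1
      omega
    rw [h3, mul_assoc] at h2
    have hp0 : (p : ℤ) ^ i ≠ 0 := pow_ne_zero _ (by exact_mod_cast hp.out.ne_zero)
    have h4 := mul_left_cancel₀ hp0 h2
    exact ⟨1 - t, h4⟩

theorem coeff_p_pow (N i : ℕ) (hi : i ≤ N) :
    (((p : WittVector p R)) ^ N).coeff i ∈ Ideal.span {(p : R) ^ (N - i)} := by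
  have h : ((p : WittVector p R)) ^ N =
      WittVector.map (Int.castRingHom R) ((p : WittVector p ℤ) ^ N) := by
    rw [map_pow, map_natCast]
  obtain ⟨c, hc⟩ := coeff_p_pow_int p N i hi
  rw [h, WittVector.map_coeff, hc, map_mul, map_pow, map_natCast]
  exact Ideal.mul_mem_right _ _ (Ideal.subset_span rfl)

/-- the ideal of Witt vectors whose first `n` coefficients lie in `p ^ m R` -/
noncomputable def U (n m : ℕ) : Ideal (WittVector p R) :=
  RingHom.ker ((WittVector.truncate (p := p) n).comp
    (WittVector.map (Ideal.Quotient.mk (Ideal.span {(p : R) ^ m}))))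

theorem sub_mem_U_iff (n m : ℕ) (x y : WittVector p R) :
    x - y ∈ U p n m ↔ ∀ i < n, x.coeff i - y.coeff i ∈ Ideal.span {(p : R) ^ m} := by
  rw [U, RingHom.mem_ker, map_sub, sub_eq_zero, TruncatedWittVector.ext_iff]
  constructor
  · intro h i hi
    have := h ⟨i, hi⟩
    simp only [RingHom.comp_apply, WittVector.coeff_truncate, WittVector.map_coeff] at this
    exact Ideal.Quotient.eq.mp this
  · intro h i
    simp only [RingHom.comp_apply, WittVector.coeff_truncate, WittVector.map_coeff]
    exact Ideal.Quotient.eq.mpr (h i i.2)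

theorem mem_U_iff (n m : ℕ) (x : WittVector p R) :
    x ∈ U p n m ↔ ∀ i < n, x.coeff i ∈ Ideal.span {(p : R) ^ m} := by
  have := sub_mem_U_iff p n m x 0
  simpa using this

theorem p_pow_mem_U (n m N : ℕ) (h : n + m ≤ N + 1) : ((p : WittVector p R)) ^ N ∈ U p n m := by
  rw [mem_U_iff]
  intro i hi
  have h1 := coeff_p_pow (R := R) p N i (by omega)
  have h2 : Ideal.span {(p : R) ^ (N - i)} ≤ Ideal.span {(p : R) ^ m} := by
    rw [Ideal.span_singleton_le_span_singleton]
    exact pow_dvd_pow _ (by omega)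
  exact h2 h1

/-- Witt vectors in all `U n m` vanish, if `R` is `p`-adically separated -/
theorem eq_zero_of_forall_mem_U [IsHausdorff (Ideal.span {(p : R)}) R] (x : WittVector p R)
    (h : ∀ n m, x ∈ U p n m) : x = 0 := by
  ext i
  rw [WittVector.zero_coeff]
  apply IsHausdorff.haus (I := Ideal.span {(p : R)}) inferInstance
  intro m
  rw [SModEq.zero, Ideal.span_singleton_pow, smul_eq_mul, Ideal.mul_top]
  exact (mem_U_iff p (i + 1) m x).mp (h (i + 1) m) i (by omega)

/-- partial sums of `∑ p^k y_k` -/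
noncomputable def psum (y : ℕ → WittVector p R) (L : ℕ) : WittVector p R :=
  ∑ k ∈ range L, (p : WittVector p R) ^ k * y k

theorem psum_add (y : ℕ → WittVector p R) (K L : ℕ) :
    psum p y (K + L) = psum p y K + (p : WittVector p R) ^ K * psum p (fun k => y (K + k)) L := by
  rw [psum, psum, psum, Finset.sum_range_add, Finset.mul_sum]
  refine congrArg₂ _ rfl (Finset.sum_congr rfl ?_)
  intro k _
  rw [pow_add, mul_assoc]

theorem psum_sub_mem (y : ℕ → WittVector p R) (n m L L' : ℕ) (hL : L ≤ L')
    (h : n + m ≤ L + 1) : psum p y L' - psum p y L ∈ U p n m := by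
  obtain ⟨d, rfl⟩ := Nat.exists_eq_add_of_le hL
  have h1 : psum p y (L + d) - psum p y L =
      (p : WittVector p R) ^ L * psum p (fun k => y (L + k)) d := by
    rw [psum_add]
    ring
  rw [h1]
  exact Ideal.mul_mem_right _ _ (p_pow_mem_U p n m L h)

variable [IsAdicComplete (Ideal.span {(p : R)}) R]

theorem exists_wsum (y : ℕ → WittVector p R) :
    ∃ S : WittVector p R, ∀ n m L, n + m ≤ L + 1 → S - psum p y L ∈ U p n m := by
  have hc : ∀ i : ℕ, ∃ l : R, ∀ m, (psum p y (i + m)).coeff i ≡ l
      [SMOD (Ideal.span {(p : R)} ^ m • ⊤ : Submodule R R)] := by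
    intro i
    apply IsPrecomplete.prec (I := Ideal.span {(p : R)}) inferInstance
    intro m m' hmm'
    rw [SModEq.sub_mem, Ideal.span_singleton_pow, smul_eq_mul, Ideal.mul_top]
    have := psum_sub_mem p y (i + 1) m (i + m) (i + m') (by omega) (by omega)
    rw [← neg_sub, neg_mem_iff] at this
    exact (sub_mem_U_iff p (i + 1) m _ _).mp this i (by omega)
  choose l hl using hc
  refine ⟨WittVector.mk p l, ?_⟩
  intro n m L hL
  rw [sub_mem_U_iff]
  intro i hi
  rw [WittVector.coeff_mk]
  have h1 := hl i m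
  rw [SModEq.sub_mem, Ideal.span_singleton_pow, smul_eq_mul, Ideal.mul_top] at h1
  have h2 := psum_sub_mem p y (i + 1) m (i + m) L (by omega) (by omega)
  have h3 := (sub_mem_U_iff p (i + 1) m _ _).mp h2 i (by omega)
  have : l i - (psum p y L).coeff i =
      -((psum p y (i + m)).coeff i - l i) - ((psum p y L).coeff i - (psum p y (i + m)).coeff i) := by
    ring
  rw [this]
  exact sub_mem (neg_mem h1) h3

/-- the sum of the series `∑ p^k y_k` -/
noncomputable def wsum (y : ℕ → WittVector p R) : WittVector p R :=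
  (exists_wsum p y).choose

theorem wsum_spec (y : ℕ → WittVector p R) (n m L : ℕ) (h : n + m ≤ L + 1) :
    wsum p y - psum p y L ∈ U p n m :=
  (exists_wsum p y).choose_spec n m L h

theorem wsum_eq (y : ℕ → WittVector p R) (K : ℕ) :
    wsum p y = psum p y K + (p : WittVector p R) ^ K * wsum p (fun k => y (K + k)) := by
  rw [← sub_eq_zero]
  apply eq_zero_of_forall_mem_U p
  intro n m
  have h1 := wsum_spec p y n m (K + (n + m)) (by omega)
  have h2 := wsum_spec p (fun k => y (K + k)) n m (n + m) (by omega)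
  rw [psum_add] at h1
  have : wsum p y - (psum p y K + (p : WittVector p R) ^ K * wsum p (fun k => y (K + k))) =
      (wsum p y - (psum p y K + (p : WittVector p R) ^ K * psum p (fun k => y (K + k)) (n + m))) -
      (p : WittVector p R) ^ K *
        (wsum p (fun k => y (K + k)) - psum p (fun k => y (K + k)) (n + m)) := by ring
  rw [this]
  exact sub_mem h1 (Ideal.mul_mem_left _ _ h2)

theorem wsum_coeff_zero (y : ℕ → WittVector p R) (hy : ∀ k, (y k).coeff 0 = 0) :
    (wsum p y).coeff 0 = 0 := by
  apply IsHausdorff.haus (I := Ideal.span {(p : R)}) inferInstance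
  intro m
  rw [SModEq.zero, Ideal.span_singleton_pow, smul_eq_mul, Ideal.mul_top]
  have h1 := wsum_spec p y 1 m m (by omega)
  have h2 := (sub_mem_U_iff p 1 m _ _).mp h1 0 (by omega)
  have h3 : (psum p y m).coeff 0 = 0 := by
    have : WittVector.constantCoeff (psum p y m) = 0 := by
      rw [psum, map_sum]
      apply Finset.sum_eq_zero
      intro k _
      rw [map_mul]
      have : WittVector.constantCoeff (y k) = 0 := hy k
      rw [this, mul_zero]
    exact this
  rw [h3, sub_zero] at h2
  exact h2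

end Groth.Agent.Lib.Helper60.WittComplete
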