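import Groth.Agent.Lib.Helper60.WittHom

/-!
# Homomorphisms `W_N → W_M`, `W_M → W_N` and lifting endomorphisms of Witt groups
-/

set_option autoImplicit false
set_option maxHeartbeats 400000
universe u
open CategoryTheory MonoidalCategory CartesianMonoidalCategory MonObj GrpObj AlgebraicGeometry CategoryTheory.Limits
open WittGrp

namespace Groth.Agent.Lib.Helper60.WittEndo

open Groth.Agent.Lib.Helper61 Groth.Agent.S12171 Groth.Agent.Lib.Helper60.WittHom
open Groth.Agent.Lib.Helper60.WittTheta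

section ring

variable (p : ℕ) [hp : Fact p.Prime] {A : Type*} [CommRing A]

/-- coefficients of `p^j • w` in characteristic `p` -/
theorem coeff_pow_p_nsmul [CharP A p] (N : ℕ) (j : ℕ) (w : TruncatedWittVector p N A)
    (i : ℕ) (hi : i < N) :
    ((p ^ j) • w).coeff ⟨i, hi⟩ =
      if h : j ≤ i then (w.coeff ⟨i - j, by omega⟩) ^ p ^ j else 0 := by
  induction j generalizing i with
  | zero =>
    rw [pow_zero, one_smul, dif_pos (Nat.zero_le _), pow_one]
    rfl
  | succ j ih =>
    rw [pow_succ', mul_smul]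
    rcases i with _ | i'
    · rw [coeff_p_nsmul_zero, dif_neg (by omega)]
    · rw [coeff_p_nsmul_succ, ih]
      by_cases hj : j ≤ i'
      · have e : i' + 1 - (j + 1) = i' - j := by omega
        rw [dif_pos hj, dif_pos (by omega), ← pow_mul, mul_comm]
        simp only [e]
      · rw [dif_neg hj, dif_neg (by omega), zero_pow hp.out.ne_zero]

theorem pow_p_nsmul_eq_zero (hpA : (p : A) = 0) (M : ℕ) (w : TruncatedWittVector p M A) :
    (p ^ M) • w = 0 := by
  rcases subsingleton_or_nontrivial A with hS | hN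
  · exact TruncatedWittVector.ext fun i => Subsingleton.elim _ _
  · haveI : CharP A p := (CharP.charP_iff_prime_eq_zero hp.out).mpr hpA
    ext ⟨i, hi⟩
    rw [coeff_pow_p_nsmul, dif_neg (by omega), TruncatedWittVector.coeff_zero]

/-- zero extension on the right -/
def zr (M r : ℕ) (y : TruncatedWittVector p r A) : TruncatedWittVector p (M + r) A :=
  TruncatedWittVector.mk p fun i => if h : (i : ℕ) < r then y.coeff ⟨i, h⟩ else 0

theorem pow_p_nsmul_zr [CharP A p] (hpA : (p : A) = 0) (M r : ℕ)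
    (y : TruncatedWittVector p r A) :
    (p ^ M) • zr p M r y = shift p (Nat.le_add_left r M) ((frob p r hpA)^[M] y) := by
  ext ⟨i, hi⟩
  rw [coeff_pow_p_nsmul, coeff_shift]
  by_cases hM : M ≤ i
  · rw [dif_pos hM, dif_pos (by simp only []; omega), coeff_iterate_frob, zr,
      TruncatedWittVector.coeff_mk, dif_pos (by simp only []; omega)]
    congr 2
    ext
    simp only
    omega
  · rw [dif_neg hM, dif_neg (by simp only []; omega)]

/-- the tail after the first coefficient -/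
def tail1 {n : ℕ} (w : TruncatedWittVector p (n + 1) A) : TruncatedWittVector p n A :=
  TruncatedWittVector.mk p fun i => w.coeff i.succ

theorem shift_tail1 {n : ℕ} (w : TruncatedWittVector p (n + 1) A) (h0 : w.coeff 0 = 0) :
    shift p (Nat.le_succ n) (tail1 p w) = w := by
  ext ⟨i, hi⟩
  rw [coeff_shift]
  rcases i with _ | i'
  · rw [dif_neg (by simp only []; omega)]
    exact h0.symm
  · rw [dif_pos (by simp only []; omega), tail1, TruncatedWittVector.coeff_mk]
    congr 1
    ext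
    simp only [Fin.val_succ]
    omega

theorem truncate_shift_succ {n : ℕ} (w : TruncatedWittVector p (n + 1) A) :
    TruncatedWittVector.truncate (Nat.le_succ (n + 1)) (shift p (Nat.le_succ (n + 1)) w) =
      shift p (Nat.le_succ n) (TruncatedWittVector.truncate (Nat.le_succ n) w) := by
  ext ⟨i, hi⟩
  rw [TruncatedWittVector.coeff_truncate, coeff_shift, coeff_shift]
  by_cases h1 : 1 ≤ i
  · rw [dif_pos (by simp only [Fin.val_castLE]; omega), dif_pos (by simp only []; omega),
      TruncatedWittVector.coeff_truncate]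
    congr 1
    ext
    simp only [Fin.val_castLE]
    omega
  · rw [dif_neg (by simp only [Fin.val_castLE]; omega), dif_neg (by simp only []; omega)]

/-- `Θ_c (V w) = V (Θ_{c^p} w)` -/
theorem Theta_shift1 (hA : (p : A) = 0) (c : ℕ → A) (E : ℕ) (n : ℕ)
    (w : TruncatedWittVector p n A) :
    Theta p (n + 1) hA c E (shift p (Nat.le_succ n) w) =
      shift p (Nat.le_succ n) (Theta p n hA (fun e => c e ^ p) E w) := by
  rcases subsingleton_or_nontrivial A with hS | hN
  · exact TruncatedWittVector.ext fun i => Subsingleton.elim _ _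
  · haveI : CharP A p := (CharP.charP_iff_prime_eq_zero hp.out).mpr hA
    rw [Theta, Theta, map_sum]
    refine Finset.sum_congr rfl fun e _ => ?_
    obtain ⟨X, rfl⟩ := WittVector.truncate_surjective p n A w
    have h1 : n + 1 - n = 1 := by omega
    rw [shift_truncate, iterate_frob_truncate, iterate_frob_truncate, teichT, teichT, ← map_mul,
      ← map_mul, shift_truncate, h1, Function.iterate_one,
      ← ((WittVector.verschiebung_frobenius_comm (p := p) (R := A)).iterate_right e).eq X,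
      mul_comm (WittVector.teichmuller p (c e)), ← WittVector.verschiebung_mul_frobenius,
      WittVector.frobenius_eq_map_frobenius, WittVector.map_teichmuller, mul_comm]
    rfl

end ring

section scheme

variable (p : ℕ) [hp : Fact p.Prime] {k : Type u} [Field k] [CharP k p]

/-- injectivity on functions of a morphism raising the coordinates to a power -/
theorem appTop_injective_of_coord_pow (n : ℕ) (Ψ : W p n (Sk k) ⟶ W p n (Sk k)) (q : ℕ)
    (hq : 0 < q) (hΨ : ∀ i, Ψ.left.appTop (coord p i) = coord p i ^ q) :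
    Function.Injective (Ψ.left.appTop).hom := by
  have hcomm : (Ψ.left.appTop).hom.comp (evW p n) =
      (evW p (k := k) n).comp (MvPolynomial.expand q).toRingHom := by
    apply MvPolynomial.ringHom_ext
    · intro a
      simp only [evW, RingHom.comp_apply, MvPolynomial.eval₂Hom_C, AlgHom.toRingHom_eq_coe,
        RingHom.coe_coe, MvPolynomial.expand_C]
      exact cT_comp_apply k Ψ a
    · intro i
      simp only [evW, RingHom.comp_apply, MvPolynomial.eval₂Hom_X', AlgHom.toRingHom_eq_coe,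
        RingHom.coe_coe, MvPolynomial.expand_X, map_pow]
      exact hΨ i.down
  intro a b hab
  obtain ⟨a', rfl⟩ := (evW_bijective p n).2 a
  obtain ⟨b', rfl⟩ := (evW_bijective p n).2 b
  have ha := congrArg (fun ψ : MvPolynomial (ULift.{u} (Fin n)) k →+* _ => ψ a') hcomm
  have hb := congrArg (fun ψ : MvPolynomial (ULift.{u} (Fin n)) k →+* _ => ψ b') hcomm
  simp only [RingHom.comp_apply] at ha hb
  rw [ha, hb] at hab
  have := (evW_bijective p n).1 hab
  rw [MvPolynomial.expand_injective hq this]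

theorem eq_one_of_comp (n M : ℕ) (Ψ : W p n (Sk k) ⟶ W p n (Sk k))
    (hΨ : Function.Injective (Ψ.left.appTop).hom)
    (u : W p n (Sk k) ⟶ W p M (Sk k)) (hu : Ψ ≫ u = 1) : u = 1 := by
  apply witt_hom_ext
  ext i
  apply hΨ
  have h := congrArg (fun x => (pts p _ (Additive.ofMul x)).coeff i) hu
  simp only [pts_comp, coeff_truncMap] at h
  rw [h, pts_one, TruncatedWittVector.coeff_zero, map_zero]

/-- the iterated Frobenius morphism -/
noncomputable def FM (r M : ℕ) : W p r (Sk k) ⟶ W p r (Sk k) :=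
  ofPts p _ ((frob p r (hpT p k _))^[M] (pts p _ (Additive.ofMul (𝟙 (W p r (Sk k))))))

theorem FM_coord (r M : ℕ) (i : Fin r) :
    (FM p (k := k) r M).left.appTop (coord p i) = coord p i ^ p ^ M := by
  rw [← coeff_pts, FM, pts_ofPts, coeff_iterate_frob, coeff_pts]
  simp

theorem pow_pM_eq_one (M : ℕ) {T : Over (Sk k)} (x : T ⟶ W p M (Sk k)) : x ^ (p ^ M) = 1 := by
  apply witt_hom_ext
  have : pts p T (Additive.ofMul (x ^ (p ^ M))) = (p ^ M) • pts p T (Additive.ofMul x) :=
    map_nsmul (pts p T) (p ^ M) (Additive.ofMul x)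
  rw [this, pts_one, pow_p_nsmul_eq_zero p (hpT p k T)]

/-- **G1**: a homomorphism `W_{M+r} → W_M` kills `V^M W_r`. -/
theorem V_comp_hom_eq_one' (M r : ℕ) (h : W p (M + r) (Sk k) ⟶ W p M (Sk k)) [IsMonHom h] :
    V p (Sk k) (Nat.le_add_left r M) ≫ h = 1 := by
  apply eq_one_of_comp p r M (FM p r M)
    (appTop_injective_of_coord_pow p r _ (p ^ M) (pow_pos hp.out.pos M) (FM_coord p r M))
  let z : W p r (Sk k) ⟶ W p (M + r) (Sk k) :=
    ofPts p _ (zr p M r (pts p _ (Additive.ofMul (𝟙 (W p r (Sk k))))))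
  have hz : z ^ (p ^ M) = FM p r M ≫ V p (Sk k) (Nat.le_add_left r M) := by
    apply witt_hom_ext
    have e : pts p _ (Additive.ofMul (z ^ (p ^ M))) = (p ^ M) • pts p _ (Additive.ofMul z) :=
      map_nsmul (pts p _) (p ^ M) (Additive.ofMul z)
    rw [e, pts_ofPts, pow_p_nsmul_zr p (hpT p k _), pts_V, FM, pts_ofPts]
  rw [← Category.assoc, ← hz, MonObj.pow_comp, pow_pM_eq_one]

section factorG

variable {G : Over (Sk k)} [MonObj G] (m n : ℕ) (h : W p (m + n) (Sk k) ⟶ G) [IsMonHom h]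
  (hV : V p (Sk k) (Nat.le_add_left n m) ≫ h = 1)

include hV in
/-- **G2** -/
theorem hom_eq_R_zext' : h = R p (Sk k) (Nat.le_add_right m n) ≫ zext p m n ≫ h := by
  have e1 : TruncatedWittVector.truncate (Nat.le_add_right m n)
      (pts p _ (Additive.ofMul (𝟙 (W p (m + n) (Sk k))))) =
      pts p _ (Additive.ofMul (R p (Sk k) (Nat.le_add_right m n))) := by
    rw [← pts_R, Category.id_comp]
  have e2 : TruncatedWittVector.truncate (Nat.le_add_right m n)
      (pts p _ (Additive.ofMul (R p (Sk k) (Nat.le_add_right m n) ≫ zext p (k := k) m n))) =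
      pts p _ (Additive.ofMul (R p (Sk k) (Nat.le_add_right m n))) := by
    rw [← pts_R, Category.assoc, zext_R, Category.comp_id]
  have ht : TruncatedWittVector.truncate (Nat.le_add_right m n)
      (pts p _ (Additive.ofMul (𝟙 (W p (m + n) (Sk k)))) -
        pts p _ (Additive.ofMul (R p (Sk k) (Nat.le_add_right m n) ≫ zext p (k := k) m n))) = 0 := by
    rw [map_sub, e1, e2, sub_self]
  let y : W p (m + n) (Sk k) ⟶ W p n (Sk k) := ofPts p _ (tailFun p (n := m) (m := n)
    (pts p _ (Additive.ofMul (𝟙 (W p (m + n) (Sk k)))) -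
        pts p _ (Additive.ofMul (R p (Sk k) (Nat.le_add_right m n) ≫ zext p (k := k) m n))))
  have hdec : 𝟙 (W p (m + n) (Sk k)) =
      (R p (Sk k) (Nat.le_add_right m n) ≫ zext p m n) * (y ≫ V p (Sk k) (Nat.le_add_left n m)) := by
    apply witt_hom_ext
    rw [pts_mul, pts_V, pts_ofPts, shift_tailFun_of_truncate_eq_zero p _ ht]
    abel
  have key := congrArg (fun x => x ≫ h) hdec
  simp only [Category.id_comp] at key
  rw [MonObj.mul_comp, Category.assoc, Category.assoc, hV,
    MonObj.comp_one, _root_.mul_one] at key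
  exact key

include hV in
theorem isMonHom_zext_comp' : IsMonHom (zext p m n ≫ h) := by
  have hR := (hom_eq_R_zext' p m n h hV).symm
  apply isMonHom_of_comp_mul
  · have : (1 : 𝟙_ (Over (Sk k)) ⟶ W p m (Sk k)) =
        (1 : 𝟙_ (Over (Sk k)) ⟶ W p (m + n) (Sk k)) ≫ R p (Sk k) (Nat.le_add_right m n) := by
      rw [MonObj.one_comp]
    rw [this, Category.assoc, hR, MonObj.one_comp]
  · intro T x y
    have hx : x = (x ≫ zext p m n) ≫ R p (Sk k) (Nat.le_add_right m n) := by
      rw [Category.assoc, zext_R, Category.comp_id]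
    have hy : y = (y ≫ zext p m n) ≫ R p (Sk k) (Nat.le_add_right m n) := by
      rw [Category.assoc, zext_R, Category.comp_id]
    have hxy : x * y = ((x ≫ zext p m n) * (y ≫ zext p m n)) ≫
        R p (Sk k) (Nat.le_add_right m n) := by
      rw [MonObj.mul_comp, ← hx, ← hy]
    rw [hxy, Category.assoc, hR, MonObj.mul_comp, Category.assoc, Category.assoc]

end factorG

/-- **G3**: every homomorphism `W_M → W_N`, `M ≤ N`, factors through `V^{N-M}`. -/
theorem exists_factor_V (M N : ℕ) (hMN : M ≤ N) (f : W p M (Sk k) ⟶ W p N (Sk k)) [IsMonHom f] :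
    ∃ g : W p M (Sk k) ⟶ W p M (Sk k), IsMonHom g ∧ g ≫ V p (Sk k) hMN = f := by
  have hp0 : (p ^ M) • pts p _ (Additive.ofMul f) = 0 := by
    rw [← map_nsmul]
    change pts p _ (Additive.ofMul (f ^ (p ^ M))) = 0
    have := MonObj.pow_comp (𝟙 (W p M (Sk k))) (p ^ M) f
    rw [pow_pM_eq_one, MonObj.one_comp, Category.id_comp] at this
    rw [← this, pts_one]
  have hz : ∀ (i : ℕ) (hi : i < N - M),
      (pts p _ (Additive.ofMul f)).coeff ⟨i, by omega⟩ = 0 := by
    intro i hi
    have := coeff_pow_p_nsmul p N M (pts p _ (Additive.ofMul f)) (i + M) (by omega)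
    rw [hp0, TruncatedWittVector.coeff_zero, dif_pos (by omega)] at this
    have h2 := (pow_eq_zero_iff (pow_pos hp.out.pos M).ne').mp this.symm
    have e : i + M - M = i := by omega
    simpa only [e] using h2
  let v : TruncatedWittVector p M Γ((W p M (Sk k)).left, ⊤) :=
    TruncatedWittVector.mk p fun j => (pts p _ (Additive.ofMul f)).coeff ⟨j + (N - M), by omega⟩
  let g := ofPts p (W p M (Sk k)) v
  have hg : g ≫ V p (Sk k) hMN = f := by
    apply witt_hom_ext
    rw [pts_V, pts_ofPts]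
    ext i
    rw [coeff_shift]
    split_ifs with hi
    · rw [TruncatedWittVector.coeff_mk]
      congr 1
      ext
      simp only
      omega
    · exact (hz i (by omega)).symm
  exact ⟨g, isMonHom_of_comp_V p hMN g f hg, hg⟩

theorem isMonHom_mul {M N : Over (Sk k)} [MonObj M] [MonObj N] [IsCommMonObj N] (f g : M ⟶ N)
    [IsMonHom f] [IsMonHom g] : IsMonHom (f * g) := by
  rw [Hom.mul_def]
  infer_instance

theorem isMonHom_div {M N : Over (Sk k)} [MonObj M] [GrpObj N] [IsCommMonObj N] (f g : M ⟶ N)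
    [IsMonHom f] [IsMonHom g] : IsMonHom (f / g) := by
  rw [div_eq_mul_inv]
  exact isMonHom_mul f g⁻¹

theorem pts_id_comp {n N : ℕ} (x : W p n (Sk k) ⟶ W p N (Sk k)) :
    pts p _ (Additive.ofMul (𝟙 _ ≫ x)) = pts p _ (Additive.ofMul x) := by
  rw [Category.id_comp]

theorem PhiOf_comp_R (a : ℕ → k) (E : ℕ) {M N : ℕ} (h : M ≤ N) :
    PhiOf p N a E ≫ R p (Sk k) h = R p (Sk k) h ≫ PhiOf p M a E := by
  apply witt_hom_ext
  have h1 : pts p _ (Additive.ofMul (PhiOf p N a E)) =
      ThetaT p _ a E (pts p _ (Additive.ofMul (𝟙 (W p N (Sk k))))) := by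
    rw [← pts_PhiOf, Category.id_comp]
  have h2 : pts p _ (Additive.ofMul (R p (Sk k) h)) =
      TruncatedWittVector.truncate h (pts p _ (Additive.ofMul (𝟙 (W p N (Sk k))))) := by
    rw [← pts_R, Category.id_comp]
  rw [pts_R, h1, pts_PhiOf, h2, ThetaT, ThetaT, truncate_Theta]

theorem PhiOf_comp_V1 (c : ℕ → k) (E n : ℕ) :
    PhiOf p n (fun e => c e ^ p) E ≫ V p (Sk k) (Nat.le_succ n) =
      V p (Sk k) (Nat.le_succ n) ≫ PhiOf p (n + 1) c E := by
  apply witt_hom_ext
  have h1 : pts p _ (Additive.ofMul (PhiOf p n (fun e => c e ^ p) E)) =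
      ThetaT p _ (fun e => c e ^ p) E (pts p _ (Additive.ofMul (𝟙 (W p n (Sk k))))) := by
    rw [← pts_PhiOf, Category.id_comp]
  have h2 : pts p _ (Additive.ofMul (V p (Sk k) (Nat.le_succ n))) =
      shift p (Nat.le_succ n) (pts p _ (Additive.ofMul (𝟙 (W p n (Sk k))))) := by
    rw [← pts_V, Category.id_comp]
  rw [pts_V, h1, pts_PhiOf, h2, ThetaT, ThetaT, Theta_shift1]
  congr 2
  funext e
  rw [map_pow]

theorem V_comp_R_succ (n : ℕ) :
    V p (Sk k) (Nat.le_succ (n + 1)) ≫ R p (Sk k) (Nat.le_succ (n + 1)) =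
      R p (Sk k) (Nat.le_succ n) ≫ V p (Sk k) (Nat.le_succ n) := by
  apply witt_hom_ext
  have h1 : pts p _ (Additive.ofMul (V p (Sk k) (Nat.le_succ (n + 1)))) =
      shift p (Nat.le_succ (n + 1)) (pts p _ (Additive.ofMul (𝟙 (W p (n + 1) (Sk k))))) := by
    rw [← pts_V, Category.id_comp]
  have h2 : pts p _ (Additive.ofMul (R p (Sk k) (Nat.le_succ n))) =
      TruncatedWittVector.truncate (Nat.le_succ n)
        (pts p _ (Additive.ofMul (𝟙 (W p (n + 1) (Sk k))))) := by
    rw [← pts_R, Category.id_comp]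
  rw [pts_R, h1, pts_V, h2, truncate_shift_succ]

end scheme

section lift

variable (p : ℕ) [hp : Fact p.Prime] {k : Type u} [Field k] [CharP k p]

theorem hom_W0_eq {N : ℕ} (x y : W p 0 (Sk k) ⟶ W p N (Sk k)) [IsMonHom x] [IsMonHom y] :
    x = y := by
  have hid : 𝟙 (W p 0 (Sk k)) = 1 := by
    apply witt_hom_ext
    ext i
    exact i.elim0
  rw [← Category.id_comp x, ← Category.id_comp y, hid, MonObj.one_comp, MonObj.one_comp]

/-- lifting endomorphisms along `R : W_{n+1} → W_n` -/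
theorem exists_lift_R : ∀ (n : ℕ) (φ : W p n (Sk k) ⟶ W p n (Sk k)), IsMonHom φ →
    ∃ ψ : W p (n + 1) (Sk k) ⟶ W p (n + 1) (Sk k), IsMonHom ψ ∧
      R p (Sk k) (Nat.le_succ n) ≫ φ = ψ ≫ R p (Sk k) (Nat.le_succ n) := by
  intro n
  induction n with
  | zero =>
    intro φ _
    refine ⟨𝟙 _, inferInstance, ?_⟩
    apply witt_hom_ext
    ext i
    exact i.elim0
  | succ n ih =>
    intro φ hφ
    haveI := hφ
    have h1 : 1 ≤ n + 1 := Nat.le_add_left 1 n
    obtain ⟨g, ⟨hgm, hg⟩, -⟩ :=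
      existsUnique_factor_R' p 1 Nat.one_pos (n + 1) h1 (φ ≫ R p (Sk k) h1)
    haveI := hgm
    obtain ⟨E, a, rfl⟩ := exists_eq_PhiOf p g
    have hΦR := PhiOf_comp_R p a E h1
    haveI : IsMonHom (φ / PhiOf p (n + 1) a E) := isMonHom_div _ _
    have h0 : (φ / PhiOf p (n + 1) a E) ≫ R p (Sk k) h1 = 1 := by
      rw [GrpObj.div_comp, hΦR, hg, div_self']
    -- `φ₁ = φ' ≫ V`
    have hc0 : (pts p _ (Additive.ofMul (φ / PhiOf p (n + 1) a E))).coeff 0 = 0 := by
      have := congrArg (fun x => (pts p _ (Additive.ofMul x)).coeff 0) h0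
      simp only [pts_R, TruncatedWittVector.coeff_truncate, pts_one,
        TruncatedWittVector.coeff_zero] at this
      exact this
    let φ' : W p (n + 1) (Sk k) ⟶ W p n (Sk k) :=
      ofPts p _ (tail1 p (pts p _ (Additive.ofMul (φ / PhiOf p (n + 1) a E))))
    have hφ' : φ' ≫ V p (Sk k) (Nat.le_succ n) = φ / PhiOf p (n + 1) a E := by
      apply witt_hom_ext
      rw [pts_V, pts_ofPts, shift_tail1 p _ hc0]
    haveI : IsMonHom φ' := isMonHom_of_comp_V p (Nat.le_succ n) φ' _ hφ'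
    -- `φ'` factors through `R`
    have hV := V_comp_hom_eq_one' p n 1 φ'
    have hfac := hom_eq_R_zext' p n 1 φ' hV
    haveI : IsMonHom (zext p n 1 ≫ φ') := isMonHom_zext_comp' p n 1 φ' hV
    obtain ⟨ψ'', hψm, hψ⟩ := ih (zext p n 1 ≫ φ') inferInstance
    haveI := hψm
    refine ⟨(R p (Sk k) (Nat.le_succ (n + 1)) ≫ ψ'' ≫ V p (Sk k) (Nat.le_succ (n + 1))) *
      PhiOf p (n + 1 + 1) a E, isMonHom_mul _ _, ?_⟩
    have hφeq : φ = (φ / PhiOf p (n + 1) a E) * PhiOf p (n + 1) a E := (div_mul_cancel _ _).symm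
    have key : R p (Sk k) (Nat.le_succ (n + 1)) ≫ (φ / PhiOf p (n + 1) a E) =
        (R p (Sk k) (Nat.le_succ (n + 1)) ≫ ψ'' ≫ V p (Sk k) (Nat.le_succ (n + 1))) ≫
          R p (Sk k) (Nat.le_succ (n + 1)) := by
      rw [← hφ']
      conv_lhs => rw [hfac]
      have hψ2 := congrArg (fun x => x ≫ V p (Sk k) (Nat.le_succ n)) hψ
      simp only [Category.assoc] at hψ2 ⊢
      rw [V_comp_R_succ]
      exact congrArg (fun x => R p (Sk k) (Nat.le_succ (n + 1)) ≫ x) hψ2
    conv_lhs => rw [hφeq]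
    rw [MonObj.comp_mul, key, MonObj.mul_comp, PhiOf_comp_R]

theorem PhiOf_comp_Vn (b : ℕ → k) (E n : ℕ) :
    PhiOf p 1 (fun e => b e ^ p ^ n) E ≫ V p (Sk k) (Nat.le_add_left 1 n) =
      V p (Sk k) (Nat.le_add_left 1 n) ≫ PhiOf p (n + 1) b E := by
  apply witt_hom_ext
  have h2 : pts p _ (Additive.ofMul (V p (Sk k) (Nat.le_add_left 1 n))) =
      shift p (Nat.le_add_left 1 n) (pts p _ (Additive.ofMul (𝟙 (W p 1 (Sk k))))) := by
    rw [← pts_V, Category.id_comp]
  rw [pts_V, pts_PhiOf, h2, ThetaT, Theta_shift]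
  congr 1
  refine TruncatedWittVector.ext fun i => ?_
  have hi : i = 0 := Subsingleton.elim _ _
  subst hi
  have h3 := coeff_pts_PhiOf p (fun e => b e ^ p ^ n) E (𝟙 (W p 1 (Sk k)))
  rw [Category.id_comp] at h3
  rw [h3, coeff_zero_sum p 0]
  refine Finset.sum_congr rfl fun e _ => ?_
  rw [TruncatedWittVector.coeff_mk, ← map_pow]

/-- lifting endomorphisms along `V : W_n → W_{n+1}` -/
theorem exists_lift_V [IsAlgClosed k] : ∀ (n : ℕ) (ρ : W p n (Sk k) ⟶ W p n (Sk k)), IsMonHom ρ →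
    ∃ τ : W p (n + 1) (Sk k) ⟶ W p (n + 1) (Sk k), IsMonHom τ ∧
      ρ ≫ V p (Sk k) (Nat.le_succ n) = V p (Sk k) (Nat.le_succ n) ≫ τ := by
  intro n
  induction n with
  | zero =>
    intro ρ hρ
    haveI := hρ
    exact ⟨𝟙 _, inferInstance, hom_W0_eq p _ _⟩
  | succ n ih =>
    intro ρ hρ
    haveI := hρ
    have h1 : 1 ≤ n + 1 := Nat.le_add_left 1 n
    obtain ⟨g, hgm, hg⟩ := exists_factor_V p 1 (n + 1) h1 (V p (Sk k) h1 ≫ ρ)
    haveI := hgm
    obtain ⟨E, a, rfl⟩ := exists_eq_PhiOf p g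
    have hc : ∀ e, ∃ z : k, z ^ p ^ (n + 1) = a e := fun e =>
      IsAlgClosed.exists_pow_nat_eq (a e) (pow_pos (Fact.out : p.Prime).pos (n + 1))
    choose c hc using hc
    have ha : a = fun e => (c e ^ p) ^ p ^ n := by
      funext e
      rw [← pow_mul, ← pow_succ', hc]
    have hΦV : PhiOf p 1 a E ≫ V p (Sk k) h1 =
        V p (Sk k) h1 ≫ PhiOf p (n + 1) (fun e => c e ^ p) E := by
      rw [ha]
      exact PhiOf_comp_Vn p (fun e => c e ^ p) E n
    haveI : IsMonHom (ρ / PhiOf p (n + 1) (fun e => c e ^ p) E) := isMonHom_div _ _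
    have h0 : V p (Sk k) (Nat.le_add_left 1 n) ≫ (ρ / PhiOf p (n + 1) (fun e => c e ^ p) E) = 1 := by
      rw [GrpObj.comp_div, ← hΦV, hg, div_self']
    have hfac := hom_eq_R_zext' p n 1 (ρ / PhiOf p (n + 1) (fun e => c e ^ p) E) h0
    haveI : IsMonHom (zext p n 1 ≫ (ρ / PhiOf p (n + 1) (fun e => c e ^ p) E)) :=
      isMonHom_zext_comp' p n 1 _ h0
    obtain ⟨ρ'', hρm, hρ''⟩ := exists_factor_V p n (n + 1) (Nat.le_succ n)
      (zext p n 1 ≫ (ρ / PhiOf p (n + 1) (fun e => c e ^ p) E))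
    haveI := hρm
    obtain ⟨τ'', hτm, hτ⟩ := ih ρ'' inferInstance
    haveI := hτm
    refine ⟨(R p (Sk k) (Nat.le_succ (n + 1)) ≫ τ'' ≫ V p (Sk k) (Nat.le_succ (n + 1))) *
      PhiOf p (n + 1 + 1) c E, isMonHom_mul _ _, ?_⟩
    have hρeq : ρ = (ρ / PhiOf p (n + 1) (fun e => c e ^ p) E) *
        PhiOf p (n + 1) (fun e => c e ^ p) E := (div_mul_cancel _ _).symm
    have key : (ρ / PhiOf p (n + 1) (fun e => c e ^ p) E) ≫ V p (Sk k) (Nat.le_succ (n + 1)) =
        V p (Sk k) (Nat.le_succ (n + 1)) ≫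
          (R p (Sk k) (Nat.le_succ (n + 1)) ≫ τ'' ≫ V p (Sk k) (Nat.le_succ (n + 1))) := by
      conv_lhs => rw [hfac, ← hρ'']
      have hτ2 := congrArg (fun x => x ≫ V p (Sk k) (Nat.le_succ (n + 1))) hτ
      simp only [Category.assoc] at hτ2 ⊢
      rw [← Category.assoc (V p (Sk k) (Nat.le_succ (n + 1))), V_comp_R_succ, Category.assoc]
      exact congrArg (fun x => R p (Sk k) (Nat.le_succ n) ≫ x) hτ2
    conv_lhs => rw [hρeq]
    rw [MonObj.mul_comp, key, MonObj.comp_mul, PhiOf_comp_V1]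

end lift

end Groth.Agent.Lib.Helper60.WittEndo
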