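import Groth.Agent.S12171

/-!
# Homomorphisms between Witt groups and the additive group over a field of characteristic `p`
-/

set_option autoImplicit false
set_option maxHeartbeats 400000
universe u
open CategoryTheory MonoidalCategory CartesianMonoidalCategory MonObj GrpObj AlgebraicGeometry CategoryTheory.Limits
open WittGrp

namespace Groth.Agent.Lib.Helper60.WittHom

open Groth.Agent.Lib.Helper61 Groth.Agent.S12171

section ring

variable (p : ℕ) [hp : Fact p.Prime]

/-- multiplication by `p` on truncated Witt vectors in characteristic `p` -/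
theorem coeff_p_nsmul_succ {A : Type*} [CommRing A] [CharP A p] (N : ℕ)
    (w : TruncatedWittVector p N A) (i : ℕ) (hi : i + 1 < N) :
    (p • w).coeff ⟨i + 1, hi⟩ = (w.coeff ⟨i, by omega⟩) ^ p := by
  obtain ⟨X, rfl⟩ := WittVector.truncate_surjective p N A w
  rw [← map_nsmul, WittVector.coeff_truncate, WittVector.coeff_truncate, nsmul_eq_mul, mul_comm,
    ← WittVector.verschiebung_frobenius, WittVector.verschiebung_coeff_succ,
    WittVector.coeff_frobenius_charP]

theorem coeff_eq_zero_of_p_nsmul {A : Type*} [CommRing A] [CharP A p] [IsReduced A] (N : ℕ)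
    (w : TruncatedWittVector p N A) (hw : p • w = 0) (i : ℕ) (hi : i + 1 < N) :
    w.coeff ⟨i, by omega⟩ = 0 := by
  have h := coeff_p_nsmul_succ p N w i hi
  rw [hw, TruncatedWittVector.coeff_zero] at h
  exact (pow_eq_zero_iff (hp.out.ne_zero)).mp h.symm

theorem shift_injective {A : Type*} [CommRing A] {n m : ℕ} (h : n ≤ m) :
    Function.Injective (shift p h : TruncatedWittVector p n A →+ TruncatedWittVector p m A) := by
  intro x y hxy
  ext i
  have := congrArg (fun w => w.coeff ⟨i + (m - n), by omega⟩) hxy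
  simp only [coeff_shift] at this
  rw [dif_pos (by simp), dif_pos (by simp)] at this
  convert this using 2 <;> · ext; simp

theorem coeff_p_nsmul_zero {A : Type*} [CommRing A] [CharP A p] (N : ℕ)
    (w : TruncatedWittVector p N A) (h0 : 0 < N) : (p • w).coeff ⟨0, h0⟩ = 0 := by
  obtain ⟨X, rfl⟩ := WittVector.truncate_surjective p N A w
  rw [← map_nsmul, WittVector.coeff_truncate, nsmul_eq_mul, mul_comm,
    ← WittVector.verschiebung_frobenius, WittVector.verschiebung_coeff_zero]

/-- the vector `(0, …, 0, y_0, …, y_{n-1}, 0)` with `m - 1` leading zeros -/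
def zvec {A : Type*} [CommRing A] (m n : ℕ) (y : TruncatedWittVector p n A) :
    TruncatedWittVector p (m + n) A :=
  TruncatedWittVector.mk p fun i =>
    if h : m - 1 ≤ (i : ℕ) ∧ (i : ℕ) < m - 1 + n then y.coeff ⟨i - (m - 1), by omega⟩ else 0

theorem p_nsmul_zvec {A : Type*} [CommRing A] [CharP A p] (hpA : (p : A) = 0) (m n : ℕ)
    (hm : 0 < m) (y : TruncatedWittVector p n A) :
    p • zvec p m n y = shift p (Nat.le_add_left n m) (frob p n hpA y) := by
  ext ⟨i, hi⟩
  rcases i with _ | j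
  · rw [coeff_p_nsmul_zero, coeff_shift, dif_neg (by simp only []; omega)]
  · rw [coeff_p_nsmul_succ, coeff_shift, zvec, TruncatedWittVector.coeff_mk]
    by_cases hj : m - 1 ≤ j
    · rw [dif_pos (by simp only []; omega), dif_pos (by simp only []; omega), coeff_frob]
      congr 2
      ext
      simp only
      omega
    · rw [dif_neg (by simp only []; omega), dif_neg (by simp only []; omega),
        zero_pow hp.out.ne_zero]

end ring

section scheme

variable (p : ℕ) [hp : Fact p.Prime] {k : Type u} [Field k] [CharP k p] {n m : ℕ}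

theorem V_mono (h : n ≤ m) {T : Over (Sk k)} (x y : T ⟶ W p n (Sk k))
    (hxy : x ≫ V p (Sk k) h = y ≫ V p (Sk k) h) : x = y := by
  apply witt_hom_ext
  apply shift_injective p h
  rw [← pts_V, ← pts_V, hxy]

instance isDomain_W : IsDomain Γ((W p n (Sk k)).left, ⊤) := by
  change IsDomain Γ(𝔸(ULift.{u} (Fin n); Sk k), ⊤)
  infer_instance

instance charP_W : CharP Γ((W p n (Sk k)).left, ⊤) p :=
  (CharP.charP_iff_prime_eq_zero hp.out).mpr (hpT p k _)

/-- a homomorphism into a Witt group which agrees after `V` with a homomorphism is a homomorphism -/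
theorem isMonHom_of_comp_V (h : n ≤ m) {G : Over (Sk k)} [GrpObj G]
    (g : G ⟶ W p n (Sk k)) (f : G ⟶ W p m (Sk k)) [IsMonHom f] (hgf : g ≫ V p (Sk k) h = f) :
    IsMonHom g := by
  apply isMonHom_of_comp_mul
  · apply V_mono p h
    rw [Category.assoc, hgf, MonObj.one_comp, MonObj.one_comp]
  · intro T x y
    apply V_mono p h
    rw [Category.assoc, hgf, MonObj.mul_comp, MonObj.mul_comp, Category.assoc, Category.assoc, hgf]

/-- the `p`-th power of any point of `W_1` is trivial -/
theorem pow_p_W1 {T : Over (Sk k)} (x : T ⟶ W p 1 (Sk k)) : x ^ p = 1 := by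
  apply witt_hom_ext
  have : pts p T (Additive.ofMul (x ^ p)) = p • pts p T (Additive.ofMul x) :=
    map_nsmul (pts p T) p (Additive.ofMul x)
  rw [this, pts_one]
  ext i
  have hi : i = 0 := Subsingleton.elim _ _
  subst hi
  have e : (p • pts p T (Additive.ofMul x)).coeff 0 = p • (pts p T (Additive.ofMul x)).coeff 0 :=
    map_nsmul (Groth.Agent.Lib.Helper60.WittTheta.c0 p 0) p _
  rw [e, nsmul_eq_mul, hpT p k T, zero_mul, TruncatedWittVector.coeff_zero]

/-- a homomorphism from `W_1` is killed by `p` -/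
theorem pow_p_hom (f : W p 1 (Sk k) ⟶ W p m (Sk k)) [IsMonHom f] : f ^ p = 1 := by
  have := MonObj.pow_comp (𝟙 (W p 1 (Sk k))) p f
  rw [pow_p_W1, MonObj.one_comp, Category.id_comp] at this
  exact this.symm

/-- the polynomial ring maps isomorphically onto the functions on `W_n` -/
noncomputable def evW (n : ℕ) :
    MvPolynomial (ULift.{u} (Fin n)) k →+* Γ((W p n (Sk k)).left, ⊤) :=
  MvPolynomial.eval₂Hom (cT k (W p n (Sk k))) (fun i => coord p i.down)

theorem evW_bijective (n : ℕ) : Function.Bijective (evW p (k := k) n) := by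
  let ev : MvPolynomial (ULift.{u} (Fin n)) k →+* Γ(𝔸(ULift.{u} (Fin n); Sk k), ⊤) :=
    MvPolynomial.eval₂Hom ((Scheme.ΓSpecIso (CommRingCat.of k)).inv ≫
      (𝔸(ULift.{u} (Fin n); Sk k) ↘ Sk k).appTop).hom (AffineSpace.coord (Sk k))
  have h1 : CommRingCat.ofHom ev = (Scheme.ΓSpecIso _).inv ≫
      (AffineSpace.SpecIso (ULift.{u} (Fin n)) (CommRingCat.of k)).hom.appTop := by
    rw [AffineSpace.SpecIso_hom_appTop, Iso.inv_hom_id_assoc]
  have h2 : IsIso (CommRingCat.ofHom ev) := by
    rw [h1]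
    haveI : IsIso (Scheme.Hom.appTop (AffineSpace.SpecIso (ULift.{u} (Fin n))
        (CommRingCat.of k)).hom) :=
      ⟨⟨(AffineSpace.SpecIso (ULift.{u} (Fin n)) (CommRingCat.of k)).inv.appTop,
        by rw [← Scheme.Hom.comp_appTop, Iso.inv_hom_id]; simp,
        by rw [← Scheme.Hom.comp_appTop, Iso.hom_inv_id]; simp⟩⟩
    infer_instance
  exact ConcreteCategory.bijective_of_isIso (CommRingCat.ofHom ev)

theorem F_appTop_coord (n : ℕ) (i : Fin n) :
    (F p n (Sk k) (hpS p k)).left.appTop (coord p i) = (coord p i) ^ p := by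
  have h := congrArg (fun w => w.coeff i)
    (pts_F p (hpS p k) (𝟙 (W p n (Sk k))))
  simp only [coeff_pts, coeff_frob, Category.id_comp] at h
  rw [h]
  simp

theorem F_appTop_injective (n : ℕ) :
    Function.Injective ((F p n (Sk k) (hpS p k)).left.appTop).hom := by
  have hcomm : ((F p n (Sk k) (hpS p k)).left.appTop).hom.comp (evW p n) =
      (evW p (k := k) n).comp (MvPolynomial.expand p).toRingHom := by
    apply MvPolynomial.ringHom_ext
    · intro a
      simp only [evW, RingHom.comp_apply, MvPolynomial.eval₂Hom_C, AlgHom.toRingHom_eq_coe,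
        RingHom.coe_coe, MvPolynomial.expand_C]
      exact cT_comp_apply k (F p n (Sk k) (hpS p k)) a
    · intro i
      simp only [evW, RingHom.comp_apply, MvPolynomial.eval₂Hom_X', AlgHom.toRingHom_eq_coe,
        RingHom.coe_coe, MvPolynomial.expand_X, map_pow]
      exact F_appTop_coord p n i.down
  intro a b hab
  obtain ⟨a', rfl⟩ := (evW_bijective p n).2 a
  obtain ⟨b', rfl⟩ := (evW_bijective p n).2 b
  have ha := congrArg (fun ψ : MvPolynomial (ULift.{u} (Fin n)) k →+* _ => ψ a') hcomm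
  have hb := congrArg (fun ψ : MvPolynomial (ULift.{u} (Fin n)) k →+* _ => ψ b') hcomm
  simp only [RingHom.comp_apply] at ha hb
  rw [ha, hb] at hab
  have := (evW_bijective p n).1 hab
  rw [MvPolynomial.expand_injective hp.out.pos this]

/-- a homomorphism from `W_n` to `W_1` killed by Frobenius is trivial -/
theorem eq_one_of_F_comp (n : ℕ) (u : W p n (Sk k) ⟶ W p 1 (Sk k))
    (hu : F p n (Sk k) (hpS p k) ≫ u = 1) : u = 1 := by
  apply witt_hom_ext
  ext i
  have hi : i = 0 := Subsingleton.elim _ _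
  subst hi
  apply F_appTop_injective p n
  have h := congrArg (fun x => (pts p _ (Additive.ofMul x)).coeff 0) hu
  simp only [pts_comp, coeff_truncMap] at h
  rw [h, pts_one, TruncatedWittVector.coeff_zero, map_zero]

/-- **Key fact**: a homomorphism `W_{m+n} → W_1` kills `V^m W_n` when `m > 0`. -/
theorem V_comp_hom_eq_one (m n : ℕ) (hm : 0 < m) (h : W p (m + n) (Sk k) ⟶ W p 1 (Sk k))
    [IsMonHom h] : V p (Sk k) (Nat.le_add_left n m) ≫ h = 1 := by
  apply eq_one_of_F_comp p n
  let z : W p n (Sk k) ⟶ W p (m + n) (Sk k) :=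
    ofPts p (W p n (Sk k)) (zvec p m n (pts p _ (Additive.ofMul (𝟙 (W p n (Sk k))))))
  have hz : z ^ p = F p n (Sk k) (hpS p k) ≫ V p (Sk k) (Nat.le_add_left n m) := by
    apply witt_hom_ext
    have e : pts p _ (Additive.ofMul (z ^ p)) = p • pts p _ (Additive.ofMul z) :=
      map_nsmul (pts p _) p (Additive.ofMul z)
    rw [e, pts_ofPts, p_nsmul_zvec p (hpT p k _) m n hm, pts_V,
      ← Category.id_comp (F p n (Sk k) (hpS p k)), pts_F]
  rw [← Category.assoc, ← hz, MonObj.pow_comp, pow_p_W1]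

section factor

variable (m n : ℕ) (hm : 0 < m) (h : W p (m + n) (Sk k) ⟶ W p 1 (Sk k)) [IsMonHom h]

/-- zero extension `W_m → W_{m+n}` (a morphism of schemes, not a homomorphism) -/
noncomputable def zext : W p m (Sk k) ⟶ W p (m + n) (Sk k) :=
  ofPts p (W p m (Sk k)) (appendFun p (pts p _ (Additive.ofMul (𝟙 (W p m (Sk k))))) 0)

theorem zext_R : zext p m n ≫ R p (Sk k) (Nat.le_add_right m n) = 𝟙 (W p m (Sk k)) := by
  apply witt_hom_ext
  rw [pts_R, zext, pts_ofPts, truncate_appendFun]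

include hm in
theorem hom_eq_R_zext : h = R p (Sk k) (Nat.le_add_right m n) ≫ zext p m n ≫ h := by
  -- decompose the universal point
  have e1 : TruncatedWittVector.truncate (Nat.le_add_right m n)
      (pts p _ (Additive.ofMul (𝟙 (W p (m + n) (Sk k))))) =
      pts p _ (Additive.ofMul (R p (Sk k) (Nat.le_add_right m n))) := by
    rw [← pts_R, Category.id_comp]
  have e2 : TruncatedWittVector.truncate (Nat.le_add_right m n)
      (pts p _ (Additive.ofMul (R p (Sk k) (Nat.le_add_right m n) ≫ zext p (k := k) m n))) =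
      pts p _ (Additive.ofMul (R p (Sk k) (Nat.le_add_right m n))) := by
    rw [← pts_R, Category.assoc, zext_R, Category.comp_id]
  have ht : TruncatedWittVector.truncate (Nat.le_add_right m n)
      (pts p _ (Additive.ofMul (𝟙 (W p (m + n) (Sk k)))) -
        pts p _ (Additive.ofMul (R p (Sk k) (Nat.le_add_right m n) ≫ zext p (k := k) m n))) = 0 := by
    rw [map_sub, e1, e2, sub_self]
  let y : W p (m + n) (Sk k) ⟶ W p n (Sk k) := ofPts p _ (tailFun p (n := m) (m := n)
    (pts p _ (Additive.ofMul (𝟙 (W p (m + n) (Sk k)))) -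
        pts p _ (Additive.ofMul (R p (Sk k) (Nat.le_add_right m n) ≫ zext p (k := k) m n))))
  have hdec : 𝟙 (W p (m + n) (Sk k)) =
      (R p (Sk k) (Nat.le_add_right m n) ≫ zext p m n) * (y ≫ V p (Sk k) (Nat.le_add_left n m)) := by
    apply witt_hom_ext
    rw [pts_mul, pts_V, pts_ofPts, shift_tailFun_of_truncate_eq_zero p _ ht]
    abel
  have key := congrArg (fun x => x ≫ h) hdec
  simp only [Category.id_comp] at key
  rw [MonObj.mul_comp, Category.assoc, Category.assoc, V_comp_hom_eq_one p m n hm h,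
    MonObj.comp_one, _root_.mul_one] at key
  exact key

include hm in
theorem isMonHom_zext_comp : IsMonHom (zext p m n ≫ h) := by
  have hR := (hom_eq_R_zext p m n hm h).symm
  apply isMonHom_of_comp_mul
  · have : (1 : 𝟙_ (Over (Sk k)) ⟶ W p m (Sk k)) =
        (1 : 𝟙_ (Over (Sk k)) ⟶ W p (m + n) (Sk k)) ≫ R p (Sk k) (Nat.le_add_right m n) := by
      rw [MonObj.one_comp]
    rw [this, Category.assoc, hR, MonObj.one_comp]
  · intro T x y
    have hx : x = (x ≫ zext p m n) ≫ R p (Sk k) (Nat.le_add_right m n) := by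
      rw [Category.assoc, zext_R, Category.comp_id]
    have hy : y = (y ≫ zext p m n) ≫ R p (Sk k) (Nat.le_add_right m n) := by
      rw [Category.assoc, zext_R, Category.comp_id]
    have hxy : x * y = ((x ≫ zext p m n) * (y ≫ zext p m n)) ≫
        R p (Sk k) (Nat.le_add_right m n) := by
      rw [MonObj.mul_comp, ← hx, ← hy]
    rw [hxy, Category.assoc, hR, MonObj.mul_comp, Category.assoc, Category.assoc]

include hm in
/-- every homomorphism `W_{m+n} → W_1` factors uniquely through `R : W_{m+n} → W_m` -/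
theorem existsUnique_factor_R :
    ∃! g : W p m (Sk k) ⟶ W p 1 (Sk k),
      IsMonHom g ∧ R p (Sk k) (Nat.le_add_right m n) ≫ g = h := by
  refine ⟨zext p m n ≫ h, ⟨isMonHom_zext_comp p m n hm h, (hom_eq_R_zext p m n hm h).symm⟩, ?_⟩
  rintro g ⟨_, hg⟩
  rw [← hg, ← Category.assoc, zext_R, Category.id_comp]

section endo

include hm in
theorem existsUnique_factor_R' (N : ℕ) (hN : m ≤ N) (h : W p N (Sk k) ⟶ W p 1 (Sk k))
    [IsMonHom h] :
    ∃! g : W p m (Sk k) ⟶ W p 1 (Sk k), IsMonHom g ∧ R p (Sk k) hN ≫ g = h := by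
  obtain ⟨n, rfl⟩ := Nat.exists_eq_add_of_le hN
  exact existsUnique_factor_R p m n hm h

/-- the action of an endomorphism of `W_1` on points -/
theorem exists_coeffs (g : W p 1 (Sk k) ⟶ W p 1 (Sk k)) [IsMonHom g] :
    ∃ (E : ℕ) (a : ℕ → k), ∀ {T : Over (Sk k)} (x : T ⟶ W p 1 (Sk k)),
      (pts p T (Additive.ofMul (x ≫ g))).coeff 0 =
        ∑ e ∈ Finset.range E, cT k T (a e) * (pts p T (Additive.ofMul x)).coeff 0 ^ p ^ e := by
  classical
  obtain ⟨f, hf⟩ := exists_poly p (g.left.appTop (coord p (0 : Fin 1)))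
  obtain ⟨E, a, hfa⟩ := AddPoly.exists_eq_sum_of_additive p f (additive_of_isMonHom p g f hf)
  refine ⟨E, a, fun {T} x => ?_⟩
  rw [coeff_pts_comp, hf, appTop_eval₂, hfa, Polynomial.eval₂_finsetSum, coeff_pts]
  refine Finset.sum_congr rfl fun e _ => ?_
  rw [Polynomial.eval₂_mul, Polynomial.eval₂_C, Polynomial.eval₂_X_pow]

theorem coeff_pts_PhiOf (a : ℕ → k) (E : ℕ) {T : Over (Sk k)} (x : T ⟶ W p 1 (Sk k)) :
    (pts p T (Additive.ofMul (x ≫ PhiOf p 1 a E))).coeff 0 =
      ∑ e ∈ Finset.range E, cT k T (a e) * (pts p T (Additive.ofMul x)).coeff 0 ^ p ^ e := by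
  rw [pts_PhiOf, ThetaT, Groth.Agent.Lib.Helper60.WittTheta.c0_Theta p 0]

theorem exists_eq_PhiOf (g : W p 1 (Sk k) ⟶ W p 1 (Sk k)) [IsMonHom g] :
    ∃ (E : ℕ) (a : ℕ → k), g = PhiOf p 1 a E := by
  obtain ⟨E, a, h⟩ := exists_coeffs p g
  refine ⟨E, a, witt_hom_ext p (TruncatedWittVector.ext fun i => ?_)⟩
  have hi : i = 0 := Subsingleton.elim _ _
  subst hi
  have h1 := h (𝟙 (W p 1 (Sk k)))
  have h2 := coeff_pts_PhiOf p a E (𝟙 (W p 1 (Sk k)))
  rw [Category.id_comp] at h1 h2
  rw [h1, h2]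

theorem F_comp_PhiOf (a b : ℕ → k) (E : ℕ) (hab : ∀ e, b e ^ p = a e) :
    F p 1 (Sk k) (hpS p k) ≫ PhiOf p 1 a E = PhiOf p 1 b E ≫ F p 1 (Sk k) (hpS p k) := by
  refine witt_hom_ext p (TruncatedWittVector.ext fun i => ?_)
  have hi : i = 0 := Subsingleton.elim _ _
  subst hi
  have h2 := coeff_pts_PhiOf p b E (𝟙 (W p 1 (Sk k)))
  rw [Category.id_comp] at h2
  rw [coeff_pts_PhiOf, pts_F, coeff_frob, h2, sum_pow_char]
  refine Finset.sum_congr rfl fun e _ => ?_
  rw [coeff_pts, coeff_pts, F_appTop_coord, mul_pow, ← map_pow, hab, ← pow_mul, ← pow_mul,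
    mul_comm p (p ^ e)]
  simp

theorem F_comp_R (n : ℕ) (hn : 1 ≤ n) :
    F p n (Sk k) (hpS p k) ≫ R p (Sk k) hn = R p (Sk k) hn ≫ F p 1 (Sk k) (hpS p k) := by
  apply witt_hom_ext
  rw [pts_R, pts_F, ← Category.id_comp (F p n (Sk k) (hpS p k)), pts_F,
    Groth.Agent.Lib.Helper60.WittTheta.truncate_frob, ← pts_R, Category.id_comp]

end endo

end factor

end scheme

end Groth.Agent.Lib.Helper60.WittHom
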