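import Groth.Agent.Lib.Helper60.WittEndo

/-!
# Isogeny criterion for endomorphisms of Witt groups
-/

set_option autoImplicit false
set_option maxHeartbeats 400000
universe u
open CategoryTheory MonoidalCategory CartesianMonoidalCategory MonObj GrpObj AlgebraicGeometry CategoryTheory.Limits
open WittGrp

namespace Groth.Agent.Lib.Helper60.WittIsog

open Groth.Agent.Lib.Helper61 Groth.Agent.S12171 Groth.Agent.Lib.Helper60.WittHom
open Groth.Agent.Lib.Helper60.WittTheta Groth.Agent.Lib.Helper60.WittEndo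

section ring

variable (p : ℕ) [hp : Fact p.Prime] {A : Type*} [CommRing A]

/-- addition of truncated Witt vectors with disjoint supports is coefficientwise -/
theorem coeff_add_of_disjoint (N : ℕ) (a s : TruncatedWittVector p N A)
    (h : ∀ i, a.coeff i = 0 ∨ s.coeff i = 0) (i : Fin N) :
    (a + s).coeff i = a.coeff i + s.coeff i := by
  classical
  let X : WittVector p A := WittVector.mk p fun j => if hj : j < N then a.coeff ⟨j, hj⟩ else 0
  let Y : WittVector p A := WittVector.mk p fun j => if hj : j < N then s.coeff ⟨j, hj⟩ else 0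
  have hX : WittVector.truncate N X = a := by
    ext j
    rw [WittVector.coeff_truncate, WittVector.coeff_mk, dif_pos j.2]
  have hY : WittVector.truncate N Y = s := by
    ext j
    rw [WittVector.coeff_truncate, WittVector.coeff_mk, dif_pos j.2]
  have hd : ∀ j, X.coeff j = 0 ∨ Y.coeff j = 0 := by
    intro j
    rw [WittVector.coeff_mk, WittVector.coeff_mk]
    by_cases hj : j < N
    · rw [dif_pos hj, dif_pos hj]
      exact h ⟨j, hj⟩
    · rw [dif_neg hj]
      exact Or.inl rfl
  rw [← hX, ← hY, ← map_add, WittVector.coeff_truncate, WittVector.coeff_truncate,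
    WittVector.coeff_truncate, WittVector.coeff_add_of_disjoint _ X Y hd]

theorem coeff_shift_one (n : ℕ) (t : TruncatedWittVector p 1 A) (j : Fin (n + 1)) :
    (shift p (Nat.le_add_left 1 n) t).coeff j = if (j : ℕ) < n then 0 else t.coeff 0 := by
  rw [coeff_shift]
  have e : n + 1 - 1 = n := by omega
  by_cases hj : (j : ℕ) < n
  · rw [dif_neg (by omega), if_pos hj]
  · rw [dif_pos (by omega), if_neg hj]
    congr 1
    ext
    simp only [Fin.val_zero]
    have := j.2
    omega

/-- adding an element of `V^n W_1` is coefficientwise -/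
theorem coeff_add_shift_one (n : ℕ) (w : TruncatedWittVector p (n + 1) A)
    (s : TruncatedWittVector p 1 A) (i : Fin (n + 1)) :
    (w + shift p (Nat.le_add_left 1 n) s).coeff i =
      w.coeff i + (shift p (Nat.le_add_left 1 n) s).coeff i := by
  classical
  -- split `w = w' + shift u`
  let w' : TruncatedWittVector p (n + 1) A :=
    TruncatedWittVector.mk p fun j => if (j : ℕ) < n then w.coeff j else 0
  let u : TruncatedWittVector p 1 A := TruncatedWittVector.mk p fun _ => w.coeff (Fin.last n)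
  have hsh : ∀ (t : TruncatedWittVector p 1 A) (j : Fin (n + 1)),
      (shift p (Nat.le_add_left 1 n) t).coeff j = if (j : ℕ) < n then 0 else t.coeff 0 := by
    intro t j
    rw [coeff_shift]
    have e : n + 1 - 1 = n := by omega
    by_cases hj : (j : ℕ) < n
    · rw [dif_neg (by omega), if_pos hj]
    · rw [dif_pos (by omega), if_neg hj]
      congr 1
      ext
      simp only [Fin.val_zero]
      have := j.2
      omega
  have hdis : ∀ (t : TruncatedWittVector p 1 A) (j : Fin (n + 1)),
      w'.coeff j = 0 ∨ (shift p (Nat.le_add_left 1 n) t).coeff j = 0 := by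
    intro t j
    rw [hsh, TruncatedWittVector.coeff_mk]
    by_cases hj : (j : ℕ) < n
    · right; rw [if_pos hj]
    · left; rw [if_neg hj]
  have hw : w = w' + shift p (Nat.le_add_left 1 n) u := by
    ext j
    rw [coeff_add_of_disjoint p _ _ _ (hdis u), hsh, TruncatedWittVector.coeff_mk,
      TruncatedWittVector.coeff_mk]
    by_cases hj : (j : ℕ) < n
    · rw [if_pos hj, if_pos hj, add_zero]
    · rw [if_neg hj, if_neg hj, zero_add]
      congr 1
      ext
      simp only [Fin.val_last]
      have := j.2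
      omega
  have hsum : w + shift p (Nat.le_add_left 1 n) s = w' + shift p (Nat.le_add_left 1 n) (u + s) := by
    rw [map_add, ← add_assoc, ← hw]
  rw [hsum, coeff_add_of_disjoint p _ _ _ (hdis (u + s)), hsh, hsh, coeff_add_zero,
    TruncatedWittVector.coeff_mk, TruncatedWittVector.coeff_mk]
  by_cases hj : (i : ℕ) < n
  · rw [if_pos hj, if_pos hj, if_pos hj, add_zero]
  · rw [if_neg hj, if_neg hj, if_neg hj, zero_add]
    congr 2
    ext
    simp only [Fin.val_last]
    have := i.2
    omega

end ring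

section integral

/-- an element satisfying a monic equation with integral right hand side is integral -/
theorem isIntegral_of_monic_eq {R B : Type*} [CommRing R] [CommRing B] [Algebra R B] (x s : B)
    (hs : IsIntegral R s) (q : Polynomial R) (hq : q.Monic) (hdeg : 0 < q.natDegree)
    (h : Polynomial.aeval x q = s) : IsIntegral R x := by
  rcases subsingleton_or_nontrivial B with hB | hB
  · exact ⟨Polynomial.X, Polynomial.monic_X, Subsingleton.elim _ _⟩
  haveI : Nontrivial R := (algebraMap R B).domain_nontrivial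
  let S := integralClosure R B
  let s' : S := ⟨s, hs⟩
  haveI : Nontrivial S := (Subalgebra.val S).toRingHom.domain_nontrivial
  have hx : IsIntegral S x := by
    refine ⟨q.map (algebraMap R S) - Polynomial.C s', ?_, ?_⟩
    · apply (hq.map _).sub_of_left
      rw [Polynomial.degree_map_eq_of_leadingCoeff_ne_zero]
      · refine lt_of_le_of_lt Polynomial.degree_C_le ?_
        rw [Polynomial.degree_eq_natDegree hq.ne_zero]
        exact_mod_cast hdeg
      · rw [hq.leadingCoeff, map_one]
        exact one_ne_zero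
    · rw [Polynomial.eval₂_sub, Polynomial.eval₂_C, Polynomial.eval₂_map]
      have : (algebraMap S B).comp (algebraMap R S) = algebraMap R B := rfl
      rw [this, ← Polynomial.aeval_def, h]
      exact sub_self s
  exact isIntegral_trans x hx

theorem RingHom.isIntegralElem_of_monic_eq {R B : Type*} [CommRing R] [CommRing B] (f : R →+* B)
    (x s : B) (hs : f.IsIntegralElem s) (q : Polynomial R) (hq : q.Monic) (hdeg : 0 < q.natDegree)
    (h : Polynomial.eval₂ f x q = s) : f.IsIntegralElem x := by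
  letI := f.toAlgebra
  exact isIntegral_of_monic_eq x s hs q hq hdeg h

end integral

section scheme

variable (p : ℕ) [hp : Fact p.Prime] {k : Type u} [Field k] [CharP k p]

theorem pts_id_R {M N : ℕ} (h : M ≤ N) :
    pts p _ (Additive.ofMul (R p (Sk k) h)) =
      TruncatedWittVector.truncate h (pts p _ (Additive.ofMul (𝟙 (W p N (Sk k))))) := by
  rw [← pts_R, Category.id_comp]

theorem pts_id_V {M N : ℕ} (h : M ≤ N) :
    pts p _ (Additive.ofMul (V p (Sk k) h)) =
      shift p h (pts p _ (Additive.ofMul (𝟙 (W p M (Sk k))))) := by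
  rw [← pts_V, Category.id_comp]

theorem coeff_pts_id {N : ℕ} (i : Fin N) :
    (pts p _ (Additive.ofMul (𝟙 (W p N (Sk k))))).coeff i = coord p i := by
  rw [coeff_pts]
  simp

theorem R_appTop_coord {M N : ℕ} (h : M ≤ N) (i : Fin M) :
    (R p (Sk k) h).left.appTop (coord p i) = coord p (Fin.castLE h i) := by
  rw [← coeff_pts, pts_id_R, TruncatedWittVector.coeff_truncate, coeff_pts_id]

theorem R_comp {L M N : ℕ} (h1 : L ≤ M) (h2 : M ≤ N) :
    R p (Sk k) h2 ≫ R p (Sk k) h1 = R p (Sk k) (h1.trans h2) := by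
  apply witt_hom_ext
  rw [pts_R, pts_id_R, pts_id_R, TruncatedWittVector.truncate_truncate]

/-- `R` is a split epimorphism of schemes -/
theorem R_epi {M N : ℕ} (h : M ≤ N) {G : Over (Sk k)} (x y : W p M (Sk k) ⟶ G)
    (hxy : R p (Sk k) h ≫ x = R p (Sk k) h ≫ y) : x = y := by
  obtain ⟨r, rfl⟩ := Nat.exists_eq_add_of_le h
  have := congrArg (fun z => zext p M r ≫ z) hxy
  simp only [← Category.assoc, zext_R, Category.id_comp] at this
  exact this

/-- the endomorphism induced on the quotient `W_M` of `W_N` -/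
theorem exists_induced {M N : ℕ} (h : M ≤ N) (f : W p N (Sk k) ⟶ W p N (Sk k)) [IsMonHom f] :
    ∃ fM : W p M (Sk k) ⟶ W p M (Sk k), IsMonHom fM ∧
      f ≫ R p (Sk k) h = R p (Sk k) h ≫ fM := by
  obtain ⟨r, rfl⟩ := Nat.exists_eq_add_of_le h
  have hV := V_comp_hom_eq_one' p M r (f ≫ R p (Sk k) (Nat.le_add_right M r))
  exact ⟨zext p M r ≫ f ≫ R p (Sk k) (Nat.le_add_right M r),
    isMonHom_zext_comp' p M r _ hV, hom_eq_R_zext' p M r _ hV⟩

theorem pts_FM (r M : ℕ) {T : Over (Sk k)} (x : T ⟶ W p r (Sk k)) :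
    pts p T (Additive.ofMul (x ≫ FM p r M)) =
      (frob p r (hpT p k T))^[M] (pts p T (Additive.ofMul x)) := by
  rw [pts_comp, FM, pts_ofPts, truncMap_iterate_frob p r (hpT p k _) (hpT p k T), ← pts_comp,
    Category.comp_id]

instance isMonHom_FM (r M : ℕ) : IsMonHom (FM p (k := k) r M) :=
  isMonHom_of_comp_mul _ (pts_injective p _ (by
      change pts p _ (Additive.ofMul ((1 : _ ⟶ W p r (Sk k)) ≫ FM p r M)) =
        pts p _ (Additive.ofMul 1)
      rw [pts_FM, pts_one, iterate_frob_zero]))
    (fun T x y => pts_injective p _ (by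
      change pts p _ (Additive.ofMul ((x * y) ≫ FM p r M)) =
        pts p _ (Additive.ofMul ((x ≫ FM p r M) * (y ≫ FM p r M)))
      rw [pts_FM, pts_mul, pts_mul, pts_FM, pts_FM, iterate_frob_add]))

/-- multiplication by `p^n` on `W_{n+1}` is `R ≫ F^n ≫ V` -/
theorem pow_id_eq (n : ℕ) :
    (𝟙 (W p (n + 1) (Sk k))) ^ (p ^ n) =
      R p (Sk k) (Nat.le_add_left 1 n) ≫ FM p 1 n ≫ V p (Sk k) (Nat.le_add_left 1 n) := by
  apply witt_hom_ext
  have e : pts p _ (Additive.ofMul ((𝟙 (W p (n + 1) (Sk k))) ^ (p ^ n))) =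
      (p ^ n) • pts p _ (Additive.ofMul (𝟙 (W p (n + 1) (Sk k)))) :=
    map_nsmul (pts p _) (p ^ n) (Additive.ofMul (𝟙 (W p (n + 1) (Sk k))))
  rw [e, ← Category.assoc, pts_V, pts_FM, pts_id_R]
  ext ⟨i, hi⟩
  rw [coeff_pow_p_nsmul, coeff_shift]
  have e1 : n + 1 - 1 = n := by omega
  by_cases hn : n ≤ i
  · rw [dif_pos hn, dif_pos (by simp only []; omega), coeff_iterate_frob,
      TruncatedWittVector.coeff_truncate]
    congr 2
  · rw [dif_neg hn, dif_neg (by simp only []; omega)]

section leadtrail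

variable (n : ℕ) (f : W p (n + 1) (Sk k) ⟶ W p (n + 1) (Sk k)) [IsMonHom f]
  (g0 g1 : W p 1 (Sk k) ⟶ W p 1 (Sk k)) [IsMonHom g0] [IsMonHom g1]
  (hg0 : f ≫ R p (Sk k) (Nat.le_add_left 1 n) = R p (Sk k) (Nat.le_add_left 1 n) ≫ g0)
  (hg1 : V p (Sk k) (Nat.le_add_left 1 n) ≫ f = g1 ≫ V p (Sk k) (Nat.le_add_left 1 n))

include hg0 hg1 in
theorem twist_rel : g0 ≫ FM p 1 n = FM p 1 n ≫ g1 := by
  have h1 : f ≫ ((𝟙 (W p (n + 1) (Sk k))) ^ (p ^ n)) = ((𝟙 (W p (n + 1) (Sk k))) ^ (p ^ n)) ≫ f := by
    rw [MonObj.comp_pow, MonObj.pow_comp, Category.comp_id, Category.id_comp]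
  rw [pow_id_eq] at h1
  have h2 : R p (Sk k) (Nat.le_add_left 1 n) ≫ (g0 ≫ FM p 1 n) ≫ V p (Sk k) (Nat.le_add_left 1 n) =
      R p (Sk k) (Nat.le_add_left 1 n) ≫ (FM p 1 n ≫ g1) ≫ V p (Sk k) (Nat.le_add_left 1 n) := by
    have e1 : f ≫ R p (Sk k) (Nat.le_add_left 1 n) ≫ FM p 1 n ≫ V p (Sk k) (Nat.le_add_left 1 n) =
        R p (Sk k) (Nat.le_add_left 1 n) ≫ (g0 ≫ FM p 1 n) ≫ V p (Sk k) (Nat.le_add_left 1 n) := by
      rw [← Category.assoc, hg0]
      simp only [Category.assoc]
    have e2 : (R p (Sk k) (Nat.le_add_left 1 n) ≫ FM p 1 n ≫ V p (Sk k) (Nat.le_add_left 1 n)) ≫ f =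
        R p (Sk k) (Nat.le_add_left 1 n) ≫ (FM p 1 n ≫ g1) ≫ V p (Sk k) (Nat.le_add_left 1 n) := by
      simp only [Category.assoc]
      rw [hg1]
    rw [← e1, ← e2, h1]
  exact V_mono p _ _ _ (R_epi p _ _ _ h2)

include hg0 hg1 in
theorem lead_eq_one_iff : g0 = 1 ↔ g1 = 1 := by
  have h := twist_rel p n f g0 g1 hg0 hg1
  constructor
  · intro h1
    rw [h1, MonObj.one_comp] at h
    exact eq_one_of_comp p 1 1 (FM p 1 n)
      (appTop_injective_of_coord_pow p 1 _ (p ^ n) (pow_pos hp.out.pos n) (FM_coord p 1 n)) g1 h.symm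
  · intro h1
    rw [h1, MonObj.comp_one] at h
    apply witt_hom_ext
    ext i
    have hi : i = 0 := Subsingleton.elim _ _
    subst hi
    have h2 := congrArg (fun x => (pts p _ (Additive.ofMul x)).coeff 0) h
    simp only [pts_FM, coeff_iterate_frob, pts_one, TruncatedWittVector.coeff_zero] at h2
    rw [pts_one, TruncatedWittVector.coeff_zero]
    exact (pow_eq_zero_iff (pow_pos hp.out.pos n).ne').mp h2

end leadtrail

section lastcoord

variable (n : ℕ)

/-- the last coordinate, as a morphism to `W_1` -/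
noncomputable def lastc : W p (n + 1) (Sk k) ⟶ W p 1 (Sk k) :=
  ofPts p _ (TruncatedWittVector.mk p fun _ => coord p (Fin.last n))

theorem coeff_pts_R_zext (i : Fin (n + 1)) :
    (pts p _ (Additive.ofMul (R p (Sk k) (Nat.le_add_right n 1) ≫ zext p (k := k) n 1))).coeff i =
      if (i : ℕ) < n then coord p i else 0 := by
  refine Fin.addCases (fun j => ?_) (fun j => ?_) i
  · rw [pts_comp, coeff_truncMap, zext, pts_ofPts, appendFun, TruncatedWittVector.coeff_mk,
      Fin.addCases_left, coeff_pts_id, if_pos (by simp)]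
    exact R_appTop_coord p (Nat.le_add_right n 1) j
  · rw [pts_comp, coeff_truncMap, zext, pts_ofPts, appendFun, TruncatedWittVector.coeff_mk,
      Fin.addCases_right, TruncatedWittVector.coeff_zero, if_neg (by simp)]
    exact map_zero _

theorem id_eq_mul :
    𝟙 (W p (n + 1) (Sk k)) =
      (R p (Sk k) (Nat.le_add_right n 1) ≫ zext p n 1) *
        (lastc p n ≫ V p (Sk k) (Nat.le_add_left 1 n)) := by
  apply witt_hom_ext
  rw [pts_mul, pts_V, lastc, pts_ofPts]
  ext i
  rw [coeff_add_of_disjoint, coeff_pts_R_zext, coeff_shift_one, coeff_pts_id,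
    TruncatedWittVector.coeff_mk]
  · by_cases hi : (i : ℕ) < n
    · rw [if_pos hi, if_pos hi, add_zero]
    · rw [if_neg hi, if_neg hi, zero_add]
      congr 1
      ext
      simp only [Fin.val_last]
      have := i.2
      omega
  · intro j
    rw [coeff_pts_R_zext, coeff_shift_one]
    by_cases hj : (j : ℕ) < n
    · right; rw [if_pos hj]
    · left; rw [if_neg hj]

variable (f : W p (n + 1) (Sk k) ⟶ W p (n + 1) (Sk k)) [IsMonHom f] (a' : ℕ → k) (E : ℕ)
  (hg1 : V p (Sk k) (Nat.le_add_left 1 n) ≫ f = PhiOf p 1 a' E ≫ V p (Sk k) (Nat.le_add_left 1 n))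

include hg1 in
/-- the last coordinate of an endomorphism of `W_{n+1}` -/
theorem coeff_last_eq :
    (pts p _ (Additive.ofMul f)).coeff (Fin.last n) =
      (R p (Sk k) (Nat.le_add_right n 1)).left.appTop
          ((pts p _ (Additive.ofMul (zext p n 1 ≫ f))).coeff (Fin.last n)) +
        ∑ e ∈ Finset.range E, cT k _ (a' e) * coord p (Fin.last n) ^ p ^ e := by
  have h1 : f = (R p (Sk k) (Nat.le_add_right n 1) ≫ zext p n 1 ≫ f) *
      ((lastc p n ≫ PhiOf p 1 a' E) ≫ V p (Sk k) (Nat.le_add_left 1 n)) := by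
    conv_lhs => rw [← Category.id_comp f, id_eq_mul p n, MonObj.mul_comp]
    rw [Category.assoc, Category.assoc, hg1, Category.assoc]
  conv_lhs => rw [h1]
  rw [pts_mul, pts_V, coeff_add_shift_one, coeff_shift_one, if_neg (by simp), coeff_pts_PhiOf,
    pts_comp, coeff_truncMap, lastc, pts_ofPts, TruncatedWittVector.coeff_mk]

end lastcoord

section integrality

theorem isIntegralElem_of_gens {B : Type*} [CommRing B] {σ : Type*} (φ : B →+* B)
    (ψ : MvPolynomial σ k →+* B)
    (hC : ∀ a, φ.IsIntegralElem (ψ (MvPolynomial.C a)))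
    (hX : ∀ j, φ.IsIntegralElem (ψ (MvPolynomial.X j))) (P : MvPolynomial σ k) :
    φ.IsIntegralElem (ψ P) := by
  induction P using MvPolynomial.induction_on with
  | C a => exact hC a
  | add q r hq hr => rw [map_add]; exact RingHom.IsIntegralElem.add φ hq hr
  | mul_X q i hq => rw [map_mul]; exact RingHom.IsIntegralElem.mul φ hq (hX i)

theorem PhiOf_eq_one_of_zero (a : ℕ → k) (E : ℕ) (ha : ∀ e, e < E → a e = 0) :
    PhiOf p 1 a E = 1 := by
  apply witt_hom_ext
  ext i
  have hi : i = 0 := Subsingleton.elim _ _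
  subst hi
  have h2 := coeff_pts_PhiOf p a E (𝟙 (W p 1 (Sk k)))
  rw [Category.id_comp] at h2
  rw [h2, pts_one, TruncatedWittVector.coeff_zero]
  refine Finset.sum_eq_zero fun e he => ?_
  rw [ha e (Finset.mem_range.mp he), map_zero, zero_mul]

variable {N : ℕ} (h1N : 1 ≤ N) (f : W p N (Sk k) ⟶ W p N (Sk k)) [IsMonHom f]
  (g0 : W p 1 (Sk k) ⟶ W p 1 (Sk k)) [IsMonHom g0]
  (hg0 : f ≫ R p (Sk k) h1N = R p (Sk k) h1N ≫ g0) (hne : g0 ≠ 1)

include hg0 hne in
theorem isIntegralElem_coord : ∀ (i : ℕ) (hi : i < N),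
    (f.left.appTop).hom.IsIntegralElem (coord p ⟨i, hi⟩) := by
  classical
  intro i
  induction i using Nat.strong_induction_on with
  | _ i ih =>
  intro hi
  have hφc : ∀ a, (f.left.appTop).hom (cT k _ a) = cT k _ a := fun a => cT_comp_apply k f a
  have hM : i + 1 ≤ N := hi
  obtain ⟨fM, hfMm, hfM⟩ := exists_induced p hM f
  haveI := hfMm
  -- leading coefficient of `fM`
  have hlead : fM ≫ R p (Sk k) (Nat.le_add_left 1 i) = R p (Sk k) (Nat.le_add_left 1 i) ≫ g0 := by
    apply R_epi p hM
    rw [← Category.assoc, ← hfM, Category.assoc, R_comp, ← Category.assoc, R_comp]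
    exact hg0
  -- trailing coefficient
  obtain ⟨g1, hg1m, hg1⟩ := exists_factor_V p 1 (i + 1) (Nat.le_add_left 1 i)
    (V p (Sk k) (Nat.le_add_left 1 i) ≫ fM)
  haveI := hg1m
  have hg1ne : g1 ≠ 1 := fun h => hne ((lead_eq_one_iff p i fM g0 g1 hlead hg1.symm).mpr h)
  obtain ⟨E, a', rfl⟩ := exists_eq_PhiOf p g1
  -- the polynomial
  let qk : Polynomial k := ∑ e ∈ Finset.range E, Polynomial.C (a' e) * Polynomial.X ^ p ^ e
  have hqk0 : qk.coeff 0 = 0 := by
    rw [Polynomial.finsetSum_coeff]
    refine Finset.sum_eq_zero fun e _ => ?_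
    rw [Polynomial.coeff_C_mul, Polynomial.coeff_X_pow, if_neg (pow_pos hp.out.pos e).ne, mul_zero]
  have hqkne : qk ≠ 0 := by
    intro h0
    apply hg1ne
    apply PhiOf_eq_one_of_zero
    intro e he
    have := congrArg (fun q => Polynomial.coeff q (p ^ e)) h0
    simp only [qk, Polynomial.finsetSum_coeff, Polynomial.coeff_C_mul, Polynomial.coeff_X_pow,
      Polynomial.coeff_zero] at this
    rw [Finset.sum_eq_single e] at this
    · simpa using this
    · intro e' _ hne'
      rw [if_neg, mul_zero]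
      intro hpe
      exact hne' (Nat.pow_right_injective hp.out.two_le hpe).symm
    · intro he'
      exact absurd (Finset.mem_range.mpr he) he'
  have hdeg : 0 < qk.natDegree := by
    by_contra hd
    have hd0 : qk.natDegree = 0 := by omega
    have := Polynomial.eq_C_of_natDegree_eq_zero hd0
    rw [hqk0, map_zero] at this
    exact hqkne this
  let q' : Polynomial k := qk * Polynomial.C qk.leadingCoeff⁻¹
  have hq'm : q'.Monic := Polynomial.monic_mul_leadingCoeff_inv hqkne
  have hq'deg : 0 < q'.natDegree := by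
    rw [Polynomial.natDegree_mul_leadingCoeff_inv _ hqkne]
    exact hdeg
  -- key relation
  have hlast := coeff_last_eq p i fM a' E hg1.symm
  set x := coord p (⟨i, hi⟩ : Fin N) with hx
  have hRx : (R p (Sk k) hM).left.appTop (coord p (Fin.last i)) = x := by
    rw [R_appTop_coord]
    rfl
  have hsum : ∑ e ∈ Finset.range E, cT k (W p N (Sk k)) (a' e) * x ^ p ^ e =
      (f.left.appTop).hom x -
        (R p (Sk k) hM).left.appTop ((R p (Sk k) (Nat.le_add_right i 1)).left.appTop
          ((pts p _ (Additive.ofMul (zext p i 1 ≫ fM))).coeff (Fin.last i))) := by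
    have h2 := congrArg (fun b => (R p (Sk k) hM).left.appTop b) hlast
    simp only [map_add, map_sum, map_mul, map_pow] at h2
    have h3 : (R p (Sk k) hM).left.appTop ((pts p _ (Additive.ofMul fM)).coeff (Fin.last i)) =
        (f.left.appTop).hom x := by
      have := congrArg (fun y => (pts p _ (Additive.ofMul y)).coeff (Fin.last i)) hfM
      simp only [pts_comp, coeff_truncMap, coeff_pts] at this
      rw [coeff_pts, ← this, hRx]
    rw [h3] at h2
    rw [h2]
    have h4 : ∀ e, (R p (Sk k) hM).left.appTop (cT k (W p (i + 1) (Sk k)) (a' e)) =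
        cT k (W p N (Sk k)) (a' e) := fun e => cT_comp_apply k (R p (Sk k) hM) (a' e)
    simp only [h4, hRx]
    ring
  -- the second term is integral
  have hint2 : (f.left.appTop).hom.IsIntegralElem
      ((R p (Sk k) hM).left.appTop ((R p (Sk k) (Nat.le_add_right i 1)).left.appTop
          ((pts p _ (Additive.ofMul (zext p i 1 ≫ fM))).coeff (Fin.last i)))) := by
    obtain ⟨P, hP⟩ := (evW_bijective p i).2
      ((pts p _ (Additive.ofMul (zext p (k := k) i 1 ≫ fM))).coeff (Fin.last i))
    rw [← hP]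
    let ψ : MvPolynomial (ULift.{u} (Fin i)) k →+* Γ((W p N (Sk k)).left, ⊤) :=
      ((R p (Sk k) hM).left.appTop).hom.comp
        (((R p (Sk k) (Nat.le_add_right i 1)).left.appTop).hom.comp (evW p i))
    change (f.left.appTop).hom.IsIntegralElem (ψ P)
    apply isIntegralElem_of_gens
    · intro a
      have : ψ (MvPolynomial.C a) = cT k _ a := by
        simp only [ψ, RingHom.comp_apply, evW, MvPolynomial.eval₂Hom_C]
        rw [cT_comp_apply k (R p (Sk k) (Nat.le_add_right i 1)) a]
        exact cT_comp_apply k (R p (Sk k) hM) a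
      rw [this, ← hφc a]
      exact RingHom.isIntegralElem_map _
    · intro j
      have : ψ (MvPolynomial.X j) = coord p (⟨j.down, by have := j.down.2; omega⟩ : Fin N) := by
        simp only [ψ, RingHom.comp_apply, evW, MvPolynomial.eval₂Hom_X']
        rw [R_appTop_coord p (Nat.le_add_right i 1) j.down]
        exact R_appTop_coord p hM _
      rw [this]
      exact ih j.down j.down.2 _
  -- conclude
  have hs : (f.left.appTop).hom.IsIntegralElem
      (cT k (W p N (Sk k)) qk.leadingCoeff⁻¹ * ((f.left.appTop).hom x -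
        (R p (Sk k) hM).left.appTop ((R p (Sk k) (Nat.le_add_right i 1)).left.appTop
          ((pts p _ (Additive.ofMul (zext p i 1 ≫ fM))).coeff (Fin.last i))))) := by
    apply RingHom.IsIntegralElem.mul
    · rw [← hφc]
      exact RingHom.isIntegralElem_map _
    · exact RingHom.IsIntegralElem.sub _ (RingHom.isIntegralElem_map _) hint2
  haveI : Nontrivial Γ((W p N (Sk k)).left, ⊤) := inferInstance
  refine RingHom.isIntegralElem_of_monic_eq (f.left.appTop).hom x _ hs
    (q'.map (cT k (W p N (Sk k)))) (hq'm.map _) ?_ ?_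
  · rw [(hq'm).natDegree_map]
    exact hq'deg
  · rw [Polynomial.eval₂_map]
    have hcomp : (f.left.appTop).hom.comp (cT k (W p N (Sk k))) = cT k (W p N (Sk k)) :=
      cT_comp k f
    rw [hcomp, ← hsum]
    simp only [q', qk, Polynomial.eval₂_mul, Polynomial.eval₂_C, Polynomial.eval₂_finsetSum,
      Polynomial.eval₂_X_pow]
    ring

end integrality

end scheme

end Groth.Agent.Lib.Helper60.WittIsog
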