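import Groth.Agent.Lib.Helper60.WittIsog

/-!
# Isogeny criterion for endomorphisms of Witt groups, part 2
-/

set_option autoImplicit false
set_option maxHeartbeats 400000
universe u
open CategoryTheory MonoidalCategory CartesianMonoidalCategory MonObj GrpObj AlgebraicGeometry CategoryTheory.Limits
open WittGrp

namespace Groth.Agent.Lib.Helper60.WittIsog2

open Groth.Agent.Lib.Helper61 Groth.Agent.S12171 Groth.Agent.Lib.Helper60.WittHom
open Groth.Agent.Lib.Helper60.WittTheta Groth.Agent.Lib.Helper60.WittEndo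
open Groth.Agent.Lib.Helper60.WittIsog

section ring

theorem ringKrullDim_le_of_isIntegral {R S : Type*} [CommRing R] [CommRing S] [Algebra R S]
    [Algebra.IsIntegral R S] : ringKrullDim S ≤ ringKrullDim R := by
  refine Order.krullDim_le_of_strictMono (PrimeSpectrum.comap (algebraMap R S)) ?_
  intro q q' hlt
  have hle : q.asIdeal ≤ q'.asIdeal := hlt.le
  have hne : q.asIdeal ≠ q'.asIdeal := fun h => hlt.ne (PrimeSpectrum.ext h)
  obtain ⟨x, hxq', hxq⟩ := SetLike.exists_of_lt (lt_of_le_of_ne hle hne)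
  exact Ideal.comap_lt_comap_of_integral_mem_sdiff hle ⟨hxq', hxq⟩ (Algebra.IsIntegral.isIntegral x)

/-- an integral endomorphism of a finite dimensional domain is injective -/
theorem injective_of_isIntegral_endo {B : Type*} [CommRing B] [IsDomain B] (φ : B →+* B)
    (hφ : φ.IsIntegral) (n : ℕ) (hdim : ringKrullDim B = n) : Function.Injective φ := by
  rw [injective_iff_map_eq_zero]
  intro r hr
  by_contra hr0
  have hcomp : (RingHom.kerLift φ).comp (Ideal.Quotient.mk (RingHom.ker φ)) = φ :=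
    RingHom.ext fun r => RingHom.kerLift_mk φ r
  have hψ : (RingHom.kerLift φ).IsIntegral :=
    RingHom.IsIntegral.tower_top (Ideal.Quotient.mk (RingHom.ker φ)) _ (hcomp ▸ hφ)
  have h1 : ringKrullDim B ≤ ringKrullDim (B ⧸ RingHom.ker φ) := by
    letI := (RingHom.kerLift φ).toAlgebra
    haveI : Algebra.IsIntegral (B ⧸ RingHom.ker φ) B := ⟨hψ⟩
    exact ringKrullDim_le_of_isIntegral
  have h2 : ringKrullDim (B ⧸ RingHom.ker φ) + 1 ≤ ringKrullDim B :=
    ringKrullDim_succ_le_of_surjective (Ideal.Quotient.mk (RingHom.ker φ))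
      Ideal.Quotient.mk_surjective (mem_nonZeroDivisors_of_ne_zero hr0)
      (by rw [Ideal.Quotient.eq_zero_iff_mem]; exact hr)
  rw [hdim] at h1 h2
  have h3 : ((n + 1 : ℕ) : WithBot ℕ∞) ≤ (n : ℕ) := by
    push_cast
    exact (add_le_add h1 le_rfl).trans h2
  have h4 : n + 1 ≤ n := by exact_mod_cast h3
  omega

end ring

section schemes

theorem surjective_of_isIntegral_injective {X Y : Scheme.{u}} [IsAffine X] [IsAffine Y] (f : X ⟶ Y)
    (hint : (f.appTop).hom.IsIntegral) (hinj : Function.Injective (f.appTop).hom) :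
    Surjective f := by
  rw [MorphismProperty.arrow_mk_iso_iff @Surjective (arrowIsoSpecΓOfIsAffine f)]
  refine ⟨fun y => ?_⟩
  letI := (f.appTop).hom.toAlgebra
  haveI : Algebra.IsIntegral Γ(Y, ⊤) Γ(X, ⊤) := ⟨hint⟩
  obtain ⟨Q, -, hQ, hQy⟩ := Ideal.exists_ideal_over_prime_of_isIntegral
    (R := Γ(Y, ⊤)) (S := Γ(X, ⊤)) y.asIdeal ⊥ (by
      rw [← RingHom.ker_eq_comap_bot]
      have : RingHom.ker (algebraMap Γ(Y, ⊤) Γ(X, ⊤)) = ⊥ :=
        (RingHom.injective_iff_ker_eq_bot _).1 hinj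
      rw [this]
      exact bot_le)
  exact ⟨⟨Q, hQ⟩, PrimeSpectrum.ext hQy⟩

theorem isFinite_kernel {S : Scheme.{u}} {G H : Over S} [GrpObj H] (f : G ⟶ H)
    (hf : IsFinite f.left) (N' : Over S) (i : N' ⟶ G) (hK : AlgGrp.IsKernel i f) :
    IsFinite N'.hom := by
  have h1 : IsPullback i.left (toUnit N').left f.left (η[H]).left := hK.map (Over.forget _)
  have h2 : IsFinite (toUnit N').left := MorphismProperty.of_isPullback h1 hf
  have h3 : N'.hom = (toUnit N').left := by simp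
  rw [h3]
  exact h2

end schemes

section witt

variable (p : ℕ) [hp : Fact p.Prime] {k : Type u} [Field k] [CharP k p]

instance isAffine_W (N : ℕ) : IsAffine (W p N (Sk k)).left := by
  change IsAffine 𝔸(ULift.{u} (Fin N); Sk k)
  infer_instance

theorem evW_C (N : ℕ) (a : k) : evW p N (MvPolynomial.C a) = cT k (W p N (Sk k)) a := by
  simp only [evW, MvPolynomial.eval₂Hom_C]

theorem evW_X (N : ℕ) (j : ULift.{u} (Fin N)) :
    evW p (k := k) N (MvPolynomial.X j) = coord p j.down := by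
  simp only [evW, MvPolynomial.eval₂Hom_X']

theorem ringKrullDim_W (N : ℕ) : ringKrullDim Γ((W p N (Sk k)).left, ⊤) = N := by
  have e : MvPolynomial (ULift.{u} (Fin N)) k ≃+* Γ((W p N (Sk k)).left, ⊤) :=
    RingEquiv.ofBijective (evW p N) (evW_bijective p N)
  rw [← ringKrullDim_eq_of_ringEquiv e, MvPolynomial.ringKrullDim_of_isNoetherianRing,
    ringKrullDim_eq_zero_of_field, zero_add]
  simp

theorem finiteType_cT (N : ℕ) : (cT k (W p N (Sk k))).FiniteType := by
  have h : cT k (W p N (Sk k)) = (evW p N).comp MvPolynomial.C := by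
    ext a
    rw [RingHom.comp_apply, evW_C]
  rw [h]
  refine RingHom.FiniteType.comp (RingHom.FiniteType.of_surjective _ (evW_bijective p N).2) ?_
  rw [← MvPolynomial.algebraMap_eq]
  exact RingHom.finiteType_algebraMap.mpr inferInstance

variable {N : ℕ} (h1N : 1 ≤ N) (f : W p N (Sk k) ⟶ W p N (Sk k)) [IsMonHom f]

section crit

variable (g0 : W p 1 (Sk k) ⟶ W p 1 (Sk k)) [IsMonHom g0]
  (hg0 : f ≫ R p (Sk k) h1N = R p (Sk k) h1N ≫ g0) (hne : g0 ≠ 1)

include hg0 hne in
theorem isIntegral_appTop : (f.left.appTop).hom.IsIntegral := by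
  intro b
  obtain ⟨P, rfl⟩ := (evW_bijective p N).2 b
  apply isIntegralElem_of_gens (k := k)
  · intro a
    rw [evW_C, ← cT_comp_apply k f a]
    exact RingHom.isIntegralElem_map _
  · intro j
    rw [evW_X]
    exact isIntegralElem_coord p h1N f g0 hg0 hne j.down j.down.2

include hg0 hne in
theorem finite_appTop : (f.left.appTop).hom.Finite := by
  refine RingHom.IsIntegral.to_finite (isIntegral_appTop p h1N f g0 hg0 hne) ?_
  refine RingHom.FiniteType.of_comp_finiteType (f := cT k (W p N (Sk k))) ?_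
  rw [cT_comp]
  exact finiteType_cT p N

include hg0 hne in
theorem isFinite_left : IsFinite f.left := by
  rw [HasAffineProperty.iff_of_isAffine (P := @IsFinite)]
  exact ⟨inferInstance, finite_appTop p h1N f g0 hg0 hne⟩

include hg0 hne in
theorem injective_appTop : Function.Injective (f.left.appTop).hom :=
  injective_of_isIntegral_endo _ (isIntegral_appTop p h1N f g0 hg0 hne) N (ringKrullDim_W p N)

include hg0 hne in
theorem isIsogenyOver_of_lead_ne_one : SGA7.IsIsogenyOver f :=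
  ⟨surjective_of_isIntegral_injective f.left (isIntegral_appTop p h1N f g0 hg0 hne)
      (injective_appTop p h1N f g0 hg0 hne),
    fun N' i hK => isFinite_kernel f (isFinite_left p h1N f g0 hg0 hne) N' i hK⟩

end crit

theorem coord_ne_zero (i : Fin N) : coord p (S := Sk k) i ≠ 0 := by
  rw [← evW_X p N ⟨i⟩]
  intro h
  have := (evW_bijective p (k := k) N).1 (h.trans (map_zero _).symm)
  exact MvPolynomial.X_ne_zero _ this

theorem not_isIsogenyOver_of_lead_eq_one (h1 : f ≫ R p (Sk k) h1N = 1) :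
    ¬ SGA7.IsIsogenyOver f := by
  rintro ⟨hs, -⟩
  have hx : f.left.appTop (coord p (⟨0, h1N⟩ : Fin N)) = 0 := by
    have := congrArg (fun y => (pts p _ (Additive.ofMul y)).coeff 0) h1
    simp only [pts_R, TruncatedWittVector.coeff_truncate, pts_one,
      TruncatedWittVector.coeff_zero, coeff_pts] at this
    exact this
  have h2 : (W p N (Sk k)).left.basicOpen (coord p (⟨0, h1N⟩ : Fin N)) = ⊥ := by
    have h3 := Scheme.preimage_basicOpen_top f.left (coord p (⟨0, h1N⟩ : Fin N))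
    rw [hx, Scheme.basicOpen_zero] at h3
    ext y
    simp only [TopologicalSpace.Opens.coe_bot, Set.mem_empty_iff_false, iff_false]
    intro hy
    obtain ⟨z, rfl⟩ := hs.surj y
    have : z ∈ f.left ⁻¹ᵁ ((W p N (Sk k)).left.basicOpen (coord p (⟨0, h1N⟩ : Fin N))) := hy
    rw [h3] at this
    exact this
  have h4 := (Scheme.isNilpotent_iff_basicOpen_eq_bot _).mpr h2
  exact coord_ne_zero p _ h4.eq_zero

end witt

section assembly

variable (p : ℕ) [hp : Fact p.Prime] {k : Type u} [Field k] [CharP k p]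

theorem V_comp_R_eq_one' {M N L : ℕ} (h1 : M ≤ N) (h2 : L ≤ N) (h : L + M ≤ N) :
    V p (Sk k) h1 ≫ R p (Sk k) h2 = 1 := by
  apply witt_hom_ext
  rw [pts_R, pts_id_V, pts_one]
  ext ⟨i, hi⟩
  rw [TruncatedWittVector.coeff_truncate, coeff_shift,
    dif_neg (by simp only [Fin.castLE_mk]; omega), TruncatedWittVector.coeff_zero]

theorem V_comp_V {L M N : ℕ} (h1 : L ≤ M) (h2 : M ≤ N) :
    V p (Sk k) h1 ≫ V p (Sk k) h2 = V p (Sk k) (h1.trans h2) := by
  apply witt_hom_ext
  rw [pts_V, pts_id_V, pts_id_V]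
  generalize pts p _ (Additive.ofMul (𝟙 (W p L (Sk k)))) = w
  ext ⟨i, hi⟩
  rw [coeff_shift, coeff_shift]
  by_cases h3 : N - L ≤ i
  · rw [dif_pos (by simp only []; omega), dif_pos h3, coeff_shift,
      dif_pos (by simp only []; omega)]
    congr 1
    ext
    simp only []
    omega
  · rw [dif_neg h3]
    by_cases h4 : N - M ≤ i
    · rw [dif_pos h4, coeff_shift, dif_neg (by simp only []; omega)]
    · rw [dif_neg h4]

theorem exists_lift_iff (n' : ℕ) (f : W p (n' + 1) (Sk k) ⟶ W p (n' + 1) (Sk k)) [IsMonHom f] :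
    (∃ g : W p (n' + 1) (Sk k) ⟶ W p (n' + 1 + 1) (Sk k), IsMonHom g ∧
      g ≫ R p (Sk k) (Nat.le_add_right (n' + 1) 1) = f) ↔
      f ≫ R p (Sk k) (Nat.le_add_left 1 n') = 1 := by
  constructor
  · rintro ⟨g, hgm, rfl⟩
    haveI := hgm
    obtain ⟨g₀, hg₀m, hg₀⟩ := exists_factor_V p (n' + 1) (n' + 1 + 1) (Nat.le_succ _) g
    rw [← hg₀, Category.assoc, Category.assoc, R_comp,
      V_comp_R_eq_one' p _ _ (by omega), MonObj.comp_one]
  · intro h1
    have h0 : (pts p _ (Additive.ofMul f)).coeff 0 = 0 := by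
      have := congrArg (fun y => (pts p _ (Additive.ofMul y)).coeff 0) h1
      simp only [pts_R, TruncatedWittVector.coeff_truncate, pts_one,
        TruncatedWittVector.coeff_zero] at this
      exact this
    let f' : W p (n' + 1) (Sk k) ⟶ W p n' (Sk k) :=
      ofPts p _ (tail1 p (pts p _ (Additive.ofMul f)))
    have hf' : f' ≫ V p (Sk k) (Nat.le_succ n') = f := by
      apply witt_hom_ext
      rw [pts_V, pts_ofPts, shift_tail1 p _ h0]
    haveI : IsMonHom f' := isMonHom_of_comp_V p (Nat.le_succ n') f' f hf'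
    have hV := V_comp_hom_eq_one' p n' 1 f'
    have hf'' := hom_eq_R_zext' p n' 1 f' hV
    haveI := isMonHom_zext_comp' p n' 1 f' hV
    obtain ⟨ψ, hψm, hψ⟩ := exists_lift_R p n' (zext p n' 1 ≫ f') inferInstance
    haveI := hψm
    refine ⟨ψ ≫ V p (Sk k) (Nat.le_succ (n' + 1)), inferInstance, ?_⟩
    have e1 : V p (Sk k) (Nat.le_succ (n' + 1)) ≫ R p (Sk k) (Nat.le_add_right (n' + 1) 1) =
        R p (Sk k) (Nat.le_succ n') ≫ V p (Sk k) (Nat.le_succ n') := V_comp_R_succ p n'
    rw [Category.assoc, e1, ← Category.assoc, ← hψ, ← hf' , ← Category.assoc]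
    congr 1
    exact hf''.symm

theorem exists_ext_iff [IsAlgClosed k] (n' : ℕ)
    (g : W p (n' + 1) (Sk k) ⟶ W p (n' + 1) (Sk k)) [IsMonHom g] :
    (∃ g' : W p (n' + 1 + 1) (Sk k) ⟶ W p (n' + 1) (Sk k), IsMonHom g' ∧
      V p (Sk k) (Nat.le_add_right (n' + 1) 1) ≫ g' = g) ↔
      V p (Sk k) (Nat.le_add_left 1 n') ≫ g = 1 := by
  constructor
  · rintro ⟨g', hm, rfl⟩
    haveI := hm
    rw [← Category.assoc, V_comp_V]
    exact V_comp_hom_eq_one' p (n' + 1) 1 g'
  · intro h1
    have hg'' := hom_eq_R_zext' p n' 1 g h1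
    haveI := isMonHom_zext_comp' p n' 1 g h1
    obtain ⟨g3, hg3m, hg3⟩ := exists_factor_V p n' (n' + 1) (Nat.le_succ n') (zext p n' 1 ≫ g)
    haveI := hg3m
    obtain ⟨τ, hτm, hτ⟩ := exists_lift_V p n' g3 hg3m
    haveI := hτm
    refine ⟨R p (Sk k) (Nat.le_succ (n' + 1)) ≫ τ, inferInstance, ?_⟩
    have e1 : V p (Sk k) (Nat.le_add_right (n' + 1) 1) ≫ R p (Sk k) (Nat.le_succ (n' + 1)) =
        R p (Sk k) (Nat.le_succ n') ≫ V p (Sk k) (Nat.le_succ n') := V_comp_R_succ p n'
    rw [← Category.assoc, e1, Category.assoc, ← hτ, hg3]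
    exact hg''.symm

theorem lift_iff_not_isogeny (n : ℕ) (hn : 1 ≤ n) (f : W p n (Sk k) ⟶ W p n (Sk k)) [IsMonHom f] :
    (∃ g : W p n (Sk k) ⟶ W p (n + 1) (Sk k), IsMonHom g ∧
      g ≫ R p (Sk k) (Nat.le_add_right n 1) = f) ↔ ¬ SGA7.IsIsogenyOver f := by
  obtain ⟨n', rfl⟩ := Nat.exists_eq_add_of_le' hn
  rw [exists_lift_iff]
  obtain ⟨g0, hg0m, hg0⟩ := exists_induced p (Nat.le_add_left 1 n') f
  haveI := hg0m
  constructor
  · intro h1
    exact not_isIsogenyOver_of_lead_eq_one p _ f h1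
  · intro hni
    by_contra h1
    apply hni
    apply isIsogenyOver_of_lead_ne_one p (Nat.le_add_left 1 n') f g0 hg0
    intro hg1
    apply h1
    rw [hg0, hg1, MonObj.comp_one]

theorem ext_iff_not_isogeny [IsAlgClosed k] (n : ℕ) (hn : 1 ≤ n)
    (g : W p n (Sk k) ⟶ W p n (Sk k)) [IsMonHom g] :
    (∃ g' : W p (n + 1) (Sk k) ⟶ W p n (Sk k), IsMonHom g' ∧
      V p (Sk k) (Nat.le_add_right n 1) ≫ g' = g) ↔ ¬ SGA7.IsIsogenyOver g := by
  obtain ⟨n', rfl⟩ := Nat.exists_eq_add_of_le' hn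
  rw [exists_ext_iff]
  obtain ⟨g0, hg0m, hg0⟩ := exists_induced p (Nat.le_add_left 1 n') g
  haveI := hg0m
  obtain ⟨g1, hg1m, hg1⟩ := exists_factor_V p 1 (n' + 1) (Nat.le_add_left 1 n')
    (V p (Sk k) (Nat.le_add_left 1 n') ≫ g)
  haveI := hg1m
  have hiff := lead_eq_one_iff p n' g g0 g1 hg0 hg1.symm
  constructor
  · intro h1
    have e1 : g1 = 1 := V_mono p (Nat.le_add_left 1 n') _ _ (by rw [hg1, h1, MonObj.one_comp])
    have e0 : g0 = 1 := hiff.mpr e1
    exact not_isIsogenyOver_of_lead_eq_one p _ g (by rw [hg0, e0, MonObj.comp_one])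
  · intro hni
    by_contra h1
    apply hni
    apply isIsogenyOver_of_lead_ne_one p (Nat.le_add_left 1 n') g g0 hg0
    intro h0
    apply h1
    rw [← hg1, hiff.mp h0, MonObj.one_comp]

end assembly

end Groth.Agent.Lib.Helper60.WittIsog2
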