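import Mathlib
import Groth.Prelude.Def_WittGrp

/-!
# The operator `w ↦ ∑ [a_e] F^e w` on truncated Witt vectors in characteristic `p` (helper60)
-/

set_option autoImplicit false
set_option maxHeartbeats 400000

namespace Groth.Agent.Lib.Helper60.WittTheta

open WittGrp

variable (p : ℕ) [hp : Fact p.Prime] (n : ℕ) {A B : Type*} [CommRing A] [CommRing B]

/-- the truncated Teichmüller representative -/
noncomputable def teichT (a : A) : TruncatedWittVector p n A :=
  WittVector.truncate n (WittVector.teichmuller p a)

theorem truncMap_teichT (g : A →+* B) (a : A) :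
    truncMap p n g (teichT p n a) = teichT p n (g a) := by
  rw [teichT, truncMap_truncate, WittVector.map_teichmuller, teichT]

theorem coeff_teichT_zero (a : A) (i : Fin (n + 1)) (hi : (i : ℕ) = 0) :
    (teichT p (n + 1) a).coeff i = a := by
  rw [teichT, WittVector.coeff_truncate, hi, WittVector.teichmuller_coeff_zero]

theorem truncate_teichT {m : ℕ} (h : n ≤ m) (a : A) :
    TruncatedWittVector.truncate h (teichT p m a) = teichT p n a := by
  rw [teichT, TruncatedWittVector.truncate_wittVector_truncate, teichT]

theorem truncMap_iterate_frob (hA : (p : A) = 0) (hB : (p : B) = 0) (g : A →+* B) (e : ℕ)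
    (w : TruncatedWittVector p n A) :
    truncMap p n g ((frob p n hA)^[e] w) = (frob p n hB)^[e] (truncMap p n g w) := by
  induction e with
  | zero => rfl
  | succ e ih =>
    rw [Function.iterate_succ_apply', Function.iterate_succ_apply', truncMap_frob p n hA hB, ih]

theorem truncate_frob {m : ℕ} (h : n ≤ m) (hA : (p : A) = 0) (w : TruncatedWittVector p m A) :
    TruncatedWittVector.truncate h (frob p m hA w) = frob p n hA (TruncatedWittVector.truncate h w) :=
  TruncatedWittVector.ext fun i => by
    simp only [TruncatedWittVector.coeff_truncate, coeff_frob]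

theorem truncate_iterate_frob {m : ℕ} (h : n ≤ m) (hA : (p : A) = 0) (e : ℕ)
    (w : TruncatedWittVector p m A) :
    TruncatedWittVector.truncate h ((frob p m hA)^[e] w) =
      (frob p n hA)^[e] (TruncatedWittVector.truncate h w) := by
  induction e with
  | zero => rfl
  | succ e ih =>
    rw [Function.iterate_succ_apply', Function.iterate_succ_apply', truncate_frob, ih]

theorem coeff_iterate_frob (hA : (p : A) = 0) (e : ℕ) (w : TruncatedWittVector p n A) (i : Fin n) :
    ((frob p n hA)^[e] w).coeff i = w.coeff i ^ p ^ e := by
  induction e with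
  | zero => simp
  | succ e ih =>
    rw [Function.iterate_succ_apply', coeff_frob, ih, ← pow_mul, pow_succ]

theorem iterate_frob_add (hA : (p : A) = 0) (e : ℕ) (w w' : TruncatedWittVector p n A) :
    (frob p n hA)^[e] (w + w') = (frob p n hA)^[e] w + (frob p n hA)^[e] w' :=
  iterate_map_add (frob p n hA) e w w'

theorem iterate_frob_zero (hA : (p : A) = 0) (e : ℕ) :
    (frob p n hA)^[e] (0 : TruncatedWittVector p n A) = 0 :=
  iterate_map_zero (frob p n hA) e

/-- the operator `w ↦ ∑_{e < E} [a e] F^e w` -/
noncomputable def Theta (hA : (p : A) = 0) (a : ℕ → A) (E : ℕ) (w : TruncatedWittVector p n A) :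
    TruncatedWittVector p n A :=
  ∑ e ∈ Finset.range E, teichT p n (a e) * (frob p n hA)^[e] w

theorem Theta_add (hA : (p : A) = 0) (a : ℕ → A) (E : ℕ) (w w' : TruncatedWittVector p n A) :
    Theta p n hA a E (w + w') = Theta p n hA a E w + Theta p n hA a E w' := by
  rw [Theta, Theta, Theta, ← Finset.sum_add_distrib]
  refine Finset.sum_congr rfl fun e _ => ?_
  rw [iterate_frob_add, mul_add]

theorem Theta_zero (hA : (p : A) = 0) (a : ℕ → A) (E : ℕ) :
    Theta p n hA a E 0 = 0 := by
  rw [Theta]
  refine Finset.sum_eq_zero fun e _ => ?_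
  rw [iterate_frob_zero, mul_zero]

theorem truncMap_Theta (hA : (p : A) = 0) (hB : (p : B) = 0) (g : A →+* B) (a : ℕ → A) (E : ℕ)
    (w : TruncatedWittVector p n A) :
    truncMap p n g (Theta p n hA a E w) = Theta p n hB (fun e => g (a e)) E (truncMap p n g w) := by
  rw [Theta, Theta, map_sum]
  refine Finset.sum_congr rfl fun e _ => ?_
  rw [map_mul, truncMap_teichT, truncMap_iterate_frob p n hA hB]

theorem truncate_Theta {m : ℕ} (h : n ≤ m) (hA : (p : A) = 0) (a : ℕ → A) (E : ℕ)
    (w : TruncatedWittVector p m A) :
    TruncatedWittVector.truncate h (Theta p m hA a E w) =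
      Theta p n hA a E (TruncatedWittVector.truncate h w) := by
  rw [Theta, Theta, map_sum]
  refine Finset.sum_congr rfl fun e _ => ?_
  rw [map_mul, truncate_teichT, truncate_iterate_frob]

/-- the zeroth coefficient as a ring homomorphism -/
noncomputable def c0 : TruncatedWittVector p (n + 1) A →+* A where
  toFun x := x.coeff 0
  map_one' := by
    rw [← map_one (WittVector.truncate (p := p) (R := A) (n + 1)), WittVector.coeff_truncate]
    exact WittVector.one_coeff_zero p A
  map_zero' := TruncatedWittVector.coeff_zero p (n + 1) A 0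
  map_mul' x y := by
    obtain ⟨X, rfl⟩ := WittVector.truncate_surjective p (n + 1) A x
    obtain ⟨Y, rfl⟩ := WittVector.truncate_surjective p (n + 1) A y
    rw [← map_mul, WittVector.coeff_truncate, WittVector.coeff_truncate, WittVector.coeff_truncate]
    exact WittVector.mul_coeff_zero X Y
  map_add' x y := by
    obtain ⟨X, rfl⟩ := WittVector.truncate_surjective p (n + 1) A x
    obtain ⟨Y, rfl⟩ := WittVector.truncate_surjective p (n + 1) A y
    rw [← map_add, WittVector.coeff_truncate, WittVector.coeff_truncate, WittVector.coeff_truncate]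
    exact WittVector.add_coeff_zero X Y

theorem c0_apply (x : TruncatedWittVector p (n + 1) A) : c0 p n x = x.coeff 0 := rfl

theorem c0_Theta (hA : (p : A) = 0) (a : ℕ → A) (E : ℕ) (w : TruncatedWittVector p (n + 1) A) :
    (Theta p (n + 1) hA a E w).coeff 0 = ∑ e ∈ Finset.range E, a e * w.coeff 0 ^ p ^ e := by
  rw [← c0_apply, Theta, map_sum]
  refine Finset.sum_congr rfl fun e _ => ?_
  rw [map_mul, c0_apply, c0_apply, coeff_teichT_zero p n _ 0 rfl, coeff_iterate_frob]

theorem iterate_frob_truncate [CharP A p] (hA : (p : A) = 0) (e : ℕ) (X : WittVector p A) :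
    (frob p n hA)^[e] (WittVector.truncate n X) =
      WittVector.truncate n (WittVector.frobenius^[e] X) := by
  induction e with
  | zero => rfl
  | succ e ih =>
    rw [Function.iterate_succ_apply', Function.iterate_succ_apply', ih, frob_truncate]

/-- `[b] F^e V^n w = V^n (b^(p^n) w^(p^e))` for `w` of length one -/
theorem teichT_mul_iterate_frob_shift (hA : (p : A) = 0) (b : A) (e : ℕ)
    (w : TruncatedWittVector p 1 A) :
    teichT p (n + 1) b * (frob p (n + 1) hA)^[e] (shift p (Nat.le_add_left 1 n) w) =
      shift p (Nat.le_add_left 1 n)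
        (TruncatedWittVector.mk p fun _ => b ^ p ^ n * w.coeff 0 ^ p ^ e) := by
  rcases subsingleton_or_nontrivial A with hS | hN
  · exact TruncatedWittVector.ext fun i => Subsingleton.elim _ _
  · haveI : CharP A p := (CharP.charP_iff_prime_eq_zero hp.out).mpr hA
    set X : WittVector p A := WittVector.teichmuller p (w.coeff 0) with hX
    have hw : w = WittVector.truncate 1 X := by
      refine TruncatedWittVector.ext fun i => ?_
      have hi : i = 0 := Subsingleton.elim _ _
      subst hi
      rw [WittVector.coeff_truncate, hX]
      exact (WittVector.teichmuller_coeff_zero p _).symm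
    have hn : n + 1 - 1 = n := by omega
    have h1 : shift p (Nat.le_add_left 1 n) w =
        WittVector.truncate (n + 1) (WittVector.verschiebung^[n] X) := by
      rw [hw, shift_truncate, hn]
    have h2 : WittVector.teichmuller p b * WittVector.frobenius^[e] (WittVector.verschiebung^[n] X) =
        WittVector.verschiebung^[n] (WittVector.frobenius^[e] X *
          WittVector.frobenius^[n] (WittVector.teichmuller p b)) := by
      rw [← WittVector.iterate_verschiebung_mul_left, mul_comm,
        (WittVector.verschiebung_frobenius_comm (p := p) (R := A)).iterate_iterate]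
    rw [h1, iterate_frob_truncate, teichT, ← map_mul, h2]
    refine TruncatedWittVector.ext fun i => ?_
    rw [WittVector.coeff_truncate, coeff_shift]
    split_ifs with hi
    · rw [hn] at hi
      have hi' : (i : ℕ) = 0 + n := by have := i.2; omega
      rw [TruncatedWittVector.coeff_mk, hi', WittVector.iterate_verschiebung_coeff,
        WittVector.mul_coeff_zero,
        WittVector.iterate_frobenius_coeff, WittVector.iterate_frobenius_coeff,
        WittVector.teichmuller_coeff_zero,
        WittVector.teichmuller_coeff_zero, mul_comm]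
    · rw [hn] at hi
      exact WittVector.iterate_verschiebung_coeff_eq_zero _ (by omega)

/-- `Θ_b (V^n w) = V^n (∑ b_e^(p^n) w^(p^e))` for `w` of length one -/
theorem Theta_shift (hA : (p : A) = 0) (b : ℕ → A) (E : ℕ) (w : TruncatedWittVector p 1 A) :
    Theta p (n + 1) hA b E (shift p (Nat.le_add_left 1 n) w) =
      shift p (Nat.le_add_left 1 n)
        (∑ e ∈ Finset.range E,
          TruncatedWittVector.mk p fun _ => b e ^ p ^ n * w.coeff 0 ^ p ^ e) := by
  rw [Theta, map_sum]
  exact Finset.sum_congr rfl fun e _ => teichT_mul_iterate_frob_shift p n hA (b e) e w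

theorem coeff_zero_sum {ι : Type*} (s : Finset ι) (f : ι → TruncatedWittVector p (n + 1) A) :
    (∑ i ∈ s, f i).coeff 0 = ∑ i ∈ s, (f i).coeff 0 := by
  rw [← c0_apply, map_sum]
  rfl

end Groth.Agent.Lib.Helper60.WittTheta
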