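import Groth.Agent.Lib.Helper60.WittIsog2
import Groth.Agent.Lib.Helper43.GaGm

/-!
# `W_1 ≅ G_a`, and Witt groups contain no subtorus
-/

set_option autoImplicit false
set_option maxHeartbeats 400000
universe u
open CategoryTheory MonoidalCategory CartesianMonoidalCategory MonObj GrpObj AlgebraicGeometry CategoryTheory.Limits
open WittGrp

namespace Groth.Agent.Lib.Helper60.WittTorus

open Groth.Agent.Lib.Helper61 Groth.Agent.S12171 Groth.Agent.Lib.Helper60.WittHom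
open Groth.Agent.Lib.Helper60.WittEndo Groth.Agent.Lib.Helper60.WittIsog
open Groth.Agent.Lib.Helper60.WittIsog2 Groth.Agent.Lib.Helper43

section W1Ga

variable (p : ℕ) [hp : Fact p.Prime] (S : Scheme.{u})

theorem W1_iso_Ga :
    ∃ e : W p 1 S ≅ Red.Ga S, IsMonHom e.hom ∧ Red.gaFn e.hom = coord p (0 : Fin 1) := by
  obtain ⟨h, hh⟩ := gaFn_surjective (X := W p 1 S) (coord p (0 : Fin 1))
  let inv : Red.Ga S ⟶ W p 1 S :=
    ofPts p (Red.Ga S) (TruncatedWittVector.mk p fun _ => Red.gaFn (𝟙 (Red.Ga S)))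
  have h1 : h ≫ inv = 𝟙 _ := by
    apply witt_hom_ext
    ext i
    have hi : i = 0 := Subsingleton.elim _ _
    subst hi
    rw [pts_comp, coeff_truncMap, pts_ofPts, TruncatedWittVector.coeff_mk, coeff_pts]
    change h.left.appTop (Red.gaFn (𝟙 (Red.Ga S))) = _
    rw [← gaFn_comp, Category.comp_id, hh]
    simp
  have h2 : inv ≫ h = 𝟙 _ := by
    apply gaFn_injective
    rw [gaFn_comp, hh, ← coeff_pts, pts_ofPts, TruncatedWittVector.coeff_mk]
  refine ⟨⟨h, inv, h1, h2⟩, ?_, hh⟩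
  change IsMonHom h
  apply isMonHom_of_comp_mul
  · apply gaFn_injective
    rw [gaFn_comp, hh, ← coeff_pts, pts_one, TruncatedWittVector.coeff_zero, gaFn_one]
  · intro T x y
    apply gaFn_injective
    rw [gaFn_mul, gaFn_comp, gaFn_comp, gaFn_comp, hh, ← coeff_pts, ← coeff_pts, ← coeff_pts,
      pts_mul, coeff_add_zero]

end W1Ga

section DSchar

variable {S : Scheme.{u}} {M : Type} [AddCommGroup M]

/-- the character function of `m : M` on points of `D_S(M)` -/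
noncomputable def chFn (m : M) {X : Over S} (t : X ⟶ Red.DS S M) : Γ(X.left, ⊤) :=
  ptHom (toBase (toZ S) t).left
    (MonoidAlgebra.single (Multiplicative.ofAdd m) (1 : ULift.{u} ℤ))

lemma chFn_mul (m : M) {X : Over S} (s t : X ⟶ Red.DS S M) :
    chFn m (s * t) = chFn m s * chFn m t := by
  unfold chFn
  rw [toBase_mul, ptHom_mul,
    (MonoidAlgebra.isGroupLikeElem_single_one (R := ULift.{u} ℤ) (A := ULift.{u} ℤ)
      (Multiplicative.ofAdd m)).comul_eq_tmul_self, mulHom_tmul]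

lemma isUnit_single (m : M) :
    IsUnit (MonoidAlgebra.single (Multiplicative.ofAdd m) 1 :
      MonoidAlgebra (ULift.{u} ℤ) (Multiplicative M)) :=
  (Group.isUnit (Multiplicative.ofAdd m)).map
    (MonoidAlgebra.of (ULift.{u} ℤ) (Multiplicative M))

lemma chFn_one (m : M) {X : Over S} : chFn m (1 : X ⟶ Red.DS S M) = 1 := by
  have hu : IsUnit (chFn m (1 : X ⟶ Red.DS S M)) := (isUnit_single m).map _
  have h := chFn_mul m (1 : X ⟶ Red.DS S M) 1
  have h1 : (1 : X ⟶ Red.DS S M) * 1 = 1 := _root_.mul_one (1 : X ⟶ Red.DS S M)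
  rw [h1] at h
  exact (hu.mul_eq_left.mp h.symm)

/-- `chFn` as a monoid homomorphism. -/
noncomputable def chFnHom (m : M) (X : Over S) : (X ⟶ Red.DS S M) →* Γ(X.left, ⊤) where
  toFun := chFn m
  map_one' := chFn_one m
  map_mul' := chFn_mul m

lemma chFn_pow (m : M) {X : Over S} (t : X ⟶ Red.DS S M) (n : ℕ) :
    chFn m (t ^ n) = chFn m t ^ n :=
  map_pow (chFnHom m X) t n

attribute [local instance] ULift.algebra' in
lemma chFn_exists {X : Over S} (χ : Multiplicative M →* Γ(X.left, ⊤)) :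
    ∃ t : X ⟶ Red.DS S M, ∀ m, chFn m t = χ (Multiplicative.ofAdd m) := by
  let ρ : MonoidAlgebra (ULift.{u} ℤ) (Multiplicative M) →+* Γ(X.left, ⊤) :=
    (MonoidAlgebra.lift (ULift.{u} ℤ) Γ(X.left, ⊤) (Multiplicative M) χ).toRingHom
  have hρ : ∀ m, ρ (MonoidAlgebra.single (Multiplicative.ofAdd m) 1) =
      χ (Multiplicative.ofAdd m) := by
    intro m
    show MonoidAlgebra.lift (ULift.{u} ℤ) _ (Multiplicative M) χ _ = _
    rw [MonoidAlgebra.lift_single, one_smul]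
  let φ : (Over.map (toZ S)).obj X ⟶ Red.diag (ULift.{u} ℤ) M :=
    Over.homMk (X.left.toSpecΓ ≫ Spec.map (CommRingCat.ofHom ρ)) (specULiftZIsTerminal.hom_ext _ _)
  obtain ⟨x, hx⟩ := toBase_surjective (toZ S) φ
  refine ⟨x, fun m => ?_⟩
  unfold chFn
  rw [hx]
  show ptHom (X.left.toSpecΓ ≫ Spec.map (CommRingCat.ofHom ρ)) _ = _
  rw [ptHom_toSpecΓ_SpecMap]
  exact hρ m

end DSchar

section killed

/-- pull back of a group killed by `q` is killed by `q` -/
theorem bc_killed {S S' : Scheme.{u}} (φ : S' ⟶ S) (T : Over S) [GrpObj T] (q : ℕ)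
    (h : (𝟙 T) ^ q = 1) : (𝟙 (Red.bc φ T)) ^ q = 1 := by
  apply toBase_injective φ
  have e1 : toBase φ ((𝟙 (Red.bc φ T)) ^ q) = (toBase φ (𝟙 (Red.bc φ T))) ^ q :=
    map_pow (toBaseHom φ T _) _ q
  have e2 : (toBase φ (𝟙 (Red.bc φ T))) ^ q = toBase φ (𝟙 (Red.bc φ T)) ≫ ((𝟙 T) ^ q) := by
    rw [MonObj.comp_pow, Category.comp_id]
  rw [e1, toBase_one, e2, h, MonObj.comp_one]

theorem killed_of_grpIso {S : Scheme.{u}} {A B : Over S} [GrpObj A] [GrpObj B]
    (e : Grp.mk A ≅ Grp.mk B) (q : ℕ) (h : (𝟙 A) ^ q = 1) : (𝟙 B) ^ q = 1 := by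
  have h1 : e.inv.hom.hom ≫ e.hom.hom.hom = 𝟙 B := congrArg (fun x => x.hom.hom) e.inv_hom_id
  have h2 : (𝟙 B) ^ q = e.inv.hom.hom ≫ (((𝟙 A) ^ q) ≫ e.hom.hom.hom) := by
    rw [MonObj.pow_comp, Category.id_comp, MonObj.comp_pow, h1]
  rw [h2, h, MonObj.one_comp, MonObj.comp_one]

variable (p : ℕ) [hp : Fact p.Prime] {k : Type u} [Field k] [CharP k p]

theorem rank_eq_zero_of_killed {U : Scheme.{u}} [Nonempty U] (g : U ⟶ Spec (CommRingCat.of k))
    (b : k) (hb0 : b ≠ 0) (hb1 : b ≠ 1) (r n : ℕ)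
    (hkill : (𝟙 (Red.DS U (Fin r → ℤ))) ^ (p ^ n) = 1) : r = 0 := by
  by_contra hr
  have hr' : 0 < r := Nat.pos_of_ne_zero hr
  let i0 : Fin r := ⟨0, hr'⟩
  let ψ : k →+* Γ(U, ⊤) := (g.appTop).hom.comp (Scheme.ΓSpecIso (CommRingCat.of k)).inv.hom
  haveI : Nonempty ↥((⊤ : U.Opens) : Scheme.{u}) := ⟨⟨Classical.arbitrary _, trivial⟩⟩
  haveI : Nontrivial Γ(U, ⊤) := Scheme.component_nontrivial U ⊤
  let ub : Γ(U, ⊤)ˣ := ((IsUnit.mk0 b hb0).map ψ).unit
  let X : Over U := Over.mk (𝟙 U)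
  let χ : Multiplicative (Fin r → ℤ) →* Γ(X.left, ⊤) :=
    (Units.coeHom Γ(U, ⊤)).comp ((zpowersHom Γ(U, ⊤)ˣ ub).comp
      (AddMonoidHom.toMultiplicative (Pi.evalAddMonoidHom (fun _ : Fin r => ℤ) i0)))
  obtain ⟨t, ht⟩ := chFn_exists (S := U) χ
  have h1 : t ^ (p ^ n) = 1 := by
    have e : t ^ (p ^ n) = t ≫ ((𝟙 _) ^ (p ^ n)) := by rw [MonObj.comp_pow, Category.comp_id]
    rw [e, hkill, MonObj.comp_one]
  have h2 := congrArg (chFn (Pi.single i0 (1 : ℤ))) h1
  rw [chFn_pow, chFn_one, ht] at h2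
  have h3 : χ (Multiplicative.ofAdd (Pi.single i0 (1 : ℤ))) = ψ b := by
    simp [χ, ub]
  rw [h3, ← map_pow] at h2
  have h4 : b ^ (p ^ n) - 1 ≠ 0 := by
    have e : (b - 1) ^ (p ^ n) = b ^ (p ^ n) - 1 := by rw [sub_pow_char_pow, one_pow]
    rw [← e]
    exact pow_ne_zero _ (sub_ne_zero.mpr hb1)
  have h5 : ψ (b ^ (p ^ n) - 1) = 0 := by rw [map_sub, h2, map_one, sub_self]
  exact ((IsUnit.mk0 _ h4).map ψ).ne_zero h5

theorem isIso_DS_hom_of_subsingleton (U : Scheme.{u}) (M : Type) [AddCommGroup M]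
    [Subsingleton M] : IsIso (Red.DS U M).hom := by
  have h1 : IsIso (Red.diag (ULift.{u} ℤ) M).hom := by
    change IsIso (Spec.map (CommRingCat.ofHom
      (algebraMap (ULift.{u} ℤ) (MonoidAlgebra (ULift.{u} ℤ) (Multiplicative M)))))
    have hb : Function.Bijective
        (algebraMap (ULift.{u} ℤ) (MonoidAlgebra (ULift.{u} ℤ) (Multiplicative M))) := by
      refine ⟨fun a b h => ?_, fun f => ⟨f.coeff 1, ?_⟩⟩
      · have := congrArg (fun z => z.coeff 1) h
        simpa [MonoidAlgebra.coe_algebraMap] using this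
      · ext g
        obtain rfl : g = 1 := Subsingleton.elim _ _
        simp [MonoidAlgebra.coe_algebraMap]
    haveI : IsIso (CommRingCat.ofHom
        (algebraMap (ULift.{u} ℤ) (MonoidAlgebra (ULift.{u} ℤ) (Multiplicative M)))) :=
      (ConcreteCategory.isIso_iff_bijective _).mpr hb
    infer_instance
  change IsIso (pullback.snd (Red.diag (ULift.{u} ℤ) M).hom (toZ U))
  infer_instance

set_option backward.isDefEq.respectTransparency.types false in
open AffineSpace MvPolynomial in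
theorem smooth_affineSpace (n : Type u) [Finite n] (S : Scheme.{u}) : Smooth (𝔸(n; S) ↘ S) :=
  MorphismProperty.pullback_fst _ _ <| by
  have := isIso_of_isTerminal specULiftZIsTerminal.{u} terminalIsTerminal (terminal.from _)
  rw [← terminal.comp_from (Spec.map (CommRingCat.ofHom C)),
    MorphismProperty.cancel_right_of_respectsIso (P := @Smooth),
    HasRingHomProperty.Spec_iff (P := @Smooth), RingHom.Smooth]
  convert! (⟨inferInstance, inferInstance⟩ : Algebra.Smooth (ULift ℤ) (MvPolynomial n (ULift.{u} ℤ)))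
  exact Algebra.algebra_ext _ _ fun _ ↦ rfl

theorem hasNoSubtorus_W [IsAlgClosed k] (n : ℕ) : Red.HasNoSubtorus k (W p n (Sk k)) := by
  classical
  intro T _ j _ _ hT
  obtain ⟨S', f, hflat, hsurj, -, hloc⟩ := hT
  haveI := hflat
  have hkill : (𝟙 T) ^ (p ^ n) = 1 := by
    apply (cancel_mono j).mp
    have e : j ^ (p ^ n) = j ≫ ((𝟙 _) ^ (p ^ n)) := by rw [MonObj.comp_pow, Category.comp_id]
    rw [MonObj.pow_comp, Category.id_comp, MonObj.one_comp, e, pow_pM_eq_one, MonObj.comp_one]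
  obtain ⟨s', -⟩ := hsurj.surj (show ↥(Spec (CommRingCat.of k)) from (default : PrimeSpectrum k))
  obtain ⟨U, hsU, r, ⟨e⟩⟩ := hloc s'
  haveI : Nonempty ↥(U : Scheme.{u}) := ⟨⟨s', hsU⟩⟩
  let φ : (U : Scheme.{u}) ⟶ Spec (CommRingCat.of k) := U.ι ≫ f
  have hk1 := bc_killed φ T (p ^ n) hkill
  have hk2 := killed_of_grpIso e (p ^ n) hk1
  obtain ⟨b, hb0, hb1⟩ : ∃ b : k, b ≠ 0 ∧ b ≠ 1 := by
    obtain ⟨b, hb⟩ := Infinite.exists_notMem_finset ({0, 1} : Finset k)
    simp only [Finset.mem_insert, Finset.mem_singleton, not_or] at hb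
    exact ⟨b, hb.1, hb.2⟩
  have hr : r = 0 := rank_eq_zero_of_killed p φ b hb0 hb1 r n hk2
  subst hr
  haveI h3 : IsIso (Red.DS (U : Scheme.{u}) (Fin 0 → ℤ)).hom := isIso_DS_hom_of_subsingleton _ _
  have h4 : IsIso (Red.bc φ T).hom := by
    have hw : (Red.bc φ T).hom = e.hom.hom.hom.left ≫ (Red.DS (U : Scheme.{u}) (Fin 0 → ℤ)).hom :=
      (Over.w e.hom.hom.hom).symm
    have h1 : e.hom.hom.hom ≫ e.inv.hom.hom = 𝟙 _ := congrArg (fun x => x.hom.hom) e.hom_inv_id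
    have h2 : e.inv.hom.hom ≫ e.hom.hom.hom = 𝟙 _ := congrArg (fun x => x.hom.hom) e.inv_hom_id
    haveI : IsIso e.hom.hom.hom.left :=
      ⟨e.inv.hom.hom.left, by rw [← Over.comp_left, h1]; rfl, by rw [← Over.comp_left, h2]; rfl⟩
    rw [hw]
    infer_instance
  obtain ⟨V, hV, hsV, hVU⟩ :=
    (TopologicalSpace.Opens.isBasis_iff_nbhd.mp S'.isBasis_affineOpens) hsU
  haveI : IsAffine (V : Scheme.{u}) := hV
  let jj : (V : Scheme.{u}) ⟶ (U : Scheme.{u}) := S'.homOfLE hVU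
  have sq1 : IsPullback (pullback.fst T.hom φ) (pullback.snd T.hom φ) T.hom φ :=
    IsPullback.of_hasPullback _ _
  haveI : IsIso (pullback.snd T.hom φ) := h4
  have sq2 := IsPullback.of_hasPullback (pullback.snd T.hom φ) jj
  have sq := sq2.flip.paste_vert sq1.flip
  have hsj : Surjective (jj ≫ φ) := ⟨fun y => ⟨⟨s', hsV⟩, Subsingleton.elim (α := PrimeSpectrum k) _ _⟩⟩
  have hQ : (@Surjective ⊓ @Flat ⊓ @QuasiCompact : MorphismProperty Scheme.{u}) (jj ≫ φ) :=
    ⟨⟨hsj, inferInstance⟩, inferInstance⟩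
  exact MorphismProperty.of_isPullback_of_descendsAlong
    (P := MorphismProperty.isomorphisms Scheme.{u}) sq hQ
    (inferInstanceAs (IsIso (pullback.snd (pullback.snd T.hom φ) jj)))

theorem W_smooth_connected_noSubtorus [IsAlgClosed k] (n : ℕ) :
    Smooth (W p n (Sk k)).hom ∧ ConnectedSpace ↥(W p n (Sk k)).left ∧
      Red.HasNoSubtorus k (W p n (Sk k)) := by
  refine ⟨smooth_affineSpace (ULift.{u} (Fin n)) (Sk k), ?_, hasNoSubtorus_W p n⟩
  haveI : IrreducibleSpace ↥(W p n (Sk k)).left := by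
    change IrreducibleSpace ↥(𝔸(ULift.{u} (Fin n); Sk k))
    infer_instance
  infer_instance

end killed

end Groth.Agent.Lib.Helper60.WittTorus
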