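import Mathlib

/-!
# `V`-adic sums and Teichmüller/Verschiebung identities in `W(R)`

helper60.
-/

set_option autoImplicit false
set_option maxHeartbeats 400000

namespace Groth.Agent.Lib.Helper60.WittVadic

open Finset WittVector

variable {p : ℕ} [hp : Fact p.Prime] {R : Type*} [CommRing R]

local notation "V" => (WittVector.verschiebung (p := p))
local notation "Fr" => (WittVector.frobenius (p := p))

theorem frobenius_teichmuller [CharP R p] (b : R) :
    WittVector.frobenius (WittVector.teichmuller p b) = WittVector.teichmuller p (b ^ p) := by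
  rw [WittVector.frobenius_eq_map_frobenius, WittVector.map_teichmuller]
  rfl

theorem iterate_frobenius_teichmuller [CharP R p] (b : R) (i : ℕ) :
    (⇑(WittVector.frobenius : WittVector p R →+* WittVector p R))^[i] (WittVector.teichmuller p b)
      = WittVector.teichmuller p (b ^ p ^ i) := by
  induction i with
  | zero => simp
  | succ i ih =>
    rw [Function.iterate_succ_apply', ih, frobenius_teichmuller, ← pow_mul, pow_succ]

theorem map_iterate_verschiebung {S : Type*} [CommRing S] (f : R →+* S) (x : WittVector p R)
    (i : ℕ) :
    WittVector.map f ((⇑(WittVector.verschiebung : WittVector p R →+ WittVector p R))^[i] x) =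
      (⇑(WittVector.verschiebung : WittVector p S →+ WittVector p S))^[i] (WittVector.map f x) := by
  induction i with
  | zero => rfl
  | succ i ih =>
    rw [Function.iterate_succ_apply', Function.iterate_succ_apply', WittVector.map_verschiebung, ih]

theorem iterate_verschiebung_add (x y : WittVector p R) (i : ℕ) :
    (⇑(WittVector.verschiebung : WittVector p R →+ WittVector p R))^[i] (x + y) =
      (⇑(WittVector.verschiebung : WittVector p R →+ WittVector p R))^[i] x +
      (⇑(WittVector.verschiebung : WittVector p R →+ WittVector p R))^[i] y := by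
  induction i with
  | zero => rfl
  | succ i ih =>
    rw [Function.iterate_succ_apply', Function.iterate_succ_apply', Function.iterate_succ_apply',
      ih, map_add]

theorem iterate_verschiebung_sub (x y : WittVector p R) (i : ℕ) :
    (⇑(WittVector.verschiebung : WittVector p R →+ WittVector p R))^[i] (x - y) =
      (⇑(WittVector.verschiebung : WittVector p R →+ WittVector p R))^[i] x -
      (⇑(WittVector.verschiebung : WittVector p R →+ WittVector p R))^[i] y := by
  induction i with
  | zero => rfl
  | succ i ih =>
    rw [Function.iterate_succ_apply', Function.iterate_succ_apply', Function.iterate_succ_apply',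
      ih, map_sub]

theorem iterate_verschiebung_sum {ι : Type*} (s : Finset ι) (g : ι → WittVector p R) (i : ℕ) :
    (⇑(WittVector.verschiebung : WittVector p R →+ WittVector p R))^[i] (∑ j ∈ s, g j) =
      ∑ j ∈ s, (⇑(WittVector.verschiebung : WittVector p R →+ WittVector p R))^[i] (g j) := by
  induction i with
  | zero => rfl
  | succ i ih =>
    simp only [Function.iterate_succ_apply']
    rw [ih, map_sum]

/-- `[b] * V^i w = V^i ([b^(p^i)] * w)` -/
theorem teichmuller_mul_iterate_verschiebung [CharP R p] (b : R) (w : WittVector p R) (i : ℕ) :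
    WittVector.teichmuller p b *
      (⇑(WittVector.verschiebung : WittVector p R →+ WittVector p R))^[i] w =
    (⇑(WittVector.verschiebung : WittVector p R →+ WittVector p R))^[i]
      (WittVector.teichmuller p (b ^ p ^ i) * w) := by
  rw [mul_comm, WittVector.iterate_verschiebung_mul_left, iterate_frobenius_teichmuller, mul_comm]

/-- coefficients below `m` of `V^m w` vanish, ideal form -/
theorem iterate_verschiebung_mem_ker (w : WittVector p R) {m i : ℕ} (h : m ≤ i) :
    (⇑(WittVector.verschiebung : WittVector p R →+ WittVector p R))^[i] w ∈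
      RingHom.ker (WittVector.truncate (p := p) (R := R) m) := by
  rw [WittVector.mem_ker_truncate]
  intro k hk
  exact WittVector.iterate_verschiebung_coeff_eq_zero _ (lt_of_lt_of_le hk h)

theorem exists_eq_iterate_verschiebung_of_mem_ker {x : WittVector p R} {m : ℕ}
    (h : x ∈ RingHom.ker (WittVector.truncate (p := p) (R := R) m)) :
    ∃ w, x = (⇑(WittVector.verschiebung : WittVector p R →+ WittVector p R))^[m] w := by
  rw [WittVector.mem_ker_truncate] at h
  exact ⟨_, WittVector.eq_iterate_verschiebung h⟩

/-- `V`-adic sums exist. -/
theorem exists_vsum (z : ℕ → WittVector p R) :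
    ∃ x : WittVector p R, ∀ m, ∃ w, x =
      (∑ i ∈ range m, (⇑(WittVector.verschiebung : WittVector p R →+ WittVector p R))^[i] (z i)) +
        (⇑(WittVector.verschiebung : WittVector p R →+ WittVector p R))^[m] w := by
  set S : ℕ → WittVector p R := fun m =>
    ∑ i ∈ range m, (⇑(WittVector.verschiebung : WittVector p R →+ WittVector p R))^[i] (z i) with hS
  have hmono : ∀ a b, a ≤ b → S b - S a ∈ RingHom.ker (WittVector.truncate (p := p) (R := R) a) := by
    intro a b hab
    obtain ⟨d, rfl⟩ := Nat.exists_eq_add_of_le hab
    have : S (a + d) - S a = ∑ i ∈ range d,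
        (⇑(WittVector.verschiebung : WittVector p R →+ WittVector p R))^[a + i] (z (a + i)) := by
      simp only [hS]
      rw [Finset.sum_range_add, add_sub_cancel_left]
    rw [this]
    exact Ideal.sum_mem _ (fun i _ => iterate_verschiebung_mem_ker _ (Nat.le_add_right a i))
  refine ⟨WittVector.mk p (fun k => (S (k + 1)).coeff k), fun m => ?_⟩
  have hmem : WittVector.mk p (fun k => (S (k + 1)).coeff k) - S m ∈
      RingHom.ker (WittVector.truncate (p := p) (R := R) m) := by
    rw [WittVector.mem_ker_truncate, ← WittVector.le_coeff_eq_iff_le_sub_coeff_eq_zero]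
    intro k hk
    rw [WittVector.coeff_mk]
    have h1 := hmono (k + 1) m hk
    rw [WittVector.mem_ker_truncate, ← WittVector.le_coeff_eq_iff_le_sub_coeff_eq_zero] at h1
    exact (h1 k (Nat.lt_succ_self k)).symm
  obtain ⟨w, hw⟩ := exists_eq_iterate_verschiebung_of_mem_ker hmem
  exact ⟨w, by rw [← hw]; ring⟩

/-- a Witt vector that is in `V^m W` for all `m` vanishes -/
theorem eq_zero_of_forall_exists (x : WittVector p R)
    (h : ∀ m, ∃ w, x = (⇑(WittVector.verschiebung : WittVector p R →+ WittVector p R))^[m] w) :
    x = 0 := by
  ext k
  obtain ⟨w, hw⟩ := h (k + 1)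
  rw [hw, WittVector.zero_coeff]
  exact WittVector.iterate_verschiebung_coeff_eq_zero _ (Nat.lt_succ_self k)

/-- one step of the `V`-adic expansion of a Witt vector along a spanning set. -/
theorem exists_expansion_step {A B : Type*} [CommRing A] [CommRing B] [Algebra A B]
    (M : Finset B) (hM : Submodule.span A (M : Set B) = ⊤) (η : WittVector p B) :
    ∃ (α : B → A) (η' : WittVector p B),
      η = (∑ μ ∈ M, WittVector.teichmuller p (algebraMap A B (α μ)) * WittVector.teichmuller p μ) +
        WittVector.verschiebung η' := by
  have h0 : η.coeff 0 ∈ Submodule.span A (M : Set B) := by rw [hM]; trivial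
  obtain ⟨g, -, hg⟩ := Submodule.mem_span_finset.mp h0
  refine ⟨g, (η - ∑ μ ∈ M, WittVector.teichmuller p (algebraMap A B (g μ)) *
    WittVector.teichmuller p μ).shift 1, ?_⟩
  have hz : ∀ i < 1, (η - ∑ μ ∈ M, WittVector.teichmuller p (algebraMap A B (g μ)) *
      WittVector.teichmuller p μ).coeff i = 0 := by
    intro i hi
    obtain rfl : i = 0 := by omega
    have : WittVector.constantCoeff (η - ∑ μ ∈ M, WittVector.teichmuller p (algebraMap A B (g μ)) *
      WittVector.teichmuller p μ) = 0 := by
      rw [map_sub, map_sum]
      simp only [map_mul]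
      have h1 : ∀ b : B, WittVector.constantCoeff (WittVector.teichmuller p b) = b :=
        fun b => WittVector.teichmuller_coeff_zero p b
      simp only [h1]
      rw [sub_eq_zero]
      show η.coeff 0 = _
      rw [← hg]
      refine Finset.sum_congr rfl (fun μ _ => ?_)
      rw [Algebra.smul_def]
    exact this
  have := WittVector.eq_iterate_verschiebung hz
  rw [Function.iterate_one] at this
  rw [← this]
  ring

end Groth.Agent.Lib.Helper60.WittVadic
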